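import Cfsg.Agent.Lib.ConjRankThree.Main
import Cfsg.Agent.Lib.ThreeSizes.Basic
import Cfsg.Agent.Lib.SolvTI.Main

/-!
# Simple groups with four class sizes: general lemmas
-/

set_option autoImplicit false
set_option linter.style.haveILetI false
set_option linter.unusedSectionVars false

namespace Cfsg.Agent.ConjRankFour

open Cfsg.Agent.ConjRankThree

universe u

variable {G : Type u} [Group G] [Finite G]

/-- A simple group with four sizes of noncentral classes. -/
structure Rank (G : Type u) [Group G] : Prop where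
  simple : IsSimpleGroup G
  nonab : ∃ a b : G, a * b ≠ b * a
  four : (sizes G).ncard = 4

/-- The two ways into the list of groups with a good subgroup of even order. -/
def Listed (G : Type u) [Group G] : Prop :=
  (∃ K : Subgroup G, CNSimple.TIHyp K) ∨ CNSimple.CIT G

/-- A class size no other size properly divides. -/
def IsMin (G : Type u) [Group G] (a : ℕ) : Prop := ∀ g : G, g ≠ 1 → ind g ∣ a → ind g = a

/-- A class size which properly divides no other size. -/
def IsMax (G : Type u) [Group G] (b : ℕ) : Prop := ∀ g : G, g ≠ 1 → b ∣ ind g → ind g = b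

theorem ne_one_of_orderOf {g : G} {n : ℕ} (hn : n ≠ 1) (h : orderOf g = n) : g ≠ 1 := fun e => hn (by
  rw [← h, e, orderOf_one])

theorem cen_mul {g w : G} (hc : w ∈ cen g) (hco : (orderOf g).Coprime (orderOf w)) :
    cen (g * w) = cen g ⊓ cen w := by
  refine le_antisymm (cen_mul_le (mem_cen.1 hc).symm hco) fun y hy => mem_cen.2 ?_
  exact (Commute.mul_right (mem_cen.1 hy.1) (mem_cen.1 hy.2)).eq

theorem mul_ne_one_of_coprime {g w : G} (hg : g ≠ 1) (hco : (orderOf g).Coprime (orderOf w)) :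
    g * w ≠ 1 := fun e => hg (orderOf_eq_one_iff.1 (by
  rw [eq_inv_of_mul_eq_one_left e, orderOf_inv] at hco ⊢
  exact (Nat.coprime_self _).1 hco))

theorem ind_mul_dvd {g w : G} (hc : w ∈ cen g) (hco : (orderOf g).Coprime (orderOf w)) :
    ind g ∣ ind (g * w) ∧ ind w ∣ ind (g * w) :=
  ⟨ind_dvd ((cen_mul hc hco).le.trans inf_le_left), ind_dvd ((cen_mul hc hco).le.trans inf_le_right)⟩

theorem cen_le_of_ind_mul {g w : G} (hc : w ∈ cen g) (hco : (orderOf g).Coprime (orderOf w))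
    (e : ind (g * w) = ind g) : cen g ≤ cen w := by
  rw [← eq_of_le_of_ind ((cen_mul hc hco).le.trans inf_le_left) e]
  exact (cen_mul hc hco).le.trans inf_le_right

/-- An element whose size has no proper multiple has central elements of coprime order in its centraliser. -/
theorem cen_le_of_isMax {g w : G} (hg : g ≠ 1) (hmax : IsMax G (ind g)) (hc : w ∈ cen g)
    (hco : (orderOf g).Coprime (orderOf w)) : cen g ≤ cen w :=
  cen_le_of_ind_mul hc hco (hmax _ (mul_ne_one_of_coprime hg hco) (ind_mul_dvd hc hco).1)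

theorem IsMin.cen_eq {g h : G} (hmin : IsMin G (ind h)) (hg : g ≠ 1) (e : cen h ≤ cen g) :
    cen h = cen g :=
  eq_of_le_of_ind e (hmin g hg (ind_dvd e)).symm

theorem cen_pow_eq {g : G} (hmin : IsMin G (ind g)) (j : ℕ) (hj : g ^ j ≠ 1) :
    cen g = cen (g ^ j) :=
  hmin.cen_eq hj (le_cen_pow g j)

/-- A subgroup in which the elements of order prime to `r` are central has a normal Sylow `r`-subgroup. -/
theorem nilpotent_of_central {C : Subgroup G} {r : ℕ} (hr : r.Prime)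
    (hcen : ∀ w ∈ C, (orderOf w).Coprime r → ∀ v ∈ C, v * w = w * v) :
    Group.IsNilpotent C ∧ ∃ R : Subgroup G, IsPGroup r R ∧ R ≤ C ∧
      ∀ g ∈ C, (∃ k : ℕ, g ^ r ^ k = 1) → g ∈ R := by
  haveI := Fact.mk hr
  have hp : IsPGroup r (C ⧸ Subgroup.center C) := by
    intro q
    obtain ⟨g, rfl⟩ := QuotientGroup.mk_surjective q
    refine ⟨(orderOf g).factorization r, ?_⟩
    rw [← QuotientGroup.mk_pow, QuotientGroup.eq_one_iff, Subgroup.mem_center_iff]
    intro v
    refine Subtype.ext (hcen _ (g ^ r ^ (orderOf g).factorization r).2 ?_ v v.2)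
    rw [Subgroup.orderOf_coe, orderOf_pow_of_dvd (pow_ne_zero _ hr.ne_zero) (Nat.ordProj_dvd _ _)]
    exact (Nat.coprime_ordCompl hr (orderOf_pos g).ne').symm
  haveI := hp.isNilpotent
  haveI hnil : Group.IsNilpotent C := Group.of_quotient_center_nilpotent inferInstance
  obtain ⟨R⟩ : Nonempty (Sylow r C) := inferInstance
  haveI : (R : Subgroup C).Normal := R.normal_of_normalizerCondition
    (Group.normalizerCondition_of_isNilpotent (G := C))
  refine ⟨hnil, (R : Subgroup C).map C.subtype, R.isPGroup'.map _, Subgroup.map_subtype_le _, ?_⟩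
  rintro g hg ⟨k, hk⟩
  have hz : IsPGroup r (Subgroup.zpowers (⟨g, hg⟩ : C)) := by
    obtain ⟨i, -, hi⟩ := (Nat.dvd_prime_pow hr).1 (orderOf_dvd_of_pow_eq_one
      (show (⟨g, hg⟩ : C) ^ r ^ k = 1 from Subtype.ext hk))
    exact IsPGroup.of_card (by rw [Nat.card_zpowers, hi])
  obtain ⟨R', hR'⟩ := hz.exists_le_sylow
  haveI := R.unique_of_normal inferInstance
  rw [Subsingleton.elim R' R] at hR'
  exact ⟨⟨g, hg⟩, hR' (Subgroup.mem_zpowers _), rfl⟩

/-- A centraliser all whose primary elements are central is commutative. -/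
theorem comm_of_primary {C : Subgroup G}
    (h : ∀ w ∈ C, ∀ l : ℕ, l.Prime → ThreeSizes.PEl l w → ∀ v ∈ C, v * w = w * v) :
    ∀ u ∈ C, ∀ v ∈ C, u * v = v * u := by
  intro u hu v hv
  by_contra hne
  have hnc : (⟨v, hv⟩ : C) ∉ Subgroup.center C := fun hc => hne
    (congrArg Subtype.val (Subgroup.mem_center_iff.1 hc ⟨u, hu⟩))
  obtain ⟨l, n, hl, hp, hn⟩ := ThreeSizes.exists_primary_not_mem hnc
  exact hn (Subgroup.mem_center_iff.2 fun y => Subtype.ext
    (h _ ((⟨v, hv⟩ : C) ^ n).2 l hl hp.coe y y.2))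

/-- An odd order element inverted by some element has even class size. -/
theorem two_dvd_ind_of_real {g k : G} (hk : Odd (orderOf k)) (hk1 : k ≠ 1) (hinv : g * k * g⁻¹ = k⁻¹) :
    2 ∣ ind k := by
  by_contra hnd
  set N := Subgroup.normalizer (cen k : Set G)
  have hgN : g ∈ N := by
    rw [Subgroup.mem_normalizer_iff_map_conj_eq]
    show (cen k).map (MulAut.conj g).toMonoidHom = cen k
    rw [← cen_conj, hinv, cen_inv]
  haveI : ((cen k).subgroupOf N).Normal := Subgroup.normal_in_normalizer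
  set j := (orderOf g).factorization 2
  set m := orderOf g / 2 ^ j with hm
  have hmo : Odd m := by
    rw [← Nat.not_even_iff_odd, even_iff_two_dvd]
    exact Nat.not_dvd_ordCompl Nat.prime_two (orderOf_pos g).ne'
  have hg2 : (g ^ m) ^ 2 ^ j = 1 := by
    rw [← pow_mul, mul_comm, hm, Nat.ordProj_mul_ordCompl_eq_self, pow_orderOf_eq_one]
  -- the odd power still inverts
  have hmk : g ^ m * k * (g ^ m)⁻¹ = k⁻¹ := by
    obtain ⟨i, hi⟩ := hmo
    have h2 : ∀ i : ℕ, g ^ (2 * i) * k * (g ^ (2 * i))⁻¹ = k := by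
      intro i
      induction i with
      | zero => simp
      | succ i ih =>
        rw [show 2 * (i + 1) = 2 * i + 2 by ring, pow_add]
        calc g ^ (2 * i) * g ^ 2 * k * (g ^ (2 * i) * g ^ 2)⁻¹
            = g ^ (2 * i) * (g * (g * k * g⁻¹) * g⁻¹) * (g ^ (2 * i))⁻¹ := by simp [pow_two, mul_assoc]
          _ = g ^ (2 * i) * k * (g ^ (2 * i))⁻¹ := by
            rw [hinv, show g * k⁻¹ * g⁻¹ = (g * k * g⁻¹)⁻¹ by group, hinv, inv_inv]
          _ = k := ih
    rw [hi, pow_succ', show g * g ^ (2 * i) * k * (g * g ^ (2 * i))⁻¹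
      = g * (g ^ (2 * i) * k * (g ^ (2 * i))⁻¹) * g⁻¹ by group, h2, hinv]
  have hmem : g ^ m ∈ cen k := by
    set q : N ⧸ (cen k).subgroupOf N := QuotientGroup.mk ⟨g ^ m, pow_mem hgN m⟩
    have h1 : orderOf q ∣ 2 ^ j := orderOf_dvd_of_pow_eq_one (by
      rw [← QuotientGroup.mk_pow, QuotientGroup.eq_one_iff, Subgroup.mem_subgroupOf]
      simp [hg2])
    have h2 : orderOf q ∣ (cen k).relIndex N := orderOf_dvd_natCard q
    have h3 : (cen k).relIndex N ∣ ind k := Subgroup.relIndex_dvd_index_of_le (by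
      exact Subgroup.le_normalizer)
    obtain ⟨i, -, hi⟩ := (Nat.dvd_prime_pow Nat.prime_two).1 h1
    have hi0 : i = 0 := by
      by_contra hne
      exact hnd ((dvd_pow_self 2 hne).trans (hi ▸ h2.trans h3))
    have h4 : q = 1 := orderOf_eq_one_iff.1 (by rw [hi, hi0, pow_zero])
    rwa [QuotientGroup.eq_one_iff, Subgroup.mem_subgroupOf] at h4
  rw [mem_cen.1 hmem, mul_inv_cancel_right] at hmk
  have h2 : k ^ 2 = 1 := by rw [pow_two]; nth_rw 2 [hmk]; exact mul_inv_cancel k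
  exact hk1 (orderOf_eq_one_iff.1 (Nat.eq_one_of_dvd_coprimes (Nat.coprime_two_right.2 hk) dvd_rfl
    (orderOf_dvd_of_pow_eq_one h2)))

namespace Rank

variable (h : Rank G)
include h

theorem center : Subgroup.center G = ⊥ :=
  haveI := h.simple
  ConjRankThree.center_eq_bot h.nonab

theorem mem_sizes {g : G} (hg : g ≠ 1) : ind g ∈ sizes G :=
  ⟨g, by rw [h.center, Subgroup.mem_bot]; exact hg, rfl⟩

theorem exists_ind {m : ℕ} (hm : m ∈ sizes G) : ∃ g : G, g ≠ 1 ∧ ind g = m := by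
  obtain ⟨g, hg, rfl⟩ := hm
  exact ⟨g, fun e => hg (e ▸ Subgroup.one_mem _), rfl⟩

theorem one_lt {g : G} (hg : g ≠ 1) : 1 < ind g := one_lt_ind h.center hg

theorem cases {a b c d : ℕ} (ha : a ∈ sizes G) (hb : b ∈ sizes G) (hc : c ∈ sizes G) (hd : d ∈ sizes G)
    (hab : a ≠ b) (hac : a ≠ c) (had : a ≠ d) (hbc : b ≠ c) (hbd : b ≠ d) (hcd : c ≠ d)
    {g : G} (hg : g ≠ 1) : ind g = a ∨ ind g = b ∨ ind g = c ∨ ind g = d := by
  have hfin : (sizes G).Finite := Set.finite_of_ncard_ne_zero (by rw [h.four]; omega)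
  have he : ({a, b, c, d} : Set ℕ) = sizes G := by
    refine Set.eq_of_subset_of_ncard_le ?_ ?_ hfin
    · rintro m (rfl | rfl | rfl | rfl) <;> assumption
    · rw [h.four, Set.ncard_insert_of_notMem (by simp [hab, hac, had]),
        Set.ncard_insert_of_notMem (by simp [hbc, hbd]), Set.ncard_pair hcd]
  have := h.mem_sizes hg
  rw [← he] at this
  simpa using this

theorem exists_fourth (a b c : ℕ) : ∃ g : G, g ≠ 1 ∧ ind g ≠ a ∧ ind g ≠ b ∧ ind g ≠ c := by
  have hle : ({a, b, c} : Set ℕ).ncard ≤ 3 := (Set.ncard_insert_le _ _).trans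
    (Nat.succ_le_succ ((Set.ncard_insert_le _ _).trans (by rw [Set.ncard_singleton])))
  obtain ⟨m, hm, hm'⟩ : ∃ m ∈ sizes G, m ∉ ({a, b, c} : Set ℕ) :=
    Set.exists_mem_notMem_of_ncard_lt_ncard (by rw [h.four]; omega)
  obtain ⟨g, hg, rfl⟩ := h.exists_ind hm
  simp only [Set.mem_insert_iff, Set.mem_singleton_iff, not_or] at hm'
  exact ⟨g, hg, hm'⟩

theorem not_prime_pow {g : G} (hg : g ≠ 1) {p k : ℕ} (hp : p.Prime) : ind g ≠ p ^ k := by
  intro e
  haveI := h.simple
  have hpr := Char.prime_card_of_class_prime_pow hp g hg e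
  haveI := Fact.mk hpr
  haveI : IsCyclic G := isCyclic_of_prime_card rfl
  obtain ⟨a, b, hab⟩ := h.nonab
  letI := IsCyclic.commGroup (α := G)
  exact hab (mul_comm a b)

theorem exists_prime_min {g : G} (hg : g ≠ 1) :
    ∃ x : G, (orderOf x).Prime ∧ IsMin G (ind x) ∧ ind x ∣ ind g := by
  classical
  obtain ⟨a, ⟨⟨y, hy, rfl, hyg⟩, hmin⟩⟩ : ∃ a, (∃ y : G, y ≠ 1 ∧ ind y = a ∧ ind y ∣ ind g) ∧
      ∀ w : G, w ≠ 1 → ind w ∣ a → a ≤ ind w := by
    have hex : ∃ a, ∃ y : G, y ≠ 1 ∧ ind y = a ∧ ind y ∣ ind g := ⟨_, g, hg, rfl, dvd_rfl⟩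
    obtain ⟨y, hy, hya, hyg⟩ := Nat.find_spec hex
    refine ⟨Nat.find hex, ⟨y, hy, hya, hyg⟩, fun w hw hd => Nat.find_min' hex ⟨w, hw, rfl, ?_⟩⟩
    exact hd.trans (hya ▸ hyg)
  have hm : IsMin G (ind y) := fun w hw hd =>
    le_antisymm (Nat.le_of_dvd (index_pos y) hd) (hmin w hw hd)
  obtain ⟨p, m, hp, -, hpm⟩ := exists_prime_pow hy
  have he := hm _ (ne_one_of_orderOf hp.ne_one hpm) (ind_dvd (le_cen_pow y m))
  exact ⟨y ^ m, hpm ▸ hp, he ▸ hm, he ▸ hyg⟩

/-- Two minimal sizes under which everything lies are coprime. -/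
theorem coprime_of_cover {a c : ℕ} (hc : ∃ g : G, g ≠ 1 ∧ ind g = c)
    (hcov : ∀ g : G, g ≠ 1 → a ∣ ind g ∨ c ∣ ind g) : a.Coprime c := by
  refine Nat.coprime_of_dvd fun p hp hpa hpc => ?_
  obtain ⟨g, hg, rfl⟩ := hc
  obtain ⟨w, hw, hwp, -⟩ := exists_not_dvd h.center hp (hpc.trans (cen g).index_dvd_card)
  rcases hcov w hw with h1 | h1
  · exact hwp (hpa.trans h1)
  · exact hwp (hpc.trans h1)

theorem not_comm_of_coprime {u v : G} (hu : u ≠ 1) (hv : v ≠ 1) (hco : (ind u).Coprime (ind v)) :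
    u ∉ cen v :=
  haveI := h.simple
  not_commute h.center hu hv hco

theorem card_of_trivial_meet {u v : G} (hco : (ind u).Coprime (ind v)) (hD : cen u ⊓ cen v = ⊥) :
    Nat.card G = ind u * ind v ∧ Nat.card (cen u) = ind v ∧ Nat.card (cen v) = ind u := by
  have hbij : Function.Bijective (fun p : cen u × cen v => (p.1 : G) * p.2) := by
    refine ⟨fun p q e => ?_, fun g => ?_⟩
    · have e' : (q.1 : G)⁻¹ * p.1 = q.2 * (p.2 : G)⁻¹ := by
        rw [eq_mul_inv_iff_mul_eq, mul_assoc, inv_mul_eq_iff_eq_mul]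
        exact e
      have h1 : (q.1 : G)⁻¹ * p.1 ∈ cen u ⊓ cen v :=
        ⟨(cen u).mul_mem ((cen u).inv_mem q.1.2) p.1.2,
          e' ▸ (cen v).mul_mem q.2.2 ((cen v).inv_mem p.2.2)⟩
      rw [hD, Subgroup.mem_bot] at h1
      exact Prod.ext (Subtype.ext (inv_mul_eq_one.1 h1).symm)
        (Subtype.ext (mul_inv_eq_one.1 (e'.symm.trans h1)).symm)
    · obtain ⟨j, hj, i, hi, e⟩ := exists_factor v u hco.symm g
      exact ⟨(⟨j, hj⟩, ⟨i, hi⟩), e.symm⟩
  have h1 := Nat.card_congr (Equiv.ofBijective _ hbij)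
  rw [Nat.card_prod] at h1
  have h2 := card_mul_ind u
  have h3 := card_mul_ind v
  have hu : Nat.card (cen v) = ind u := by
    refine Nat.eq_of_mul_eq_mul_left (Nat.card_pos (α := cen u)) ?_
    rw [h1, h2]
  have hv : Nat.card (cen u) = ind v := by
    refine Nat.eq_of_mul_eq_mul_left (Nat.card_pos (α := cen v)) ?_
    rw [h3, mul_comm, h1]
  exact ⟨by rw [← h1, hu, hv, mul_comm], hv, hu⟩

theorem listed_of_nilpotent {K : Subgroup G} (hnil : Group.IsNilpotent K) (h2 : 2 ∣ Nat.card K)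
    (hcent : ∀ k ∈ K, k ≠ 1 → cen k ≤ K) : Listed G := by
  haveI := h.simple
  have hne : K ≠ ⊥ := fun e => by rw [e, Subgroup.card_bot] at h2; omega
  refine Or.inl ⟨K, SolvTI.good_of hnil hne hcent, h2, fun htop => ?_⟩
  haveI := Subgroup.normalizer_eq_top_iff.1 htop
  rcases IsSimpleGroup.eq_bot_or_eq_top_of_normal K inferInstance with h1 | h1
  · exact hne h1
  · subst h1
    haveI : Group.IsNilpotent G := Group.nilpotent_of_mulEquiv Subgroup.topEquiv
    obtain ⟨a, b, hab⟩ := h.nonab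
    exact hab (IsSimpleGroup.comm_iff_isSolvable.2 inferInstance a b)

/-- The centraliser of an element of free size. -/
theorem free_cases {g : G} (hg : g ≠ 1) (hmin : IsMin G (ind g)) (hmax : IsMax G (ind g)) :
    ((∀ u ∈ cen g, ∀ v ∈ cen g, u * v = v * u) ∧ ∀ k ∈ cen g, k ≠ 1 → cen k = cen g) ∨
      ∃ r : ℕ, r.Prime ∧ IsPGroup r (cen g) := by
  obtain ⟨r, m, hr, -, hrm⟩ := exists_prime_pow hg
  have hg0 := ne_one_of_orderOf hr.ne_one hrm
  have he := cen_pow_eq hmin m hg0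
  set g0 := g ^ m with hg0def
  have hi : ind g0 = ind g := by rw [ind, ← he]
  -- an element of order prime to that of `x` has the centraliser of `x`
  have key : ∀ x w : G, cen x = cen g → x ≠ 1 → w ∈ cen g → w ≠ 1 → (orderOf x).Coprime (orderOf w) →
      cen w = cen g := by
    intro x w hx hx1 hw hw1 hco
    have hix : ind x = ind g := by rw [ind, hx]
    have h1 := cen_le_of_isMax hx1 (hix ▸ hmax) (hx.symm ▸ hw) hco
    rw [hx] at h1
    exact (hmin.cen_eq hw1 h1).symm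
  by_cases hcase : ∃ w ∈ cen g, w ≠ 1 ∧ (orderOf w).Coprime r
  · left
    obtain ⟨w, hw, hw1, hwr⟩ := hcase
    have hwe := key g0 w he.symm hg0 hw hw1 (hrm.symm ▸ hwr.symm)
    have hcomm : ∀ u ∈ cen g, ∀ v ∈ cen g, u * v = v * u := by
      refine comm_of_primary fun y hy l hl hyl v hv => ?_
      by_cases hy1 : y = 1
      · simp [hy1]
      obtain ⟨k, hk⟩ := hyl
      obtain ⟨i, -, hi⟩ := (Nat.dvd_prime_pow hl).1 (orderOf_dvd_of_pow_eq_one hk)
      have hye : cen y = cen g := by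
        by_cases hlr : l = r
        · subst hlr
          exact key w y hwe hw1 hy hy1 (hi ▸ hwr.pow_right i)
        · refine key g0 y he.symm hg0 hy hy1 ?_
          rw [hrm, hi]
          exact ((Nat.coprime_primes hr hl).2 (Ne.symm hlr)).pow_right i
      rw [← hye] at hv
      exact mem_cen.1 hv
    exact ⟨hcomm, fun k hk hk1 => (hmin.cen_eq hk1 fun y hy => mem_cen.2 (hcomm y hy k hk)).symm⟩
  · right
    push Not at hcase
    refine ⟨r, hr, IsPGroup.of_card (Nat.eq_prime_pow_of_unique_prime_dvd Nat.card_pos.ne'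
      fun {q} hq hqd => ?_)⟩
    by_contra hne
    haveI := Fact.mk hq
    obtain ⟨⟨w, hw⟩, hwq⟩ := exists_prime_orderOf_dvd_card' (G := cen g) q hqd
    rw [Subgroup.orderOf_mk] at hwq
    exact hcase w hw (ne_one_of_orderOf hq.ne_one hwq) (hwq ▸ (Nat.coprime_primes hq hr).2 hne)

end Rank

end Cfsg.Agent.ConjRankFour
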