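import Cfsg.Agent.Lib.LinearBlock.PSL2Sizes
import Cfsg.Agent.Lib.ConjRankThree.Converse

/-!
# `PSL₂(q)`, `q ≥ 7` odd, has four noncentral class sizes
-/

set_option autoImplicit false
set_option linter.style.haveILetI false

namespace Cfsg.Agent.ConjRankFour

open LinearBlock.PSL2Sizes

universe u

variable {F : Type} [Field F] [Fintype F]

theorem two_ne_zero_of_odd_card (hodd : Odd (Fintype.card F)) : (2 : F) ≠ 0 := fun h2 => by
  have hd : ringChar F ∣ 2 := (ringChar.spec F 2).1 (by exact_mod_cast h2)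
  rcases (Nat.dvd_prime Nat.prime_two).1 hd with h | h
  · haveI : CharP F 1 := h ▸ ringChar.charP F
    exact one_ne_zero (α := F) (by exact_mod_cast (CharP.cast_eq_zero F 1))
  · exact Nat.not_even_iff_odd.2 hodd (Nat.even_iff.2 (FiniteField.even_card_iff_char_two.1 h))

theorem sizes_psl (hodd : Odd (Fintype.card F)) (h7 : 7 ≤ Fintype.card F)
    (hs : IsSimpleGroup (Matrix.ProjectiveSpecialLinearGroup (Fin 2) F)) :
    ¬ IsMulCommutative (Matrix.ProjectiveSpecialLinearGroup (Fin 2) F) ∧
    Set.ncard {m : ℕ | ∃ x : Matrix.ProjectiveSpecialLinearGroup (Fin 2) F,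
      x ∉ Subgroup.center (Matrix.ProjectiveSpecialLinearGroup (Fin 2) F) ∧
        m = (Subgroup.centralizer ({x} : Set (Matrix.ProjectiveSpecialLinearGroup (Fin 2) F))).index} = 4 := by
  have h2 := two_ne_zero_of_odd_card hodd
  have hr := range_odd (F := F) h2 (by rwa [Nat.card_eq_fintype_card])
    (by rw [Nat.card_eq_fintype_card]; exact Nat.odd_iff.1 hodd)
  simp only [Nat.card_eq_fintype_card] at hr
  set q := Fintype.card F
  have hq1 : 7 * 6 ≤ q * (q - 1) := Nat.mul_le_mul h7 (by omega)
  have hq2 : q * (q - 1) < q * (q + 1) := Nat.mul_lt_mul_of_pos_left (by omega) (by omega)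
  have hsq : q ^ 2 - 1 = q * q - 1 := by rw [pow_two]
  have hqq : q * q = q * (q - 1) + q := by rw [← Nat.mul_succ, Nat.succ_eq_add_one]; congr 1; omega
  have hq3 : q * (q + 1) = q * q + q := by ring
  have hncomm : ¬ IsMulCommutative (Matrix.ProjectiveSpecialLinearGroup (Fin 2) F) := fun hc => by
    have hm : q * (q - 1) ∈ Set.range
        (fun x : Matrix.ProjectiveSpecialLinearGroup (Fin 2) F => cls x) := by
      rw [hr]; simp
    obtain ⟨x, hx⟩ := hm
    have h1 : cls x = 1 := Subgroup.index_eq_one.2 (eq_top_iff.2 fun g _ =>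
      Subgroup.mem_centralizer_singleton_iff.2 (hc.is_comm.comm g x))
    simp only [h1] at hx
    omega
  refine ⟨hncomm, ?_⟩
  have hz : Subgroup.center (Matrix.ProjectiveSpecialLinearGroup (Fin 2) F) = ⊥ :=
    ((Subgroup.Normal.eq_bot_or_eq_top (by infer_instance)).resolve_right fun h => hncomm
      ⟨⟨fun a b => Subgroup.mem_center_iff.1 (h ▸ Subgroup.mem_top b) a⟩⟩)
  have hset : {m : ℕ | ∃ x : Matrix.ProjectiveSpecialLinearGroup (Fin 2) F,
      x ∉ Subgroup.center (Matrix.ProjectiveSpecialLinearGroup (Fin 2) F) ∧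
        m = (Subgroup.centralizer ({x} : Set (Matrix.ProjectiveSpecialLinearGroup (Fin 2) F))).index} =
      {(q ^ 2 - 1) / 2, (if q % 4 = 1 then q * (q + 1) / 2 else q * (q - 1) / 2),
        q * (q - 1), q * (q + 1)} := by
    ext m
    constructor
    · rintro ⟨x, hx, rfl⟩
      have h1 : cls x ∈ Set.range (fun x : Matrix.ProjectiveSpecialLinearGroup (Fin 2) F => cls x) :=
        ⟨x, rfl⟩
      rw [hr] at h1
      rcases h1 with h1 | h1
      · exfalso
        rw [hz, Subgroup.mem_bot] at hx
        have h2' := Subgroup.index_eq_one.1 h1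
        refine hx (Subgroup.mem_bot.1 (hz ▸ Subgroup.mem_center_iff.2 fun g => ?_))
        exact Subgroup.mem_centralizer_singleton_iff.1 (h2' ▸ Subgroup.mem_top g)
      · exact h1
    · intro hm
      have hm' : m ∈ Set.range (fun x : Matrix.ProjectiveSpecialLinearGroup (Fin 2) F => cls x) := by
        rw [hr]; exact Or.inr hm
      obtain ⟨x, rfl⟩ := hm'
      refine ⟨x, fun hx => ?_, rfl⟩
      rw [hz, Subgroup.mem_bot] at hx
      subst hx
      simp only [cls_one, Set.mem_insert_iff, Set.mem_singleton_iff] at hm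
      split_ifs at hm <;> omega
  rw [hset, hsq]
  have h8 : 8 * q ≤ q * q + q := by rw [← hq3, mul_comm 8 q]; exact Nat.mul_le_mul_left _ (by omega)
  have h6 : 7 * q ≤ q * q := Nat.mul_le_mul_right _ h7
  generalize q * q = A at *
  generalize q * (q - 1) = B at *
  generalize q * (q + 1) = C at *
  split_ifs with h4
  · rw [Set.ncard_insert_of_notMem (by simp; omega), Set.ncard_insert_of_notMem (by simp; omega),
      Set.ncard_pair (by omega)]
  · rw [Set.ncard_insert_of_notMem (by simp; omega), Set.ncard_insert_of_notMem (by simp; omega),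
      Set.ncard_pair (by omega)]

/-- The converse direction of the rank four theorem. -/
theorem converse {G : Type u} [Group G] [Finite G] (hodd : Odd (Fintype.card F)) (h7 : 7 ≤ Fintype.card F)
    (e : G ≃* Matrix.ProjectiveSpecialLinearGroup (Fin 2) F) :
    IsSimpleGroup G ∧ ¬ IsMulCommutative G ∧
      Set.ncard {m : ℕ | ∃ x : G, x ∉ Subgroup.center G ∧
        m = (Subgroup.centralizer ({x} : Set G)).index} = 4 := by
  haveI hs : IsSimpleGroup (Matrix.ProjectiveSpecialLinearGroup (Fin 2) F) :=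
    Matrix.ProjectiveSpecialLinearGroup.rank_two_simple (by rw [Nat.card_eq_fintype_card]; omega)
  obtain ⟨hn, h4⟩ := sizes_psl hodd h7 hs
  haveI : Nontrivial G := e.toEquiv.nontrivial
  refine ⟨IsSimpleGroup.isSimpleGroup_of_surjective e.symm.toMonoidHom e.symm.surjective,
    fun hc => hn ⟨⟨fun a b => e.symm.injective (by rw [map_mul, map_mul]; exact hc.is_comm.comm _ _)⟩⟩, ?_⟩
  exact (congrArg Set.ncard (ConjRankThree.sizes_equiv e)).trans h4

end Cfsg.Agent.ConjRankFour
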