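import Cfsg.Agent.Lib.ConjRankFour.Setting

/-!
# The centraliser of an involution with a normal subgroup of odd order
-/

set_option autoImplicit false
set_option linter.style.haveILetI false
set_option linter.unusedSectionVars false

namespace Cfsg.Agent.ConjRankFour

open Cfsg.Agent.ConjRankThree

universe u

variable {G : Type u} [Group G] [Finite G]

/-- The centraliser is a generalised dihedral group over an abelian subgroup with odd elements. -/
structure DType (v : G) (X : Subgroup G) : Prop where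
  le : X ≤ cen v
  comm : ∀ x ∈ X, ∀ y ∈ X, x * y = y * x
  out : ∀ g ∈ cen v, g ∉ X → g * g = 1 ∧ ∀ x ∈ X, g * x * g⁻¹ = x⁻¹
  mul_out : ∀ g ∈ cen v, ∀ h ∈ cen v, g ∉ X → h ∉ X → g * h ∈ X
  exists_out : ∃ g ∈ cen v, g ∉ X
  exists_odd : ∃ y ∈ X, Odd (orderOf y) ∧ y ≠ 1

theorem sylow_le_map {p : ℕ} [Fact p.Prime] {L M : Subgroup G} (P : Sylow p M) (hL : IsPGroup p L)
    (hLM : L ≤ M) (hPL : (P : Subgroup M).map M.subtype ≤ L) : L = (P : Subgroup M).map M.subtype := by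
  refine (Subgroup.eq_of_le_of_card_ge hPL ?_).symm
  rw [Subgroup.card_subtype]
  exact card_le_sylow hL hLM P

/-- A `p`-element normalising a large `p`-subgroup of `C` lies in it. -/
theorem absorb {p : ℕ} [Fact p.Prime] {R C : Subgroup G} (hR : IsPGroup p R) (hRC : R ≤ C)
    (hcard : p ^ (Nat.card C).factorization p ≤ Nat.card R) {r : G} (hrC : r ∈ C)
    (hr : ThreeSizes.PEl p r) (hn : r ∈ Subgroup.normalizer (R : Set G)) : r ∈ R := by
  have hz : IsPGroup p (Subgroup.zpowers r) := by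
    obtain ⟨k, hk⟩ := hr
    obtain ⟨i, -, hi⟩ := (Nat.dvd_prime_pow (Fact.out : p.Prime)).1 (orderOf_dvd_of_pow_eq_one hk)
    exact IsPGroup.of_card (n := i) (by rw [Nat.card_zpowers, hi])
  obtain ⟨P⟩ : Nonempty (Sylow p C) := inferInstance
  have h1 := card_le_sylow (hz.to_sup_of_normal_right' hR (Subgroup.zpowers_le.2 hn))
    (sup_le (Subgroup.zpowers_le.2 hrC) hRC) P
  rw [P.card_eq_multiplicity] at h1
  exact (Subgroup.eq_of_le_of_card_ge (le_sup_right : R ≤ Subgroup.zpowers r ⊔ R)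
    (h1.trans hcard)).ge (Subgroup.mem_sup_left (Subgroup.mem_zpowers r))

theorem exists_conj_into {p : ℕ} [Fact p.Prime] {M : Subgroup G} (P : Sylow p M) {g : G} (hg : g ∈ M)
    (hp : ThreeSizes.PEl p g) : ∃ c ∈ M, c * g * c⁻¹ ∈ (P : Subgroup M).map M.subtype := by
  obtain ⟨k, hk⟩ := hp
  obtain ⟨i, -, hi⟩ := (Nat.dvd_prime_pow (Fact.out : p.Prime)).1
    (orderOf_dvd_of_pow_eq_one (show (⟨g, hg⟩ : M) ^ p ^ k = 1 from Subtype.ext hk))
  obtain ⟨Q, hQ⟩ := (IsPGroup.of_card (n := i) (by rw [Nat.card_zpowers, hi]) :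
    IsPGroup p (Subgroup.zpowers (⟨g, hg⟩ : M))).exists_le_sylow
  obtain ⟨c, hc⟩ := MulAction.exists_smul_eq M Q P
  refine ⟨c, c.2, c * ⟨g, hg⟩ * c⁻¹, ?_, rfl⟩
  rw [← hc]
  exact ⟨_, hQ (Subgroup.mem_zpowers _), rfl⟩

theorem pel_mul_self {g : G} (h : g * g = 1) : ThreeSizes.PEl 2 g :=
  ⟨1, by rw [pow_one, pow_two, h]⟩

theorem odd_of_pow {g : G} (hg : Odd (orderOf g)) (n : ℕ) : Odd (orderOf (g ^ n)) :=
  hg.of_dvd_nat (orderOf_pow_dvd n)

/-- An element of odd order commutes with what its square commutes with. -/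
theorem commute_of_sq {g y : G} (hg : Odd (orderOf g)) (h : g * g * y = y * (g * g)) :
    g * y = y * g := by
  obtain ⟨i, hi⟩ := hg
  have h1 : (g * g) ^ (i + 1) = g := by
    rw [← pow_two, ← pow_mul, show 2 * (i + 1) = (2 * i + 1) + 1 by ring, pow_add, ← hi,
      pow_orderOf_eq_one, one_mul, pow_one]
  have h2 : Commute ((g * g) ^ (i + 1)) y := Commute.pow_left h _
  rw [h1] at h2
  exact h2.eq

theorem eq_one_of_sq_of_odd {g : G} (hg : Odd (orderOf g)) (h : g * g = 1) : g = 1 :=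
  ThreeSizes.eq_one_of_coprime (Nat.coprime_two_right.2 hg) (pow_orderOf_eq_one g) (by rw [pow_two, h])

namespace Inv

variable {v : G} {b : ℕ} (w : Inv v b) {q : ℕ} [Fact q.Prime] (hq : q ≠ 2)
include w hq

local notation "O" => CharP.opIn q (cen v)

theorem odd_mem_O {r : G} (hr : r ∈ O) : Odd (orderOf r) :=
  odd_of_pel Fact.out hq (ThreeSizes.PEl.of_isPGroup (CharP.opIn_isPGroup (cen v)) hr)

theorem typeb_comm {g : G} (hg : g ∈ cen v) (h2 : ThreeSizes.PEl 2 g) (hb : ind g = b) :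
    ∀ r ∈ O, g * r = r * g := by
  by_cases hg1 : g = 1
  · intro r _; simp [hg1]
  obtain ⟨P⟩ : Nonempty (Sylow q (cen g)) := inferInstance
  set R : Subgroup G := (P : Subgroup (cen g)).map (cen g).subtype
  have hRg : R ≤ cen g := Subgroup.map_subtype_le _
  have hRp : IsPGroup q R := P.isPGroup'.map _
  have hRpel : ∀ y ∈ R, ThreeSizes.PEl q y := fun y hy => (ThreeSizes.PEl.of_isPGroup hRp hy)
  have hRv : R ≤ cen v := fun y hy => mem_symm
    (w.odd_central hg1 h2 hb (hRg hy) (odd_of_pel Fact.out hq (hRpel y hy)) (mem_symm hg))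
  refine CharP.pxq (CharP.opIn_isPGroup (cen v)) hRp (hRv.trans (CharP.le_normalizer_opIn _))
    (orderOf_coprime_of_pel Nat.prime_two Fact.out (Ne.symm hq) h2) (CharP.le_normalizer_opIn _ hg)
    (fun y hy => (mem_cen.1 (hRg hy)).symm) fun r hr hrR => ?_
  have hrv : r ∈ cen v := CharP.opIn_le _ hr
  by_cases hrz : r ∈ Zc v
  · exact mem_cen.1 ((mem_Zc.1 hrz).2 hg)
  have hro := w.odd_mem_O hq hr
  refine (mem_cen.1 (hRg (absorb hRp (C := cen v ⊓ cen r) (le_inf hRv fun y hy => mem_cen.2 (hrR y hy).symm)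
    ?_ ⟨hrv, self_mem r⟩ (ThreeSizes.PEl.of_isPGroup (CharP.opIn_isPGroup (cen v)) hr) ?_))).symm
  · rw [w.card_cv hrv hro hrz hb, Subgroup.card_subtype, P.card_eq_multiplicity]
  · refine Subgroup.centralizer_le_normalizer _ (Subgroup.mem_centralizer_iff.2 fun y hy => (hrR y hy).symm)

theorem out_invol {g : G} (hg : g ∈ cen v) (h2 : ThreeSizes.PEl 2 g) {r : G} (hr : r ∈ O)
    (hne : g * r ≠ r * g) : g * g = 1 := by
  have hz : g ∉ Zc v := fun h => hne (mem_cen.1 ((mem_Zc.1 h).2 (CharP.opIn_le _ hr))).symm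
  refine w.sq_eq_one hg hz (fun e => hne (w.typeb_comm hq hg h2 e r hr)) fun e => hne ?_
  have h1 : Commute r (g * v) := (w.typeb_comm hq (mul_mem hg (self_mem v))
    (ThreeSizes.PEl.mul (mem_cen.1 hg) h2 (pel_two w.ord)) e r hr).symm
  have hv : Commute r v := mem_cen.1 (CharP.opIn_le _ hr)
  simpa using (h1.mul_right hv.inv_right).eq.symm

end Inv

/-- A Sylow subgroup of the centraliser of an involution does not centralise an element of type `b`. -/
theorem Inv.not_sylow_le {v : G} {b : ℕ} (_w : Inv v b) (he : 2 * ind v ∣ b) {C : Subgroup G}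
    (hC : Nat.card C * b = Nat.card G) (S : Sylow 2 (cen v))
    (hS : (S : Subgroup (cen v)).map (cen v).subtype ≤ C) : False := by
  haveI : Fact (Nat.Prime 2) := ⟨Nat.prime_two⟩
  obtain ⟨j, rfl⟩ := he
  have h1 : Nat.card (cen v) = 2 * (Nat.card C * j) := by
    refine Nat.eq_of_mul_eq_mul_right (index_pos v) ?_
    rw [card_mul_ind v, ← hC]
    ring
  have h2 := Subgroup.card_dvd_of_le hS
  rw [Subgroup.card_subtype, S.card_eq_multiplicity] at h2
  have h3 := (Nat.prime_two.pow_dvd_iff_le_factorization Nat.card_pos.ne').1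
    (show 2 ^ ((Nat.card (cen v)).factorization 2 + 1) ∣ Nat.card (cen v) by
      nth_rw 2 [h1]
      rw [pow_succ']
      exact Nat.mul_dvd_mul_left 2 (h2.mul_right j))
  omega

namespace Inv

variable {v : G} {b : ℕ} (w : Inv v b) (he : 2 * ind v ∣ b) {q : ℕ} [Fact q.Prime] (hq : q ≠ 2)
  (S : Sylow 2 (cen v))
include w he hq

local notation "O" => CharP.opIn q (cen v)
local notation "SS" => Subgroup.map (Subgroup.subtype (cen v)) (S : Subgroup (cen v))

theorem card_cen {y : G} (hy : y ∈ cen v) (hodd : Odd (orderOf y)) (hne : y ∉ Zc v) :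
    Nat.card ↥(cen v ⊓ cen y) * b = Nat.card G := by
  rw [← w.cen_mul_v hy hodd, ← w.ind_mul_v hy hodd hne, card_mul_ind]

theorem inverts {s t : G} (hs : s ∈ SS) (hsO : s ∉ Subgroup.centralizer (O : Set G)) (ht : t ∈ SS)
    (htO : t ∈ Subgroup.centralizer (O : Set G)) : s * t * s⁻¹ = t⁻¹ := by
  have hsq : ∀ g ∈ SS, g ∉ Subgroup.centralizer (O : Set G) → g * g = 1 := fun g hg hgO => by
    rw [Subgroup.mem_centralizer_iff] at hgO
    push Not at hgO
    obtain ⟨r, hr, hne⟩ := hgO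
    exact w.out_invol hq (Subgroup.map_subtype_le _ hg)
      (ThreeSizes.PEl.of_isPGroup (S.isPGroup'.map _) hg) hr (Ne.symm hne)
  have h1 := hsq _ (mul_mem hs ht) fun h => hsO (by simpa using mul_mem h (inv_mem htO))
  have h2 := hsq s hs hsO
  rw [inv_eq_of_mul_eq_one_right h2]
  refine eq_inv_of_mul_eq_one_left ?_
  rw [← mul_assoc] at h1
  exact h1

theorem exists_out_S {r : G} (hr : r ∈ O) (hrz : r ∉ Zc v) :
    ∃ s ∈ SS, s ∉ Subgroup.centralizer (O : Set G) := by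
  by_contra hc
  push Not at hc
  refine w.not_sylow_le he (w.card_cen he hq (CharP.opIn_le _ hr) (w.odd_mem_O hq hr) hrz) S fun s hs => ?_
  exact ⟨Subgroup.map_subtype_le _ hs,
    mem_cen.2 (Subgroup.mem_centralizer_iff.1 (hc s hs) r hr).symm⟩

theorem sq_or_index :
    (∀ x ∈ SS, x * x = 1) ∨ ∀ s ∈ SS, ∀ s' ∈ SS, s ∉ Subgroup.centralizer (O : Set G) →
      s' ∉ Subgroup.centralizer (O : Set G) → s * s' ∈ Subgroup.centralizer (O : Set G) := by
  by_cases hc : ∀ s ∈ SS, ∀ s' ∈ SS, s ∉ Subgroup.centralizer (O : Set G) →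
      s' ∉ Subgroup.centralizer (O : Set G) → s * s' ∈ Subgroup.centralizer (O : Set G)
  · exact Or.inr hc
  left
  push Not at hc
  obtain ⟨s, hs, s', hs', h1, h2, h3⟩ := hc
  intro x hx
  by_cases hxO : x ∈ Subgroup.centralizer (O : Set G)
  · have e1 := w.inverts he hq S hs h1 hx hxO
    have e2 := w.inverts he hq S hs' h2 hx hxO
    have e3 := w.inverts he hq S (mul_mem hs hs') h3 hx hxO
    rw [show s * s' * x * (s * s')⁻¹ = s * (s' * x * s'⁻¹) * s⁻¹ by group, e2,
      show s * x⁻¹ * s⁻¹ = (s * x * s⁻¹)⁻¹ by group, e1, inv_inv] at e3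
    nth_rw 1 [e3]
    exact inv_mul_cancel x
  · rw [Subgroup.mem_centralizer_iff] at hxO
    push Not at hxO
    obtain ⟨r, hr, hne⟩ := hxO
    exact w.out_invol hq (Subgroup.map_subtype_le _ hx)
      (ThreeSizes.PEl.of_isPGroup (S.isPGroup'.map _) hx) hr (Ne.symm hne)

theorem central_false {z : G} (hz : z ∈ Zc v) (hz1 : z ≠ 1) (hzodd : Odd (orderOf z))
    (hO : ∃ r ∈ O, r ∉ Zc v) : False := by
  haveI : Fact (Nat.Prime 2) := ⟨Nat.prime_two⟩
  obtain ⟨S⟩ : Nonempty (Sylow 2 (cen v)) := inferInstance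
  obtain ⟨r0, hr0, hr0z⟩ := hO
  obtain ⟨s, hs, hsO⟩ := w.exists_out_S he hq S hr0 hr0z
  have hsv : s ∈ cen v := Subgroup.map_subtype_le _ hs
  have hs2 := ThreeSizes.PEl.of_isPGroup (S.isPGroup'.map (cen v).subtype) hs
  have hsz : s ∉ Zc v := fun h => hsO (Subgroup.mem_centralizer_iff.2 fun r hr =>
    mem_cen.1 ((mem_Zc.1 h).2 (CharP.opIn_le _ hr)))
  have hzc : cen z = cen v := w.cen_eq_of_central hz hz1
  have hzs : z ∈ cen s := mem_symm ((mem_Zc.1 hz).2 hsv)
  have hco := pel_coprime hs2 hzodd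
  have hcs : cen (s * z) = cen v ⊓ cen s := by rw [cen_mul hzs hco, hzc, inf_comm]
  have hne1 : s * z ≠ 1 := mul_ne_one_of_coprime (fun e => hsz (e ▸ one_mem _)) hco
  have hindz : ind z = ind v := by rw [ind, hzc]
  have hbs : ind (s * z) = b := by
    rcases w.up _ hne1 (hindz ▸ (ind_mul_dvd hzs hco).2) with e | e
    · refine absurd (mem_Zc.2 ⟨hsv, ?_⟩) hsz
      rw [← hindz] at e
      have := eq_of_le_of_ind ((cen_mul hzs hco).le.trans inf_le_right) e
      rw [← hzc, ← this, cen_mul hzs hco]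
      exact inf_le_left
    · exact e
  have hC : Nat.card ↥(cen v ⊓ cen s) * b = Nat.card G := by rw [← hcs, ← hbs, card_mul_ind]
  -- only one nontrivial coset
  rcases w.sq_or_index he hq S with hsq | hidx
  · refine w.not_sylow_le he hC S fun x hx => ⟨Subgroup.map_subtype_le _ hx, mem_cen.2 ?_⟩
    have h1 := hsq x hx
    have h2 := hsq s hs
    have h3 := hsq (x * s) (mul_mem hx hs)
    rw [← inv_eq_of_mul_eq_one_right h3, mul_inv_rev, inv_eq_of_mul_eq_one_right h1,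
      inv_eq_of_mul_eq_one_right h2]
  have hs' : s * s = 1 := by
    rw [Subgroup.mem_centralizer_iff] at hsO
    push Not at hsO
    obtain ⟨r, hr, hne⟩ := hsO
    exact w.out_invol hq hsv hs2 hr (Ne.symm hne)
  have hsinv : s⁻¹ = s := inv_eq_of_mul_eq_one_right hs'
  -- no fixed point modulo the centre
  have hfix : ∀ r ∈ O, r⁻¹ * (s * r * s⁻¹) ∈ Zc v → r ∈ Zc v := by
    intro r hr hc
    have hrv : r ∈ cen v := CharP.opIn_le _ hr
    have hcO : r⁻¹ * (s * r * s⁻¹) ∈ O := mul_mem (inv_mem hr)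
      (CharP.conj_mem_opIn (Subgroup.le_normalizer hsv) hr)
    have h1 : s * r = r * s := CharP.commute_of_conj_eq_mul (CharP.opIn_isPGroup (cen v)) hcO
      (orderOf_coprime_of_pel Nat.prime_two Fact.out (Ne.symm hq) hs2) (by group)
      (mem_cen.1 ((mem_Zc.1 hc).2 hsv))
    by_contra hrz
    refine w.not_sylow_le he (w.card_cen he hq hrv (w.odd_mem_O hq hr) hrz) S fun x hx =>
      ⟨Subgroup.map_subtype_le _ hx, mem_cen.2 ?_⟩
    by_cases hxO : x ∈ Subgroup.centralizer (O : Set G)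
    · exact (Subgroup.mem_centralizer_iff.1 hxO r hr).symm
    · have h2 := Subgroup.mem_centralizer_iff.1 (hidx s hs x hx hsO hxO) r hr
      have h3 : Commute (s * (s * x)) r := (show Commute s r from h1).mul_left h2.symm
      rw [← mul_assoc, hs', one_mul] at h3
      exact h3.eq
  -- the Sylow subgroup of the centraliser
  obtain ⟨Q⟩ : Nonempty (Sylow q ↥(cen v ⊓ cen s)) := inferInstance
  set R : Subgroup G := (Q : Subgroup ↥(cen v ⊓ cen s)).map (cen v ⊓ cen s).subtype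
  have hRle : R ≤ cen v ⊓ cen s := Subgroup.map_subtype_le _
  have hRp : IsPGroup q R := Q.isPGroup'.map _
  have hRn : R ≤ Subgroup.normalizer (O : Set G) := fun x hx =>
    CharP.le_normalizer_opIn _ (hRle hx).1
  set P : Subgroup G := O ⊔ R
  have hP : IsPGroup q P := (CharP.opIn_isPGroup (cen v)).to_sup_of_normal_left' hRp hRn
  haveI : Group.IsNilpotent P := hP.isNilpotent
  classical
  have hex : ∃ i : ℕ, ∃ r : G, ∃ hr : r ∈ O, r ∉ Zc v ∧
      (⟨r, Subgroup.mem_sup_left hr⟩ : P) ∈ Subgroup.upperCentralSeries P i :=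
    ⟨Group.nilpotencyClass P, r0, hr0, hr0z, by rw [Subgroup.upperCentralSeries_nilpotencyClass]; trivial⟩
  obtain ⟨r, hr, hrz, hri⟩ := Nat.find_spec hex
  have hrv : r ∈ cen v := CharP.opIn_le _ hr
  have hstep : ∀ x ∈ R, r * x * r⁻¹ * x⁻¹ ∈ Zc v := by
    intro x hx
    obtain ⟨j, hj⟩ : ∃ j, Nat.find hex = j + 1 := Nat.exists_eq_succ_of_ne_zero fun h0 => by
      rw [h0, Subgroup.upperCentralSeries_zero, Subgroup.mem_bot] at hri
      exact hrz (by rw [show r = 1 from congrArg Subtype.val hri]; exact one_mem _)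
    rw [hj, Subgroup.mem_upperCentralSeries_succ_iff] at hri
    have h1 := hri ⟨x, Subgroup.mem_sup_right hx⟩
    by_contra hnz
    refine Nat.find_min hex (hj ▸ Nat.lt_succ_self j) ⟨r * x * r⁻¹ * x⁻¹, ?_, hnz, h1⟩
    rw [show r * x * r⁻¹ * x⁻¹ = r * (x * r⁻¹ * x⁻¹) by group]
    exact mul_mem hr ((Subgroup.mem_normalizer_iff.1 (hRn hx) _).1 (inv_mem hr))
  set u := r⁻¹ * (s * r * s⁻¹) with hu
  have huO : u ∈ O := mul_mem (inv_mem hr) (CharP.conj_mem_opIn (Subgroup.le_normalizer hsv) hr)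
  have huz : u ∉ Zc v := fun h => hrz (hfix r hr h)
  have huv : u ∈ cen v := CharP.opIn_le _ huO
  have hsu : s * u * s⁻¹ = u⁻¹ := by
    rw [hu, hsinv]
    calc s * (r⁻¹ * (s * r * s)) * s = s * r⁻¹ * s * r * (s * s) := by group
      _ = s * r⁻¹ * s * r := by rw [hs', mul_one]
      _ = (r⁻¹ * (s * r * s))⁻¹ := by rw [mul_inv_rev, mul_inv_rev, mul_inv_rev, hsinv, inv_inv]; group
  have hxu : ∀ x ∈ R, x * u = u * x := by
    intro x hx
    have hxs : Commute x s := mem_cen.1 (hRle hx).2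
    have hc := hstep x hx
    set c := r * x * r⁻¹ * x⁻¹ with hcdef
    have hcs : Commute s c := mem_cen.1 ((mem_Zc.1 hc).2 hsv)
    have hxr : x * r * x⁻¹ = c⁻¹ * r := by rw [hcdef]; group
    refine mul_inv_eq_iff_eq_mul.1 ?_
    calc x * u * x⁻¹ = (x * r * x⁻¹)⁻¹ * ((x * s) * r * (x * s)⁻¹) := by rw [hu]; group
      _ = (x * r * x⁻¹)⁻¹ * (s * (x * r * x⁻¹) * s⁻¹) := by rw [hxs.eq]; group
      _ = r⁻¹ * c * ((s * c⁻¹) * r * s⁻¹) := by rw [hxr]; group
      _ = u := by rw [hcs.inv_right.eq, hu]; group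
  have huR : u ∈ R := by
    refine absorb hRp (C := cen v ⊓ cen u)
      (le_inf (hRle.trans inf_le_left) fun x hx => mem_cen.2 (hxu x hx)) ?_ ⟨huv, self_mem u⟩
      (ThreeSizes.PEl.of_isPGroup (CharP.opIn_isPGroup (cen v)) huO)
      (Subgroup.centralizer_le_normalizer _ (Subgroup.mem_centralizer_iff.2 fun x hx => hxu x hx))
    rw [Subgroup.card_subtype, Q.card_eq_multiplicity, Nat.eq_of_mul_eq_mul_right
      (Nat.pos_of_ne_zero fun h0 => by rw [h0, mul_zero] at hC; exact Nat.card_pos.ne hC)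
      ((w.card_cen he hq huv (w.odd_mem_O hq huO) huz).trans hC.symm)]
  rw [← mem_cen.1 (hRle huR).2, mul_inv_cancel_right] at hsu
  exact huz (eq_one_of_sq_of_odd (w.odd_mem_O hq huO) (mul_eq_one_iff_eq_inv.2 hsu) ▸ one_mem _)

end Inv

/-- The class sizes inside the centraliser. -/
theorem Inv.local_sizes {v : G} {b : ℕ} (w : Inv v b) :
    ∀ y : cen v, Odd (orderOf y) → (cen y).index = 1 ∨ (cen y).index = b / ind v := by
  rintro ⟨y, hy⟩ hodd
  rw [Subgroup.orderOf_mk] at hodd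
  by_cases hz : y ∈ Zc v
  · exact Or.inl (Subgroup.index_eq_one.2 (eq_top_iff.2 fun t _ =>
      mem_cen.2 (Subtype.ext (mem_cen.1 ((mem_Zc.1 hz).2 t.2)))))
  · refine Or.inr ?_
    rw [← w.ind_mul_v hy hodd hz, ← w.index_subtype hy hodd, Nat.mul_div_cancel _ (index_pos v)]

theorem card_inf_mul (H K : Subgroup G) : Nat.card ↥(K ⊓ H) * H.relIndex K = Nat.card K := by
  rw [← Subgroup.inf_relIndex_left K H, ← Subgroup.relIndex_bot_left, ← Subgroup.relIndex_bot_left]
  exact Subgroup.relIndex_mul_relIndex ⊥ (K ⊓ H) K bot_le inf_le_left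

namespace Inv

variable {v : G} {b : ℕ} (w : Inv v b) (he : 2 * ind v ∣ b) {q : ℕ} [Fact q.Prime] (hq : q ≠ 2)
  (hZ : ∀ z ∈ Zc v, Odd (orderOf z) → z = 1)
include w he hq hZ

local notation "O" => CharP.opIn q (cen v)

theorem exp_two_pow {r : G} (hr : r ∈ cen v) (hodd : Odd (orderOf r)) (hr1 : r ≠ 1) :
    ∃ i : ℕ, b = 2 ^ i * ind v := by
  haveI : Fact (Nat.Prime 2) := ⟨Nat.prime_two⟩
  have hloc : ∀ (y : G) (hy : y ∈ cen v), Odd (orderOf y) → y ≠ 1 →
      (cen (⟨y, hy⟩ : cen v)).index * ind v = b := fun y hy h1 h2 => by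
    rw [w.index_subtype hy h1, w.ind_mul_v hy h1 fun h => h2 (hZ y h h1)]
  have he1 : b / ind v ≠ 1 := fun h => w.ne (by
    rw [← Nat.div_mul_cancel w.ab, h, one_mul])
  have hwit : ∃ y : cen v, Odd (orderOf y) ∧ (cen y).index = b / ind v :=
    ⟨⟨r, hr⟩, by rwa [Subgroup.orderOf_mk],
      by rw [← hloc r hr hodd hr1, Nat.mul_div_cancel _ (index_pos v)]⟩
  rcases reg_two he1 w.local_sizes hwit with
    ⟨H, hH, hHodd, k, hk⟩ | ⟨l, hl, P, Q, A, hl2, hA, hcard, -, hmeet, hjoin⟩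
  · obtain ⟨⟨y, hy⟩, hyH, hy1⟩ : ∃ y ∈ H, y ≠ 1 := by
      by_contra hc
      push Not at hc
      have hbot : H = ⊥ := (Subgroup.eq_bot_iff_forall _).2 hc
      rw [hbot, Subgroup.index_bot] at hk
      have h1 : orderOf r ∣ 2 ^ k := hk ▸ Subgroup.orderOf_dvd_natCard _ hr
      exact hr1 (orderOf_eq_one_iff.1
        (Nat.eq_one_of_dvd_coprimes ((Nat.coprime_two_right.2 hodd).pow_right k) dvd_rfl h1))
    have hyo : Odd (orderOf y) := by
      refine Nat.not_even_iff_odd.1 fun h => hHodd (h.two_dvd.trans ?_)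
      exact (Subgroup.orderOf_mk y hy).symm.dvd.trans (Subgroup.orderOf_dvd_natCard _ hyH)
    have hle : H ≤ cen (⟨y, hy⟩ : cen v) := fun x hx => mem_cen.2
      (congrArg Subtype.val (hH.is_comm.comm (⟨x, hx⟩ : H) ⟨_, hyH⟩))
    obtain ⟨i, -, hi⟩ := (Nat.dvd_prime_pow Nat.prime_two).1 (hk ▸ Subgroup.index_dvd_of_le hle)
    exact ⟨i, by rw [← hloc y hy hyo fun e => hy1 (Subtype.ext e), hi]⟩
  · haveI := hl
    have hAbot : A = ⊥ := by
      rw [Subgroup.eq_bot_iff_forall]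
      intro a ha
      by_contra ha1
      obtain ⟨m, n, hm, hp, hn⟩ := ThreeSizes.exists_primary_not_mem (H := (⊥ : Subgroup (cen v))) (x := a)
        (by rwa [Subgroup.mem_bot])
      rw [Subgroup.mem_bot] at hn
      by_cases hm2 : m = 2
      · subst hm2
        have hP : a ^ n ∈ (P : Subgroup (cen v)) := absorb (C := (⊤ : Subgroup (cen v))) P.isPGroup' le_top
          (le_of_eq (by rw [P.card_eq_multiplicity, Subgroup.card_top])) trivial hp
          (Subgroup.centralizer_le_normalizer _ (Subgroup.mem_centralizer_iff.2 fun x _ =>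
            Subgroup.mem_center_iff.1 (hA (A.pow_mem ha n)) x))
        exact hn (Subgroup.mem_bot.1 (hmeet ▸ ⟨Subgroup.mem_sup_left hP, A.pow_mem ha n⟩))
      · refine hn (Subtype.ext (hZ _ ?_ (odd_of_pel hm hm2 hp.coe)))
        exact mem_Zc.2 ⟨(a ^ n).2, fun x hx => mem_cen.2
          (congrArg Subtype.val (Subgroup.mem_center_iff.1 (hA (A.pow_mem ha n)) ⟨x, hx⟩))⟩
    rw [hAbot, sup_bot_eq] at hjoin
    rw [hjoin, Subgroup.card_top] at hcard
    have hQ : Nat.card Q ≠ 1 := fun h1 => by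
      rw [h1, mul_one, P.card_eq_multiplicity] at hcard
      exact hr1 (orderOf_eq_one_iff.1 (Nat.eq_one_of_dvd_coprimes
        ((Nat.coprime_two_right.2 hodd).pow_right _) dvd_rfl (hcard ▸ Subgroup.orderOf_dvd_natCard _ hr)))
    haveI : Nontrivial Q := Finite.one_lt_card_iff_nontrivial.1 (by
      have := Nat.card_pos (α := Q); omega)
    haveI := Q.isPGroup'.center_nontrivial
    obtain ⟨⟨z, hzc⟩, hz1⟩ := exists_ne (1 : Subgroup.center (Q : Subgroup (cen v)))
    have hzne : ((z : cen v) : G) ≠ 1 := fun e => hz1 (Subtype.ext (Subtype.ext (Subtype.ext e)))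
    have hzodd : Odd (orderOf ((z : cen v) : G)) :=
      odd_of_pel hl.out hl2 (ThreeSizes.PEl.of_isPGroup Q.isPGroup' z.2).coe
    have hle : (Q : Subgroup (cen v)) ≤ cen (z : cen v) := fun x hx => mem_cen.2
      (congrArg Subtype.val (Subgroup.mem_center_iff.1 hzc ⟨x, hx⟩))
    have hQi : (Q : Subgroup (cen v)).index = Nat.card P := by
      have h1 := (Q : Subgroup (cen v)).card_mul_index
      rw [hcard, mul_comm (Nat.card P)] at h1
      exact Nat.eq_of_mul_eq_mul_left Nat.card_pos h1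
    have hd := Subgroup.index_dvd_of_le hle
    rw [hQi, P.card_eq_multiplicity] at hd
    obtain ⟨i, -, hi⟩ := (Nat.dvd_prime_pow Nat.prime_two).1 hd
    exact ⟨i, by rw [← hloc _ (z : cen v).2 hzodd hzne, ← hi]⟩

theorem dType_aux {r0 : G} (hr0 : r0 ∈ O) (hr01 : r0 ≠ 1) :
    DType v (cen v ⊓ Subgroup.centralizer (O : Set G)) := by
  haveI : Fact (Nat.Prime 2) := ⟨Nat.prime_two⟩
  have hOv : ∀ {r}, r ∈ O → r ∈ cen v := fun hr => CharP.opIn_le _ hr
  have hOodd : ∀ {r}, r ∈ O → Odd (orderOf r) := fun hr => w.odd_mem_O hq hr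
  have hnz : ∀ {y : G}, Odd (orderOf y) → y ≠ 1 → y ∉ Zc v := fun h1 h2 h => h2 (hZ _ h h1)
  obtain ⟨i, hi⟩ := w.exp_two_pow he hq hZ (hOv hr0) (hOodd hr0) hr01
  have hcardM : ∀ y ∈ cen v, Odd (orderOf y) → y ≠ 1 →
      Nat.card ↥(cen v ⊓ cen y) * 2 ^ i = Nat.card (cen v) := fun y hy h1 h2 => by
    refine Nat.eq_of_mul_eq_mul_right (index_pos v) ?_
    rw [mul_assoc, ← hi, w.card_cen he hq hy h1 (hnz h1 h2), card_mul_ind]
  -- the odd normal subgroup is commutative
  have hOab : ∀ r ∈ O, ∀ r' ∈ O, r * r' = r' * r := by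
    intro r hr r' hr'
    by_cases hr1 : r = 1
    · simp [hr1]
    obtain ⟨Q⟩ : Nonempty (Sylow q ↥(cen v ⊓ cen r)) := inferInstance
    set R : Subgroup G := (Q : Subgroup ↥(cen v ⊓ cen r)).map (cen v ⊓ cen r).subtype
    have hRle : R ≤ cen v ⊓ cen r := Subgroup.map_subtype_le _
    have hRn : R ≤ Subgroup.normalizer (O : Set G) := fun x hx => CharP.le_normalizer_opIn _ (hRle hx).1
    obtain ⟨P⟩ : Nonempty (Sylow q (cen v)) := inferInstance
    have h1 := card_le_sylow ((CharP.opIn_isPGroup (cen v)).to_sup_of_normal_left' (Q.isPGroup'.map _) hRn)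
      (sup_le (CharP.opIn_le _) (hRle.trans inf_le_left)) P
    rw [P.card_eq_multiplicity, ← hcardM r (hOv hr) (hOodd hr) hr1,
      Nat.factorization_mul Nat.card_pos.ne' (pow_ne_zero _ two_ne_zero), Finsupp.add_apply,
      Nat.factorization_eq_zero_of_not_dvd fun h => hq
        ((Nat.prime_dvd_prime_iff_eq Fact.out Nat.prime_two).1 ((Fact.out : q.Prime).dvd_of_dvd_pow h)),
      add_zero, ← Q.card_eq_multiplicity, ← Subgroup.card_subtype] at h1
    have h2 := Subgroup.eq_of_le_of_card_ge (le_sup_right : R ≤ O ⊔ R) h1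
    exact (mem_cen.1 (hRle (h2.ge (Subgroup.mem_sup_left hr'))).2).symm
  obtain ⟨S⟩ : Nonempty (Sylow 2 (cen v)) := inferInstance
  set SS : Subgroup G := (S : Subgroup (cen v)).map (cen v).subtype with hSS
  have hSSv : SS ≤ cen v := Subgroup.map_subtype_le _
  have hSSp : ∀ {x}, x ∈ SS → ThreeSizes.PEl 2 x := fun hx =>
    ThreeSizes.PEl.of_isPGroup (S.isPGroup'.map _) hx
  have hsq : ∀ {g : G}, g ∈ cen v → ThreeSizes.PEl 2 g → g ∉ Subgroup.centralizer (O : Set G) →
      g * g = 1 := fun hg h2 hgO => by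
    rw [Subgroup.mem_centralizer_iff] at hgO
    push Not at hgO
    obtain ⟨r, hr, hne⟩ := hgO
    exact w.out_invol hq hg h2 hr (Ne.symm hne)
  -- exact orders of the fixing subgroups
  have hfixcard : ∀ r ∈ O, r ≠ 1 → Nat.card ↥(SS ⊓ cen r) * 2 ^ i = Nat.card SS := by
    intro r hr hr1
    refine le_antisymm ?_ ?_
    · obtain ⟨P⟩ : Nonempty (Sylow 2 ↥(cen v ⊓ cen r)) := inferInstance
      have h1 := card_le_sylow ((S.isPGroup'.map (cen v).subtype).to_le inf_le_left)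
        (inf_le_inf_right _ hSSv) P
      rw [P.card_eq_multiplicity] at h1
      rw [Subgroup.card_subtype, S.card_eq_multiplicity, ← hcardM r (hOv hr) (hOodd hr) hr1,
        Nat.factorization_mul Nat.card_pos.ne' (pow_ne_zero _ two_ne_zero), Finsupp.add_apply,
        Nat.Prime.factorization_pow Nat.prime_two, Finsupp.single_eq_same, pow_add]
      exact Nat.mul_le_mul_right _ h1
    · rw [← card_inf_mul (cen r) SS]
      refine Nat.mul_le_mul_left _ ?_
      have h1 := card_inf_mul (cen r) (cen v)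
      rw [← hcardM r (hOv hr) (hOodd hr) hr1] at h1
      rw [← Nat.eq_of_mul_eq_mul_left Nat.card_pos h1]
      exact Subgroup.relIndex_le_of_le_right hSSv
        (Nat.ne_of_gt (Nat.pos_of_ne_zero Subgroup.index_ne_zero_of_finite))
  -- fixed points
  have hfpf0 : ∀ s ∈ SS, s ∉ Subgroup.centralizer (O : Set G) →
      ((∀ x ∈ SS, x * x = 1) ∨ ∀ s' ∈ SS, s' ∉ Subgroup.centralizer (O : Set G) →
        s * s' ∈ Subgroup.centralizer (O : Set G)) → ∀ r ∈ O, s * r = r * s → r = 1 := by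
    intro s hs hsO hcase r hr hsr
    by_contra hr1
    have hs2 := hsq (hSSv hs) (hSSp hs) hsO
    have hsinv : s⁻¹ = s := inv_eq_of_mul_eq_one_right hs2
    rcases hcase with hel | hidx
    · have habS : ∀ x ∈ SS, ∀ y ∈ SS, x * y = y * x := fun x hx y hy => by
        rw [← inv_eq_of_mul_eq_one_right (hel _ (mul_mem hx hy)), mul_inv_rev,
          inv_eq_of_mul_eq_one_right (hel x hx), inv_eq_of_mul_eq_one_right (hel y hy)]
      rw [Subgroup.mem_centralizer_iff] at hsO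
      push Not at hsO
      obtain ⟨r', hr', hne⟩ := hsO
      set u := r'⁻¹ * (s * r' * s⁻¹) with hu
      have huO : u ∈ O := mul_mem (inv_mem hr') (CharP.conj_mem_opIn (Subgroup.le_normalizer (hSSv hs)) hr')
      have hu1 : u ≠ 1 := fun e => by
        rw [hu, inv_mul_eq_one] at e
        exact hne (mul_inv_eq_iff_eq_mul.1 e.symm).symm
      have hsu : s * u * s⁻¹ = u⁻¹ := by
        rw [hu, hsinv]
        calc s * (r'⁻¹ * (s * r' * s)) * s = s * r'⁻¹ * s * r' * (s * s) := by group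
          _ = s * r'⁻¹ * s * r' := by rw [hs2, mul_one]
          _ = (r'⁻¹ * (s * r' * s))⁻¹ := by
            rw [mul_inv_rev, mul_inv_rev, mul_inv_rev, hsinv, inv_inv]; group
      have hu2 : ∀ {z : G}, Commute s z → z = u → False := fun hz e => by
        subst e
        rw [hz.eq, mul_inv_cancel_right] at hsu
        exact hu1 (eq_one_of_sq_of_odd (hOodd huO) (mul_eq_one_iff_eq_inv.2 hsu))
      have hw1 : r * u ≠ 1 := fun e => hu2 (show Commute s r⁻¹ from (show Commute s r from hsr).inv_right)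
        (inv_eq_of_mul_eq_one_right e)
      have hlt : SS ⊓ cen (r * u) < SS ⊓ cen r := by
        refine lt_of_le_of_ne (fun t ht => ⟨ht.1, mem_cen.2 (Eq.symm ?_)⟩) fun e => ?_
        · have h1 : Commute t (r * u) := mem_cen.1 ht.2
          have h2 : Commute t s := habS t ht.1 s hs
          have h3 : Commute t (s * (r * u) * s⁻¹) := (h2.mul_right h1).mul_right h2.inv_right
          rw [show s * (r * u) * s⁻¹ = (s * r * s⁻¹) * (s * u * s⁻¹) by group, hsu, hsr,
            mul_inv_cancel_right] at h3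
          have h4 : Commute t (r * r) := by
            have h5 := h1.mul_right h3
            rwa [show r * u * (r * u⁻¹) = r * r by
              rw [hOab r hr u⁻¹ (inv_mem huO), ← mul_assoc, mul_inv_cancel_right]] at h5
          exact commute_of_sq (hOodd hr) h4.eq.symm
        · have h1 : s ∈ SS ⊓ cen (r * u) := e ▸ ⟨hs, mem_cen.2 hsr⟩
          refine hu2 ((show Commute s r from hsr).inv_right.mul_right (mem_cen.1 h1.2)) ?_
          group
      have hA := hfixcard (r * u) (mul_mem hr huO) hw1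
      rw [← hfixcard r hr hr1] at hA
      exact hlt.ne (Subgroup.eq_of_le_of_card_ge hlt.le (Nat.eq_of_mul_eq_mul_right (by positivity) hA).ge)
    · refine w.not_sylow_le he (w.card_cen he hq (hOv hr) (hOodd hr) (hnz (hOodd hr) hr1)) S fun x hx =>
        ⟨hSSv hx, mem_cen.2 ?_⟩
      by_cases hxO : x ∈ Subgroup.centralizer (O : Set G)
      · exact (Subgroup.mem_centralizer_iff.1 hxO r hr).symm
      · have h2 := Subgroup.mem_centralizer_iff.1 (hidx x hx hxO) r hr
        have h3 : Commute (s * (s * x)) r := (show Commute s r from hsr).mul_left h2.symm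
        rw [← mul_assoc, hs2, one_mul] at h3
        exact h3.eq
  have hidx : ∀ s ∈ SS, ∀ s' ∈ SS, s ∉ Subgroup.centralizer (O : Set G) →
      s' ∉ Subgroup.centralizer (O : Set G) → s * s' ∈ Subgroup.centralizer (O : Set G) := by
    rcases w.sq_or_index he hq S with hel | hidx
    · have hinvert : ∀ s ∈ SS, s ∉ Subgroup.centralizer (O : Set G) → ∀ r ∈ O, s * r * s⁻¹ = r⁻¹ := by
        intro s hs hsO r hr
        have hsinv : s⁻¹ = s := inv_eq_of_mul_eq_one_right (hel s hs)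
        have hc : s * r * s⁻¹ ∈ O := CharP.conj_mem_opIn (Subgroup.le_normalizer (hSSv hs)) hr
        refine eq_inv_of_mul_eq_one_right (hfpf0 s hs hsO (Or.inl hel) _ (mul_mem hr hc) ?_)
        refine mul_inv_eq_iff_eq_mul.1 ?_
        rw [hOab r hr _ hc]
        calc s * (s * r * s⁻¹ * r) * s⁻¹ = (s * s) * r * s⁻¹ * r * s⁻¹ := by group
          _ = r * (s * r * s⁻¹) := by rw [hel s hs, one_mul, hsinv]; group
          _ = s * r * s⁻¹ * r := hOab r hr _ hc
      intro s hs s' hs' h1 h2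
      refine Subgroup.mem_centralizer_iff.2 fun r hr => (mul_inv_eq_iff_eq_mul.1 ?_).symm
      rw [show s * s' * r * (s * s')⁻¹ = s * (s' * r * s'⁻¹) * s⁻¹ by group, hinvert s' hs' h2 r hr,
        hinvert s hs h1 _ (inv_mem hr), inv_inv]
    · exact hidx
  have hfpf : ∀ s ∈ SS, ∀ r ∈ O, r ≠ 1 → s * r = r * s → s ∈ Subgroup.centralizer (O : Set G) := by
    intro s hs r hr hr1 hsr
    by_contra hsO
    exact hr1 (hfpf0 s hs hsO (Or.inr fun s' hs' => hidx s hs s' hs' hsO) r hr hsr)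
  -- the index is two
  have he2 : 2 ^ i = 2 := by
    obtain ⟨s, hs, hsO⟩ := w.exists_out_S he hq S hr0 (hnz (hOodd hr0) hr01)
    set T0 : Subgroup G := SS ⊓ Subgroup.centralizer (O : Set G)
    have hA : SS ⊓ cen r0 = T0 := le_antisymm
      (fun x hx => ⟨hx.1, hfpf x hx.1 r0 hr0 hr01 (mem_cen.1 hx.2)⟩)
      fun x hx => ⟨hx.1, mem_cen.2 (Subgroup.mem_centralizer_iff.1 hx.2 r0 hr0).symm⟩
    have h2 : T0.relIndex SS = 2 := by
      refine Subgroup.index_eq_two_iff.2 ⟨⟨s, hs⟩, fun x => ?_⟩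
      simp only [Subgroup.mem_subgroupOf, Subgroup.coe_mul]
      by_cases hx : (x : G) ∈ T0
      · exact Or.inr ⟨hx, fun h => hsO ((Subgroup.mul_mem_cancel_left _ (Subgroup.mem_inf.1 hx).2).1 (Subgroup.mem_inf.1 h).2)⟩
      · exact Or.inl ⟨⟨mul_mem x.2 hs, hidx x x.2 s hs (fun h => hx ⟨x.2, h⟩) hsO⟩, hx⟩
    have h1 := hfixcard r0 hr0 hr01
    have h3 : Nat.card T0 * T0.relIndex SS = Nat.card SS := by
      have h4 := card_inf_mul T0 SS
      rwa [inf_eq_right.2 inf_le_left] at h4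
    rw [hA, ← h3, h2] at h1
    exact Nat.eq_of_mul_eq_mul_left Nat.card_pos h1
  have hoddcomm : ∀ y ∈ cen v, ∀ g ∈ cen v, Odd (orderOf y) → Odd (orderOf g) → g * y = y * g := by
    intro y hy g hg hyo hgo
    by_cases hy1 : y = 1
    · simp [hy1]
    have hidx2 : (cen (⟨y, hy⟩ : cen v)).index = 2 := by
      refine Nat.eq_of_mul_eq_mul_right (index_pos v) ?_
      rw [w.index_subtype hy hyo, w.ind_mul_v hy hyo (hnz hyo hy1), hi, he2]
    have h1 := congrArg Subtype.val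
      (mem_cen.1 (Subgroup.mul_self_mem_of_index_two hidx2 (⟨g, hg⟩ : cen v)))
    exact commute_of_sq hgo h1
  -- all elements of `q`-power order lie in the odd subgroup
  have hqmem : ∀ y ∈ cen v, ThreeSizes.PEl q y → y ∈ O := by
    let N : Subgroup G :=
      { carrier := {y | y ∈ cen v ∧ ThreeSizes.PEl q y}
        mul_mem' := fun {x y} hx hy => ⟨mul_mem hx.1 hy.1, ThreeSizes.PEl.mul
          (hoddcomm y hy.1 x hx.1 (odd_of_pel Fact.out hq hy.2) (odd_of_pel Fact.out hq hx.2)) hx.2 hy.2⟩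
        one_mem' := ⟨one_mem _, ThreeSizes.PEl.one q⟩
        inv_mem' := fun {x} hx => ⟨inv_mem hx.1, hx.2.inv⟩ }
    have hle : N ≤ O := CharP.le_opIn (fun y hy => hy.1)
      (Subgroup.le_normalizer_iff.2 fun g hg y hy => ⟨mul_mem (mul_mem hg hy.1) (inv_mem hg), hy.2.conj g⟩)
      (ThreeSizes.PEl.isPGroup_of_forall fun y hy => hy.2)
    exact fun y hy hp => hle ⟨hy, hp⟩
  set X : Subgroup G := cen v ⊓ Subgroup.centralizer (O : Set G) with hX
  have hoddX : ∀ y ∈ cen v, Odd (orderOf y) → y ∈ X := fun y hy hyo =>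
    ⟨hy, Subgroup.mem_centralizer_iff.2 fun r hr => hoddcomm y hy r (hOv hr) hyo (hOodd hr)⟩
  have hfpfG : ∀ g ∈ cen v, ThreeSizes.PEl 2 g → ∀ r ∈ O, r ≠ 1 → g * r = r * g → g ∈ X := by
    intro g hg h2 r hr hr1 hgr
    obtain ⟨c, hc, hcg⟩ := exists_conj_into S hg h2
    have hn := Subgroup.le_normalizer (H := cen v) hc
    have h1 := hfpf _ hcg _ (CharP.conj_mem_opIn hn hr) (fun e => hr1 (conj_eq_one_iff.1 e))
      (by rw [show c * g * c⁻¹ * (c * r * c⁻¹) = c * (g * r) * c⁻¹ by group, hgr]; group)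
    refine ⟨hg, Subgroup.mem_centralizer_iff.2 fun r' hr' => ?_⟩
    have h2 := Subgroup.mem_centralizer_iff.1 h1 _ (CharP.conj_mem_opIn hn hr')
    rw [show c * r' * c⁻¹ * (c * g * c⁻¹) = c * (r' * g) * c⁻¹ by group,
      show c * g * c⁻¹ * (c * r' * c⁻¹) = c * (g * r') * c⁻¹ by group] at h2
    exact mul_left_cancel (mul_right_cancel h2)
  have houtsq : ∀ g ∈ cen v, g ∉ X → g * g = 1 := by
    intro g hg hgX
    obtain ⟨g₂, g', heq, h2m, h'm, ⟨k, hk⟩, hg'⟩ := PBasic.exists_pPart_mul (p := 2) g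
    have hz : Subgroup.zpowers g ≤ cen v := Subgroup.zpowers_le.2 hg
    have h2p : ThreeSizes.PEl 2 g₂ := ⟨k, by rw [← hk, pow_orderOf_eq_one]⟩
    have ho : Odd (orderOf g') := Nat.coprime_two_right.1 hg'
    by_cases h1 : g' = 1
    · rw [h1, mul_one] at heq
      subst heq
      exact hsq hg h2p fun h => hgX ⟨hg, h⟩
    exfalso
    obtain ⟨i2, hi2⟩ := Subgroup.mem_zpowers_iff.1 h2m
    obtain ⟨i', hi'⟩ := Subgroup.mem_zpowers_iff.1 h'm
    have hc : Commute g₂ g' := by rw [← hi2, ← hi']; exact Commute.zpow_zpow_self g i2 i'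
    obtain ⟨l, n, hl, hp, hn⟩ := ThreeSizes.exists_primary_not_mem (H := (⊥ : Subgroup G)) (x := g')
      (by rwa [Subgroup.mem_bot])
    rw [Subgroup.mem_bot] at hn
    set y := g' ^ n
    have hyo : Odd (orderOf y) := odd_of_pow ho n
    have hyv : y ∈ cen v := (cen v).pow_mem (hz h'm) n
    have hgy : g₂ * y = y * g₂ := (hc.pow_right n).eq
    have h2X : g₂ ∈ X := by
      by_cases hlq : l = q
      · subst hlq
        exact hfpfG g₂ (hz h2m) h2p y (hqmem y hyv hp) hn hgy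
      · refine hfpfG g₂ (hz h2m) h2p r0 hr0 hr01 ?_
        have hco : (orderOf y).Coprime (orderOf r0) := by
          obtain ⟨k', hk'⟩ := (ThreeSizes.PEl.of_isPGroup (CharP.opIn_isPGroup (p := q) (cen v)) hr0 :
            ThreeSizes.PEl q r0)
          exact Nat.Coprime.coprime_dvd_right (orderOf_dvd_of_pow_eq_one hk')
            ((orderOf_coprime_of_pel hl Fact.out hlq hp).pow_right k')
        have hyr : r0 ∈ cen y := mem_cen.2 (hoddcomm y hyv r0 (hOv hr0) hyo (hOodd hr0))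
        have hm := cen_mul hyr hco
        have hmo : Odd (orderOf (y * r0)) := by
          rw [(show Commute y r0 from (mem_cen.1 hyr).symm).orderOf_mul_eq_mul_orderOf_of_coprime hco]
          exact hyo.mul (hOodd hr0)
        have h1 := hcardM (y * r0) (mul_mem hyv (hOv hr0)) hmo (mul_ne_one_of_coprime hn hco)
        rw [← hcardM y hyv hyo hn, hm] at h1
        have h2 : cen v ⊓ (cen y ⊓ cen r0) = cen v ⊓ cen y := Subgroup.eq_of_le_of_card_ge
          (inf_le_inf_left _ inf_le_left) (Nat.eq_of_mul_eq_mul_right (by positivity) h1).ge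
        exact mem_cen.1 ((h2.ge ⟨hz h2m, mem_cen.2 hgy⟩).2.2)
    exact hgX (heq ▸ mul_mem h2X (hoddX g' (hz h'm) ho))
  have hXn : ∀ g ∈ cen v, ∀ x ∈ X, g ∉ X → g * x ∉ X := fun g _ x hx hgX h =>
    hgX (by simpa using mul_mem h (inv_mem hx))
  have hinv : ∀ g ∈ cen v, g ∉ X → ∀ x ∈ X, g * x * g⁻¹ = x⁻¹ := by
    intro g hg hgX x hx
    have h1 := houtsq (g * x) (mul_mem hg hx.1) (hXn g hg x hx hgX)
    rw [inv_eq_of_mul_eq_one_right (houtsq g hg hgX)]
    refine eq_inv_of_mul_eq_one_left ?_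
    rwa [mul_assoc (g * x) g]at *
  obtain ⟨s, hs, hsO⟩ := w.exists_out_S he hq S hr0 (hnz (hOodd hr0) hr01)
  have hsX : s ∉ X := fun h => hsO h.2
  refine ⟨inf_le_left, fun x hx y hy => ?_, fun g hg hgX => ⟨houtsq g hg hgX, hinv g hg hgX⟩,
    fun g hg h hh hgX hhX => ?_, ⟨s, hSSv hs, hsX⟩, ⟨r0, hoddX r0 (hOv hr0) (hOodd hr0), hOodd hr0, hr01⟩⟩
  · have e1 := hinv s (hSSv hs) hsX (x * y) (mul_mem hx hy)
    rw [show s * (x * y) * s⁻¹ = (s * x * s⁻¹) * (s * y * s⁻¹) by group, hinv s (hSSv hs) hsX x hx,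
      hinv s (hSSv hs) hsX y hy, ← mul_inv_rev, inv_inj] at e1
    exact e1.symm
  · by_contra hc
    have hr0X := hoddX r0 (hOv hr0) (hOodd hr0)
    have e := hinv (g * h) (mul_mem hg hh) hc r0 hr0X
    rw [show g * h * r0 * (g * h)⁻¹ = g * (h * r0 * h⁻¹) * g⁻¹ by group, hinv h hh hhX r0 hr0X,
      hinv g hg hgX _ (inv_mem hr0X), inv_inv] at e
    exact hr01 (eq_one_of_sq_of_odd (hOodd hr0) (mul_eq_one_iff_eq_inv.2 e))

end Inv

/-- The second type. -/
theorem Inv.dType {v : G} {b : ℕ} (w : Inv v b) (he : 2 * ind v ∣ b) {q : ℕ} [Fact q.Prime] (hq : q ≠ 2)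
    (hO : ∃ r ∈ CharP.opIn q (cen v), r ∉ Zc v) : ∃ X, DType v X := by
  have hZ : ∀ z ∈ Zc v, Odd (orderOf z) → z = 1 := fun z hz hodd => by
    by_contra h1
    exact w.central_false he hq hz h1 hodd hO
  obtain ⟨r0, hr0, hr0z⟩ := hO
  exact ⟨_, w.dType_aux he hq hZ hr0 fun e => hr0z (e ▸ one_mem _)⟩

end Cfsg.Agent.ConjRankFour
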