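import Cfsg.Agent.Lib.ConjRankFour.DCase

/-!
# The three types of centralisers of involutions of minimal class size
-/

set_option autoImplicit false
set_option linter.style.haveILetI false
set_option linter.unusedSectionVars false

namespace Cfsg.Agent.ConjRankFour

open Cfsg.Agent.ConjRankThree

universe u

variable {G : Type u} [Group G] [Finite G]

/-- The elements of `2`-power order form an elementary group, centralised by no noncentral odd element. -/
structure EType (v : G) (S : Subgroup G) : Prop where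
  isP : IsPGroup 2 S
  le : S ≤ cen v
  mem : ∀ s ∈ cen v, ThreeSizes.PEl 2 s → s ∈ S
  sq : ∀ s ∈ S, s * s = 1
  normal : cen v ≤ Subgroup.normalizer (S : Set G)
  cenS : ∀ y ∈ cen v, Odd (orderOf y) → (∀ s ∈ S, y * s = s * y) → y ∈ Zc v

namespace Inv

variable {v : G} {b : ℕ} (w : Inv v b)
include w

theorem solvable {y : G} (hy : y ∈ cen v) (hodd : Odd (orderOf y)) (hne : y ∉ Zc v) :
    Group.IsSolvable (cen v) := by
  have hey : (cen (⟨y, hy⟩ : cen v)).index = b / ind v := by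
    rw [← w.ind_mul_v hy hodd hne, ← w.index_subtype hy hodd, Nat.mul_div_cancel _ (index_pos v)]
  have he1 : b / ind v ≠ 1 := fun h => w.ne (by rw [← Nat.div_mul_cancel w.ab, h, one_mul])
  rcases reg_two he1 w.local_sizes ⟨⟨y, hy⟩, by rwa [Subgroup.orderOf_mk], hey⟩ with
    ⟨H, hH, hHodd, k, hk⟩ | ⟨l, hl, P, Q, A, hl2, hA, hcard, -, -, hjoin⟩
  · refine solvable_of_sizes Nat.prime_three w.local_sizes fun p hp hpe => Or.inl ?_
    suffices h : b / ind v ∣ 2 ^ k from
      (Nat.prime_dvd_prime_iff_eq hp Nat.prime_two).1 (hp.dvd_of_dvd_pow (hpe.trans h))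
    by_cases hc : ∀ x ∈ H, x ∈ Subgroup.center (cen v)
    · rw [← hey, ← hk]
      exact Subgroup.index_dvd_of_le fun x hx =>
        mem_cen.2 (Subgroup.mem_center_iff.1 (hc x hx) _).symm
    · push Not at hc
      obtain ⟨x, hx, hxc⟩ := hc
      have hle : H ≤ cen x := fun z hz => mem_cen.2
        (congrArg Subtype.val (hH.is_comm.comm (⟨z, hz⟩ : H) ⟨_, hx⟩))
      have hxi : (cen x).index ≠ 1 := fun h1 => hxc (Subgroup.mem_center_iff.2 fun z =>
        mem_cen.1 ((Subgroup.index_eq_one.1 h1).symm ▸ Subgroup.mem_top z))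
      have hxodd : Odd (orderOf x) := by
        refine Nat.not_even_iff_odd.1 fun h => ?_
        exact absurd (h.two_dvd.trans (Subgroup.orderOf_dvd_natCard _ hx)) hHodd
      rw [← (w.local_sizes x hxodd).resolve_left hxi, ← hk]
      exact Subgroup.index_dvd_of_le hle
  · haveI := hl
    haveI : Fact (Nat.Prime 2) := ⟨Nat.prime_two⟩
    refine solvable_of_sizes hl.out w.local_sizes fun p hp hpe => ?_
    have h1 : b / ind v ∣ Nat.card P * Nat.card Q := by
      rw [← hey, ← hcard]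
      refine (Subgroup.index_dvd_of_le (H := A) fun a ha =>
        mem_cen.2 (Subgroup.mem_center_iff.1 (hA ha) _).symm).trans ?_
      haveI : A.Normal := ⟨fun a ha g => by
        rw [Subgroup.mem_center_iff.1 (hA ha) g, mul_inv_cancel_right]; exact ha⟩
      rw [← Subgroup.relIndex_top_right, ← hjoin, Subgroup.relIndex_sup_right]
      exact Subgroup.index_dvd_card _
    rw [P.card_eq_multiplicity, Q.card_eq_multiplicity] at h1
    rcases hp.dvd_mul.1 (hpe.trans h1) with h | h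
    · exact Or.inl ((Nat.prime_dvd_prime_iff_eq hp Nat.prime_two).1 (hp.dvd_of_dvd_pow h))
    · exact Or.inr ((Nat.prime_dvd_prime_iff_eq hp hl.out).1 (hp.dvd_of_dvd_pow h))

/-- The third type. -/
theorem eType (he : 2 * ind v ∣ b) (hnc : ∃ y ∈ cen v, Odd (orderOf y) ∧ y ∉ Zc v)
    (hall : ∀ q : ℕ, q.Prime → q ≠ 2 → ∀ r ∈ CharP.opIn q (cen v), r ∈ Zc v) :
    ∃ S, EType v S := by
  haveI : Fact (Nat.Prime 2) := ⟨Nat.prime_two⟩
  obtain ⟨y0, hy0, hy0o, hy0z⟩ := hnc
  haveI := w.solvable hy0 hy0o hy0z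
  have hcore : ∀ (l : ℕ), l.Prime → l ≠ 2 → ∀ y ∈ cen v, ThreeSizes.PEl l y →
      (∀ s ∈ CharP.opIn 2 (cen v), y * s = s * y) → y ∈ Zc v := by
    intro l hl hl2 y hy hp hc
    refine hall l hl hl2 y ⟨⟨y, hy⟩, mem_pCore_of_centralizes hl hp.restrict fun m hm z hz => ?_, rfl⟩
    refine Subtype.ext ?_
    by_cases hm2 : m = 2
    · subst hm2
      exact hc z ⟨z, hz, rfl⟩
    · exact mem_cen.1 ((mem_Zc.1 (hall m hm hm2 z ⟨z, hz, rfl⟩)).2 hy)
  obtain ⟨l, x, hl, hl2, hxv, hxl, hxz⟩ := w.exists_primary hy0 hy0o hy0z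
  have hnb : ∀ g ∈ cen v, ThreeSizes.PEl 2 g → g ∉ Zc v → ind g ≠ b := by
    intro g hg h2 hgz hb
    haveI := Fact.mk hl
    have hg1 : g ≠ 1 := fun e => hgz (e ▸ one_mem _)
    obtain ⟨P⟩ : Nonempty (Sylow l (cen g)) := inferInstance
    refine w.sylow_not_central hb hl2 P hxv hxl hxz fun y hy => ?_
    have hyp := ThreeSizes.PEl.of_isPGroup (P.isPGroup'.map (cen g).subtype) hy
    have hyg : y ∈ cen g := Subgroup.map_subtype_le _ hy
    have hyo := odd_of_pel hl hl2 hyp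
    have hcg : cen g ≤ cen y := w.odd_central hg1 h2 hb hyg hyo
    have hyv : y ∈ cen v := mem_symm (hcg (mem_symm hg))
    refine hcore l hl hl2 y hyv hyp (CharP.pxq (CharP.opIn_isPGroup (cen v))
      (ThreeSizes.PEl.isPGroup_of_forall (A := Subgroup.zpowers g) fun z hz => ?_)
      (Subgroup.zpowers_le.2 (CharP.le_normalizer_opIn _ hg)) (Nat.coprime_two_right.2 hyo)
      (CharP.le_normalizer_opIn _ hyv) (fun z hz => ?_) fun r _ hr => ?_)
    · obtain ⟨n, rfl⟩ := Submonoid.mem_powers_iff _ _ |>.1 (mem_powers_iff_mem_zpowers.2 hz)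
      exact h2.pow n
    · obtain ⟨n, rfl⟩ := Subgroup.mem_zpowers_iff.1 hz
      exact (show Commute y g from mem_cen.1 hyg).zpow_right n
    · exact (mem_cen.1 (hcg (mem_cen.2 (hr g (Subgroup.mem_zpowers g))))).symm
  have hsq0 : ∀ g ∈ cen v, ThreeSizes.PEl 2 g → g ∉ Zc v → g * g = 1 := fun g hg h2 hgz =>
    w.sq_eq_one hg hgz (hnb g hg h2 hgz) (hnb _ (mul_mem hg (self_mem v))
      (ThreeSizes.PEl.mul (mem_cen.1 hg) h2 (pel_two w.ord)) fun h => hgz (by
        simpa using mul_mem h (inv_mem (self_mem_Zc v))))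
  obtain ⟨s, hsv, hs2, hsz⟩ : ∃ s ∈ cen v, ThreeSizes.PEl 2 s ∧ s ∉ Zc v := by
    by_contra hc
    push Not at hc
    obtain ⟨S⟩ : Nonempty (Sylow 2 (cen v)) := inferInstance
    refine w.not_sylow_le he (C := cen v ⊓ cen y0)
      (by rw [← w.cen_mul_v hy0 hy0o, ← w.ind_mul_v hy0 hy0o hy0z, card_mul_ind]) S fun s hs => ?_
    have hsv := Subgroup.map_subtype_le _ hs
    exact ⟨hsv, mem_symm ((mem_Zc.1 (hc s hsv
      (ThreeSizes.PEl.of_isPGroup (S.isPGroup'.map _) hs))).2 hy0)⟩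
  have hsq : ∀ g ∈ cen v, ThreeSizes.PEl 2 g → g * g = 1 := by
    intro g hg h2
    by_cases hgz : g ∈ Zc v
    · have hc : Commute g s := (mem_cen.1 ((mem_Zc.1 hgz).2 hsv)).symm
      have h1 := hsq0 (g * s) (mul_mem hg hsv) (ThreeSizes.PEl.mul hc h2 hs2) fun h =>
        hsz (by simpa using mul_mem (inv_mem hgz) h)
      rwa [show g * s * (g * s) = g * g * (s * s) by rw [hc.mul_mul_mul_comm], hsq0 s hsv hs2 hsz,
        mul_one] at h1
    · exact hsq0 g hg h2 hgz
  have hopp : ∀ g ∈ CharP.opIn 2 (cen v), g * g = 1 := fun g hg =>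
    hsq g (CharP.opIn_le _ hg) (ThreeSizes.PEl.of_isPGroup (CharP.opIn_isPGroup (cen v)) hg)
  refine ⟨CharP.opIn 2 (cen v), CharP.opIn_isPGroup _, CharP.opIn_le _, fun g hg h2 => ?_, hopp,
    CharP.le_normalizer_opIn _, fun y hy hodd hc => ?_⟩
  · refine ⟨⟨g, hg⟩, mem_pCore_of_centralizes Nat.prime_two h2.restrict fun m hm z hz => ?_, rfl⟩
    refine Subtype.ext ?_
    by_cases hm2 : m = 2
    · subst hm2
      show g * (z : G) = z * g
      have hgz : IsPGroup 2 (Subgroup.zpowers g) := ThreeSizes.PEl.isPGroup_of_forall fun z hz => by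
        obtain ⟨n, rfl⟩ := Submonoid.mem_powers_iff _ _ |>.1 (mem_powers_iff_mem_zpowers.2 hz)
        exact h2.pow n
      have h3 := hgz.to_sup_of_normal_right' (CharP.opIn_isPGroup (cen v))
        (Subgroup.zpowers_le.2 (CharP.le_normalizer_opIn _ hg))
      have h4 := hsq (g * z) (mul_mem hg z.2) (ThreeSizes.PEl.of_isPGroup h3
        (mul_mem (Subgroup.mem_sup_left (Subgroup.mem_zpowers g)) (Subgroup.mem_sup_right ⟨z, hz, rfl⟩)))
      rw [← inv_eq_of_mul_eq_one_right h4, mul_inv_rev, inv_eq_of_mul_eq_one_right (hsq g hg h2),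
        inv_eq_of_mul_eq_one_right (hopp z ⟨z, hz, rfl⟩)]
    · exact mem_cen.1 ((mem_Zc.1 (hall m hm hm2 z ⟨z, hz, rfl⟩)).2 hg)
  · by_contra hne
    obtain ⟨m, n, hm, hp, hn⟩ := ThreeSizes.exists_primary_not_mem hne
    by_cases hm2 : m = 2
    · subst hm2
      have : y ^ n = 1 := eq_one_of_sq_of_odd (odd_of_pow hodd n) (hsq _ ((cen v).pow_mem hy n) hp)
      exact hn (this ▸ one_mem _)
    · exact hn (hcore m hm hm2 _ ((cen v).pow_mem hy n) hp fun s hs =>
        ((show Commute y s from hc s hs).pow_left n).eq)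

/-- The centraliser is of one of the three types. -/
theorem types : (∃ S, NType v S) ∨ (∃ X, DType v X) ∨ ∃ S, EType v S := by
  by_cases hc : ∃ y ∈ cen v, Odd (orderOf y) ∧ y ∉ Zc v ∧ 2 * ind v ∣ b
  · obtain ⟨y, hy, hodd, hne, he⟩ := hc
    by_cases hq : ∃ q : ℕ, q.Prime ∧ q ≠ 2 ∧ ∃ r ∈ CharP.opIn q (cen v), r ∉ Zc v
    · obtain ⟨q, hq, hq2, hr⟩ := hq
      haveI := Fact.mk hq
      exact Or.inr (Or.inl (w.dType he hq2 hr))
    · push Not at hq
      exact Or.inr (Or.inr (w.eType he ⟨y, hy, hodd, hne⟩ hq))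
  · push Not at hc
    exact Or.inl (w.nType hc)

end Inv

end Cfsg.Agent.ConjRankFour
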