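import Cfsg.Agent.Lib.ConjRankFour.Poset
import Cfsg.Agent.Lib.Involutions.SwapCount
import Cfsg.Agent.Lib.Partition.Simple
import Cfsg.Agent.Lib.Solvable.Coprime
import Cfsg.Agent.Lib.FiveOrbits.Central
import Cfsg.Agent.S1225
import Mathlib.GroupTheory.IndexNormal

/-!
# Elementary Sylow `2`-subgroups, normal in the centralisers of their involutions

Here `N = N(S)` is strongly embedded.  For an involution `x` outside `N` and the two point
stabiliser `D`, either `x` inverts `D`, or a real element commutes with a fixed point of `x` in `D`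
and the four sizes force `D` to be an `r`-group with `|S| - 1` a prime, so that the stabiliser of an
involution in `D` centralises `S`.  If `x` inverts `D` then `D` is malnormal in `N`, so all
centralisers of involutions of `S` are the same complement of the conjugates of `D`.  Both times
no element of odd order acts on `S` with a fixed involution.
-/

set_option autoImplicit false
set_option linter.style.haveILetI false
set_option linter.unusedSectionVars false
set_option linter.unusedVariables false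

namespace Cfsg.Agent.ConjRankFour

open Cfsg.Agent.ConjRankThree

universe u

/-- An involution on a finite type of odd cardinality has a fixed point, and in general a map of
prime order fixes as many points modulo the prime as there are. -/
theorem perm_fixed_modEq {α : Type u} [Finite α] (f : α → α) {p : ℕ} (hp : p.Prime)
    (hf : ∀ a, f^[p] a = a) : Nat.card α ≡ Nat.card {a : α // f a = a} [MOD p] := by
  classical
  haveI := Fact.mk hp
  haveI := Fintype.ofFinite α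
  let f' : Function.End α := f
  have h1 : f' ^ p ^ 1 = 1 := by
    rw [pow_one]
    funext a
    have e : ∀ n : ℕ, (f' ^ n) a = f^[n] a := by
      intro n
      induction n generalizing a with
      | zero => rfl
      | succ n ih =>
        rw [pow_succ, Function.iterate_succ_apply]
        exact ih (f a)
    exact (e p).trans (hf a)
  have h2 := Equiv.Perm.card_fixedPoints_modEq h1
  rw [Nat.card_eq_fintype_card, Nat.card_eq_fintype_card]
  refine h2.trans ?_
  rw [← Nat.card_eq_fintype_card, ← Nat.card_eq_fintype_card]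
  rfl

variable {G : Type u} [Group G] [Finite G]

theorem card_cen_dvd {g k : G} (e : ind g ∣ ind k) : Nat.card (cen k) ∣ Nat.card (cen g) := by
  obtain ⟨c, hc⟩ := e
  refine ⟨c, Nat.eq_of_mul_eq_mul_right (index_pos g) ?_⟩
  rw [card_mul_ind, mul_assoc, mul_comm c, ← hc, card_mul_ind]

theorem eq_one_of_inv_comm {x k : G} (hk : Odd (orderOf k)) (hinv : x * k * x⁻¹ = k⁻¹)
    (hc : x ∈ cen k) : k = 1 := by
  rw [mem_cen.1 hc, mul_inv_cancel_right] at hinv
  refine Invol.eq_one_of_sq_of_odd hk ?_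
  rw [pow_two]
  nth_rw 2 [hinv]
  exact mul_inv_cancel k

/-- The hypotheses of the elementary case. -/
structure ElemCtx (S : Sylow 2 G) (t w : G) : Prop where
  rank : Rank G
  up : UpOne G
  sq : ∀ s ∈ (S : Subgroup G), s * s = 1
  norm : ∀ u : G, orderOf u = 2 → ∃ P : Sylow 2 G,
    (P : Subgroup G) ≤ cen u ∧ cen u ≤ Subgroup.normalizer ((P : Subgroup G) : Set G)
  ord : orderOf t = 2
  min : IsMin G (ind t)
  mem : w ∈ cen t
  odd : Odd (orderOf w)
  even : 2 ∣ ind (t * w)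

/-- The intersection of the normaliser of `S` with its conjugate by `x`. -/
abbrev Dp (S : Sylow 2 G) (x : G) : Subgroup G :=
  Subgroup.normalizer ((S : Subgroup G) : Set G) ⊓
    (Subgroup.normalizer ((S : Subgroup G) : Set G)).map (MulAut.conj x).toMonoidHom

namespace ElemCtx

variable {S : Sylow 2 G} {t w : G} (h : ElemCtx S t w)

/-- The normaliser of the Sylow subgroup. -/
local notation "NS" => Subgroup.normalizer ((S : Subgroup G) : Set G)

include h

theorem comm {P : Sylow 2 G} {p q : G} (hp : p ∈ (P : Subgroup G)) (hq : q ∈ (P : Subgroup G)) :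
    p * q = q * p := by
  obtain ⟨g, hg⟩ := MulAction.exists_smul_eq G S P
  have hsq : ∀ {a : G}, a ∈ (P : Subgroup G) → a * a = 1 := by
    intro a ha
    rw [← hg, Sylow.coe_subgroup_smul, Subgroup.mem_pointwise_smul_iff_inv_smul_mem] at ha
    simp only [MulAut.smul_def, ← map_inv, MulAut.conj_apply, inv_inv] at ha
    have := h.sq _ ha
    calc a * a = g * (g⁻¹ * a * g * (g⁻¹ * a * g)) * g⁻¹ := by group
      _ = 1 := by rw [this]; group
  have hi : ∀ {a : G}, a ∈ (P : Subgroup G) → a⁻¹ = a := fun {a} ha =>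
    inv_eq_of_mul_eq_one_right (hsq ha)
  calc p * q = (p * q)⁻¹ := (hi (mul_mem hp hq)).symm
    _ = q * p := by rw [mul_inv_rev, hi hp, hi hq]

theorem mem_of_normalizes {P : Sylow 2 G} {y : G} (hy : orderOf y = 2)
    (hn : y ∈ Subgroup.normalizer ((P : Subgroup G) : Set G)) : y ∈ (P : Subgroup G) := by
  haveI : Fact (Nat.Prime 2) := ⟨Nat.prime_two⟩
  have hz : IsPGroup 2 (Subgroup.zpowers y) :=
    IsPGroup.of_card (n := 1) (by rw [Nat.card_zpowers, hy, pow_one])
  have e := hz.inf_normalizer_sylow P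
  exact (e.le ⟨Subgroup.mem_zpowers y, hn⟩).2

theorem cen_norm {P : Sylow 2 G} {u : G} (hu : orderOf u = 2) (huP : u ∈ (P : Subgroup G)) :
    (P : Subgroup G) ≤ cen u ∧ cen u ≤ Subgroup.normalizer ((P : Subgroup G) : Set G) := by
  haveI : Fact (Nat.Prime 2) := ⟨Nat.prime_two⟩
  have hPu : (P : Subgroup G) ≤ cen u := fun p hp => mem_cen.2 (h.comm hp huP)
  obtain ⟨Q, -, hQn⟩ := h.norm u hu
  have e := P.isPGroup'.inf_normalizer_sylow Q
  have hle : (P : Subgroup G) ≤ Q := fun p hp => (e.le ⟨hp, hQn (hPu hp)⟩).2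
  exact ⟨hPu, P.is_maximal' Q.isPGroup' hle ▸ hQn⟩

theorem mem_S {u : G} (hu : orderOf u = 2) (huN : u ∈ NS) : u ∈ (S : Subgroup G) :=
  h.mem_of_normalizes hu huN

theorem not_two_dvd {g : G} (hS : (S : Subgroup G) ≤ cen g) : ¬ 2 ∣ ind g := fun hd =>
  haveI : Fact (Nat.Prime 2) := ⟨Nat.prime_two⟩
  S.not_dvd_index (hd.trans (Subgroup.index_dvd_of_le hS))

theorem two_dvd_card : 2 ∣ Nat.card G := h.ord ▸ orderOf_dvd_natCard t

theorem se : Cfsg.IsStronglyEmbedded NS := by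
  haveI : Fact (Nat.Prime 2) := ⟨Nat.prime_two⟩
  haveI := h.rank.simple
  have hne : (S : Subgroup G) ≠ ⊥ := S.ne_bot_of_dvd_card h.two_dvd_card
  have hT : ((S.subtype Subgroup.le_normalizer : Sylow 2 NS) : Subgroup NS).map (NS).subtype = S := by
    rw [Sylow.coe_subtype, Subgroup.subgroupOf_map_subtype, inf_eq_left.2 Subgroup.le_normalizer]
  refine Invol.se_of_centralizers ?_ (S.subtype Subgroup.le_normalizer) ?_ ?_ ?_
  · intro htop
    haveI := Subgroup.normalizer_eq_top_iff.1 htop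
    rcases IsSimpleGroup.eq_bot_or_eq_top_of_normal (S : Subgroup G) inferInstance with e | e
    · exact hne e
    · obtain ⟨a, b, hab⟩ := h.rank.nonab
      exact hab (h.comm (P := S) (e ▸ Subgroup.mem_top a) (e ▸ Subgroup.mem_top b))
  · haveI : Nontrivial (S : Subgroup G) := (Subgroup.nontrivial_iff_ne_bot _).2 hne
    obtain ⟨k, hk0, hk⟩ := S.isPGroup'.nontrivial_iff_card.1 inferInstance
    exact even_iff_two_dvd.2 ((hk ▸ dvd_pow_self 2 (by omega)).trans
      (Subgroup.card_dvd_of_le Subgroup.le_normalizer))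
  · rw [hT]
  · exact fun u huN hu => (h.cen_norm hu (h.mem_S hu huN)).2

theorem cen_le {u : G} (hu : orderOf u = 2) (huN : u ∈ NS) : cen u ≤ NS :=
  (h.cen_norm hu (h.mem_S hu huN)).2

theorem ind_invol {u : G} (hu : orderOf u = 2) : ind u = ind t := by
  obtain ⟨g, rfl⟩ := isConj_iff.1 (Invol.se_isConj h.se h.ord hu)
  exact ind_conj t g

theorem ind_t_odd : ¬ 2 ∣ ind t := by
  obtain ⟨u, huN, hu⟩ := Invol.exists_invol h.se.2.1
  rw [← h.ind_invol hu]
  exact h.not_two_dvd (h.cen_norm hu (h.mem_S hu huN)).1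

theorem t_ne : t ≠ 1 := ne_one_of_orderOf (by norm_num) h.ord

theorem tw_ne : t * w ≠ 1 :=
  mul_ne_one_of_coprime h.t_ne (h.ord ▸ Nat.coprime_two_left.2 h.odd)

theorem tw_dvd : ind t ∣ ind (t * w) := (ind_mul_dvd h.mem (h.ord ▸ Nat.coprime_two_left.2 h.odd)).1

theorem tw_ind_ne : ind (t * w) ≠ ind t := fun e => h.ind_t_odd (e ▸ h.even)

theorem up' {g : G} (hg : g ≠ 1) (hd : ind t ∣ ind g) (hne : ind g ≠ ind t) :
    ind g = ind (t * w) :=
  h.up t g (t * w) h.t_ne hg h.tw_ne h.min hd h.tw_dvd hne h.tw_ind_ne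

/-- The centralisers of the involutions of `S` are not all the same. -/
theorem false_of_cen_eq
    (heq : ∀ u v : G, orderOf u = 2 → u ∈ NS → orderOf v = 2 → v ∈ NS → cen u = cen v) : False := by
  obtain ⟨g, hg⟩ := Partition.exists_conj_mem_sylow h.ord S
  have ht' : orderOf (g⁻¹ * t * g) = 2 := by
    rw [show g⁻¹ * t * g = g⁻¹ * t * g⁻¹⁻¹ by group, Invol.order_conj, h.ord]
  have hwc : g⁻¹ * w * g ∈ cen (g⁻¹ * t * g) := by simpa using conj_mem_cen h.mem g⁻¹
  have hS : (S : Subgroup G) ≤ cen (g⁻¹ * w * g) := by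
    intro s hs
    by_cases hs1 : s = 1
    · rw [hs1]; exact one_mem _
    have hso : orderOf s = 2 := orderOf_eq_prime (by rw [pow_two, h.sq s hs]) hs1
    rw [heq _ s ht' (Subgroup.le_normalizer hg) hso (Subgroup.le_normalizer hs)] at hwc
    exact mem_symm hwc
  refine h.not_two_dvd (g := g⁻¹ * (t * w) * g) (fun s hs => mem_cen.2 ?_) ?_
  · have h1 : Commute s (g⁻¹ * t * g) := h.comm hs hg
    have h2 : Commute s (g⁻¹ * w * g) := mem_cen.1 (hS hs)
    rw [show g⁻¹ * (t * w) * g = g⁻¹ * t * g * (g⁻¹ * w * g) by group]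
    exact (h1.mul_right h2).eq
  · rw [show g⁻¹ * (t * w) * g = g⁻¹ * (t * w) * g⁻¹⁻¹ by group, ind_conj]
    exact h.even

/-- No element of odd order is inverted by an involution commuting with a fixed involution. -/
theorem no_comm {z u k : G} (hz : orderOf z = 2) (hu : orderOf u = 2) (hzu : z ∈ cen u)
    (hku : k ∈ cen u) (hk : Odd (orderOf k)) (hinv : z * k * z⁻¹ = k⁻¹) : k = 1 := by
  obtain ⟨P, hPu, hPn⟩ := h.norm u hu
  have hzP : z ∈ (P : Subgroup G) := h.mem_of_normalizes hz (hPn hzu)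
  have hkn := hPn hku
  have h1 : k * z * k⁻¹ ∈ (P : Subgroup G) := (Subgroup.mem_normalizer_iff.1 hkn z).1 hzP
  have h2 : z * (k * z * k⁻¹) ∈ (P : Subgroup G) := mul_mem hzP h1
  have e : z * (k * z * k⁻¹) = k⁻¹ * k⁻¹ := by
    calc z * (k * z * k⁻¹) = z * k * z⁻¹ * k⁻¹ := by rw [Invol.inv_self hz]; group
      _ = k⁻¹ * k⁻¹ := by rw [hinv]
  rw [e] at h2
  obtain ⟨i, hi⟩ := IsPGroup.iff_orderOf.1 P.isPGroup' ⟨_, h2⟩
  rw [Subgroup.orderOf_mk, ← mul_inv_rev, orderOf_inv] at hi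
  refine Invol.eq_one_of_sq_of_odd hk ?_
  rw [pow_two, ← orderOf_eq_one_iff]
  have hd : orderOf (k * k) ∣ orderOf k := by rw [← pow_two]; exact orderOf_pow_dvd 2
  rcases Nat.eq_zero_or_pos i with rfl | hi0
  · simpa using hi
  · exact absurd (hk.of_dvd_nat hd)
      (Nat.not_odd_iff_even.2 (hi ▸ Nat.even_pow.2 ⟨even_two, hi0.ne'⟩))

theorem no_inv_in_N {v k : G} (hv : orderOf v = 2) (hvN : v ∈ NS) (hkN : k ∈ NS)
    (hk : Odd (orderOf k)) (hinv : v * k * v⁻¹ = k⁻¹) : k = 1 := by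
  have hvS := h.mem_S hv hvN
  have h1 : k * v * k⁻¹ ∈ (S : Subgroup G) := (Subgroup.mem_normalizer_iff.1 hkN v).1 hvS
  have hc := h.comm hvS h1
  have e : v * (k * v * k⁻¹) = k⁻¹ * k⁻¹ := by
    calc v * (k * v * k⁻¹) = v * k * v⁻¹ * k⁻¹ := by rw [Invol.inv_self hv]; group
      _ = k⁻¹ * k⁻¹ := by rw [hinv]
  have h2 : k⁻¹ * k⁻¹ * (k⁻¹ * k⁻¹) = 1 := by
    rw [← e]; exact h.sq _ (mul_mem hvS h1)
  refine Invol.eq_one_of_sq_of_odd hk ?_
  rw [← orderOf_eq_one_iff]
  have h3 : orderOf (k ^ 2) ∣ 2 := orderOf_dvd_of_pow_eq_one (by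
    rw [← inv_inj, inv_one, ← h2]; group)
  exact Nat.eq_one_of_dvd_coprimes (Nat.coprime_two_right.2 hk) (orderOf_pow_dvd 2) h3

/-- Real elements of odd order have centralisers of odd order. -/
theorem real_odd {y k : G} (hy : orderOf y = 2) (hk : Odd (orderOf k)) (hk1 : k ≠ 1)
    (hinv : y * k * y⁻¹ = k⁻¹) : Odd (Nat.card (cen k)) := by
  rw [← Nat.not_even_iff_odd]
  intro he
  obtain ⟨u, huk, hu⟩ := Invol.exists_invol he
  have hku : k ∈ cen u := mem_symm huk
  have hukk : u * k * u⁻¹ = k := by rw [mem_cen.1 huk, mul_inv_cancel_right]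
  have hpow : ∀ n : ℕ, (y * u) ^ n * k * ((y * u) ^ n)⁻¹ = if Even n then k else k⁻¹ := by
    intro n
    induction n with
    | zero => simp
    | succ n ih =>
      rw [pow_succ, mul_inv_rev,
        show (y * u) ^ n * (y * u) * k * ((y * u)⁻¹ * ((y * u) ^ n)⁻¹)
          = (y * u) ^ n * (y * (u * k * u⁻¹) * y⁻¹) * ((y * u) ^ n)⁻¹ by group,
        hukk, hinv, ← conj_inv, ih]
      by_cases hn : Even n <;> simp [hn, Nat.even_add_one]
  by_cases hev : Even (orderOf (y * u))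
  · have hz := Invol.half_order hy hu hev (orderOf_pos _)
    obtain ⟨hzy, hzu⟩ := Invol.half_commute hy hu hev
    have hp := hpow (orderOf (y * u) / 2)
    set z := (y * u) ^ (orderOf (y * u) / 2)
    split_ifs at hp with h2
    · refine hk1 (h.no_comm hy hz (mem_cen.2 hzy.eq.symm) (mem_symm (mem_cen.2 ?_)) hk hinv)
      exact mul_inv_eq_iff_eq_mul.1 hp
    · exact hk1 (h.no_comm hz hu (mem_cen.2 hzu.eq) hku hk hp)
  · have hp := hpow (orderOf (y * u))
    rw [pow_orderOf_eq_one, if_neg hev, one_mul, inv_one, mul_one] at hp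
    exact hk1 (Invol.eq_one_of_sq_of_odd hk (by
      rw [pow_two]; nth_rw 2 [hp]; exact mul_inv_cancel k))

/-- An element centralising `S` and an involution of `S` has the centraliser of the latter. -/
theorem cen_eq_of_le {c u : G} (hc : c ≠ 1) (hco : Odd (orderOf c))
    (hS : (S : Subgroup G) ≤ cen c) (hu : orderOf u = 2) (huN : u ∈ NS) : cen u = cen c := by
  have huS := h.mem_S hu huN
  have hcu : c ∈ cen u := mem_symm (hS huS)
  have hcop : (orderOf u).Coprime (orderOf c) := hu ▸ Nat.coprime_two_left.2 hco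
  have hodd : ¬ 2 ∣ ind (u * c) := h.not_two_dvd fun s hs => mem_cen.2
    (Commute.mul_right (h.comm hs huS : Commute s u) (mem_cen.1 (hS hs) : Commute s c)).eq
  have hu1 : u ≠ 1 := ne_one_of_orderOf (by norm_num) hu
  have he : ind (u * c) = ind u := by
    by_contra hne
    have h1 := h.up' (mul_ne_one_of_coprime hu1 hcop) (h.ind_invol hu ▸ (ind_mul_dvd hcu hcop).1)
      (h.ind_invol hu ▸ hne)
    exact hodd (h1 ▸ h.even)
  exact ((h.ind_invol hu).symm ▸ h.min : IsMin G (ind u)).cen_eq hc (cen_le_of_ind_mul hcu hcop he)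

omit h in
theorem mem_D {x d : G} : d ∈ Dp S x ↔ d ∈ NS ∧ x⁻¹ * d * x ∈ NS :=
  Subgroup.mem_inf.trans (and_congr_right fun _ => Invol.mem_conj_map)

variable {x : G} (hx : orderOf x = 2) (hxN : x ∉ Subgroup.normalizer ((S : Subgroup G) : Set G))
include hx hxN

theorem D_odd {d : G} (hd : d ∈ Dp S x) : Odd (orderOf d) :=
  (h.se.2.2 x hxN).of_dvd_nat (Subgroup.orderOf_dvd_natCard _ hd)

theorem D_conj {d : G} (hd : d ∈ Dp S x) : x * d * x⁻¹ ∈ Dp S x := by
  obtain ⟨h1, h2⟩ := mem_D.1 hd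
  have hxi : x⁻¹ = x := Invol.inv_self hx
  refine mem_D.2 ⟨by rwa [hxi] at h2 ⊢, ?_⟩
  rwa [show x⁻¹ * (x * d * x⁻¹) * x = d by group]

/-- The inverted elements of the stabiliser are as many as the involutions of `N`. -/
theorem card_inv : Nat.card {d : Dp S x // x * (d : G) * x⁻¹ = (d : G)⁻¹}
    = Nat.card {u : G // orderOf u = 2 ∧ u ∈ NS} := by
  have hxi : x⁻¹ = x := Invol.inv_self hx
  have hxx : x * x = 1 := Invol.mul_self hx
  have hxy : ((1 : G) : G ⧸ NS) ≠ (x : G ⧸ NS) := by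
    rw [Ne, QuotientGroup.eq, inv_one, one_mul]; exact hxN
  rw [← Invol.card_swapInv h.se hxy]
  refine Nat.card_congr ⟨fun d => ⟨x * (d.1 : G), ?_, ?_⟩, fun s => ⟨⟨x * s.1, ?_⟩, ?_⟩,
    fun d => ?_, fun s => ?_⟩
  · refine orderOf_eq_prime ?_ fun e => hxN ?_
    · rw [pow_two, ← mul_assoc]
      have h2 := d.2
      simp only [hxi] at h2
      rw [h2, inv_mul_cancel]
    · rw [mul_eq_one_iff_eq_inv] at e
      rw [e]
      exact inv_mem (mem_D.1 d.1.2).1
  · rw [MulAction.Quotient.smul_coe, smul_eq_mul, mul_one, QuotientGroup.eq,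
      show (x * (d.1 : G))⁻¹ * x = (d.1 : G)⁻¹ by group]
    exact inv_mem (mem_D.1 d.1.2).1
  · have h1 := s.2.2
    rw [MulAction.Quotient.smul_coe, smul_eq_mul, mul_one, QuotientGroup.eq,
      Invol.inv_self s.2.1] at h1
    refine mem_D.2 ⟨?_, ?_⟩
    · have h2 := inv_mem h1
      rwa [mul_inv_rev, Invol.inv_self s.2.1, hxi] at h2
    · rw [show x⁻¹ * (x * s.1) * x = s.1 * x by group]
      exact h1
  · show x * (x * s.1) * x⁻¹ = (x * s.1)⁻¹
    rw [mul_inv_rev, Invol.inv_self s.2.1, hxi, ← mul_assoc x x, hxx, one_mul]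
  · exact Subtype.ext (Subtype.ext (by
      show x * (x * (d.1 : G)) = _
      rw [← mul_assoc, hxx, one_mul]))
  · exact Subtype.ext (by
      show x * (x * s.1) = _
      rw [← mul_assoc, hxx, one_mul])

theorem trans_D {u v : G} (hu : orderOf u = 2) (huN : u ∈ NS) (hv : orderOf v = 2) (hvN : v ∈ NS) :
    ∃ d ∈ Dp S x, d * u * d⁻¹ = v :=
  (S1225.result NS h.se x hx hxN u v hu huN hv hvN).1

omit hx hxN in
theorem card_orbit {K : Subgroup G} (hK : K ≤ NS) {u : G} (hu : orderOf u = 2) (huN : u ∈ NS)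
    (htr : ∀ v : G, orderOf v = 2 → v ∈ NS → ∃ d ∈ K, d * u * d⁻¹ = v) :
    Nat.card K = Nat.card {v : G // orderOf v = 2 ∧ v ∈ NS} * Nat.card (cen u ⊓ K : Subgroup G) := by
  have hrel : ∀ a b : K, QuotientGroup.leftRel ((cen u).subgroupOf K) a b →
      (a : G) * u * (a : G)⁻¹ = b * u * (b : G)⁻¹ := by
    intro a b hab
    rw [QuotientGroup.leftRel_apply, Subgroup.mem_subgroupOf] at hab
    have h1 := mem_cen.1 hab
    push_cast at h1
    calc (a : G) * u * (a : G)⁻¹ = a * (u * ((a : G)⁻¹ * b)) * (b : G)⁻¹ := by group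
      _ = b * u * (b : G)⁻¹ := by rw [← h1]; group
  let f : K ⧸ (cen u).subgroupOf K → {v : G // orderOf v = 2 ∧ v ∈ NS} :=
    Quotient.lift (fun a : K => (⟨(a : G) * u * (a : G)⁻¹, by rw [Invol.order_conj, hu],
      mul_mem (mul_mem (hK a.2) huN) (inv_mem (hK a.2))⟩ : {v : G // orderOf v = 2 ∧ v ∈ NS}))
      fun a b hab => Subtype.ext (hrel a b hab)
  have hf : Function.Bijective f := by
    refine ⟨fun q q' e => ?_, fun v => ?_⟩
    · induction q using QuotientGroup.induction_on with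
      | _ a =>
        induction q' using QuotientGroup.induction_on with
        | _ b =>
          have e' : (a : G) * u * (a : G)⁻¹ = b * u * (b : G)⁻¹ := congrArg Subtype.val e
          rw [QuotientGroup.eq, Subgroup.mem_subgroupOf]
          push_cast
          refine mem_cen.2 ?_
          calc (a : G)⁻¹ * b * u = (a : G)⁻¹ * (b * u * (b : G)⁻¹) * b := by group
            _ = u * ((a : G)⁻¹ * b) := by rw [← e']; group
    · obtain ⟨d, hd, hdv⟩ := htr v.1 v.2.1 v.2.2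
      exact ⟨((⟨d, hd⟩ : K) : K ⧸ (cen u).subgroupOf K), Subtype.ext hdv⟩
  rw [Subgroup.card_eq_card_quotient_mul_card_subgroup ((cen u).subgroupOf K),
    Nat.card_eq_of_bijective f hf]
  congr 1
  rw [← Subgroup.card_subtype K, Subgroup.subgroupOf_map_subtype]

/-- An element of prime order of the stabiliser fixed by `x` commutes with a real element which `x`
inverts. -/
theorem exists_real {e : G} (he : e ∈ Dp S x) (hex : e ∈ cen x) {p : ℕ} (hp : p.Prime)
    (hep : orderOf e = p) :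
    ∃ k : G, Odd (orderOf k) ∧ k ≠ 1 ∧ x * k * x⁻¹ = k⁻¹ ∧ e ∈ cen k := by
  classical
  have heN := (mem_D.1 he).1
  have hexx : e * x * e⁻¹ = x := by rw [mem_cen.1 hex, mul_inv_cancel_right]
  set n := Nat.card {u : G // orderOf u = 2 ∧ u ∈ NS} with hn
  by_contra hno
  push Not at hno
  -- no fixed involution
  let f : {u : G // orderOf u = 2 ∧ u ∈ NS} → {u : G // orderOf u = 2 ∧ u ∈ NS} := fun u =>
    ⟨e * u.1 * e⁻¹, by rw [Invol.order_conj, u.2.1], mul_mem (mul_mem heN u.2.2) (inv_mem heN)⟩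
  have hf : ∀ (m : ℕ) u, (f^[m] u).1 = e ^ m * u.1 * (e ^ m)⁻¹ := by
    intro m
    induction m with
    | zero => simp
    | succ m ih =>
      intro u
      rw [Function.iterate_succ_apply', pow_succ']
      show e * (f^[m] u).1 * e⁻¹ = _
      rw [ih]; group
  have h1 := perm_fixed_modEq f hp fun u => Subtype.ext (by
    rw [hf, ← hep, pow_orderOf_eq_one]; group)
  haveI hempty : IsEmpty {u : {u : G // orderOf u = 2 ∧ u ∈ NS} // f u = u} := ⟨fun u => by
    have hu := congrArg Subtype.val u.2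
    have heu : e * u.1.1 = u.1.1 * e := mul_inv_eq_iff_eq_mul.1 hu
    refine hno (u.1.1 * x) (Invol.se_odd_of_not_mem h.se u.1.2.1 u.1.2.2 hx hxN) ?_ ?_
      (mem_cen.2 ?_)
    · intro e1
      rw [mul_eq_one_iff_eq_inv, Invol.inv_self hx] at e1
      exact hxN (e1 ▸ u.1.2.2)
    · rw [mul_inv_rev, Invol.inv_self u.1.2.1, Invol.inv_self hx, mul_assoc, mul_assoc,
        Invol.mul_self hx, mul_one]
    · exact (Commute.mul_right (heu : Commute e u.1.1) (mem_cen.1 hex : Commute e x)).eq⟩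
  rw [Nat.card_of_isEmpty (α := {u : {u : G // orderOf u = 2 ∧ u ∈ NS} // f u = u}), ← hn] at h1
  -- only the identity is fixed among the inverted elements
  let g : {d : Dp S x // x * (d : G) * x⁻¹ = (d : G)⁻¹} → {d : Dp S x // x * (d : G) * x⁻¹ = (d : G)⁻¹} :=
    fun d => ⟨⟨e * (d.1 : G) * e⁻¹, mul_mem (mul_mem he d.1.2) (inv_mem he)⟩, by
      show x * (e * (d.1 : G) * e⁻¹) * x⁻¹ = (e * (d.1 : G) * e⁻¹)⁻¹
      have hc : Commute x e := (mem_cen.1 hex).symm
      calc x * (e * (d.1 : G) * e⁻¹) * x⁻¹ = (x * e) * (d.1 : G) * (x * e)⁻¹ := by group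
        _ = (e * x) * (d.1 : G) * (e * x)⁻¹ := by rw [hc.eq]
        _ = e * (x * (d.1 : G) * x⁻¹) * e⁻¹ := by group
        _ = _ := by rw [d.2]; group⟩
  have hg : ∀ (m : ℕ) d, (((g^[m] d).1 : Dp S x) : G) = e ^ m * (d.1 : G) * (e ^ m)⁻¹ := by
    intro m
    induction m with
    | zero => simp
    | succ m ih =>
      intro d
      rw [Function.iterate_succ_apply', pow_succ']
      show e * (((g^[m] d).1 : Dp S x) : G) * e⁻¹ = _
      rw [ih]; group
  have h2 := perm_fixed_modEq g hp fun d => Subtype.ext (Subtype.ext (by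
    rw [hg, ← hep, pow_orderOf_eq_one]; group))
  have huniq : ∀ d : {d : {d : Dp S x // x * (d : G) * x⁻¹ = (d : G)⁻¹} // g d = d},
      ((d.1.1 : Dp S x) : G) = 1 := by
    intro d
    by_contra hd1
    have hd := congrArg (fun a => (((a : {d : Dp S x // x * (d : G) * x⁻¹ = (d : G)⁻¹}).1 : Dp S x) : G)) d.2
    exact hno _ (h.D_odd hx hxN d.1.1.2) hd1 d.1.2 (mem_cen.2 (mul_inv_eq_iff_eq_mul.1 hd))
  have h3 : Nat.card {d : {d : Dp S x // x * (d : G) * x⁻¹ = (d : G)⁻¹} // g d = d} = 1 := by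
    rw [Nat.card_eq_one_iff_unique]
    refine ⟨⟨fun a b => Subtype.ext (Subtype.ext (Subtype.ext
      ((huniq a).trans (huniq b).symm)))⟩, ⟨⟨⟨1, by simp⟩, Subtype.ext (Subtype.ext ?_)⟩⟩⟩
    show e * ((1 : Dp S x) : G) * e⁻¹ = _
    simp
  rw [h3, h.card_inv hx hxN, ← hn] at h2
  exact hp.one_lt.ne' (Nat.eq_one_of_dvd_one (Nat.modEq_zero_iff_dvd.1 (h2.symm.trans h1)))

/-- With a fixed point in the stabiliser, the centralisers of real elements are `r`-groups for one
prime `r`. -/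
theorem real_pgroup {e k : G} (hex : e ∈ cen x) {p : ℕ} (hp : p.Prime) (hep : orderOf e = p)
    (hp2 : p ≠ 2) (hk : Odd (orderOf k)) (hk1 : k ≠ 1) (hinv : x * k * x⁻¹ = k⁻¹)
    (hek : e ∈ cen k) :
    ∃ r : ℕ, r.Prime ∧ ∀ g : G, Odd (orderOf g) → g ≠ 1 → x * g * x⁻¹ = g⁻¹ →
      IsPGroup r (cen g) := by
  haveI : Fact (Nat.Prime 2) := ⟨Nat.prime_two⟩
  have he1 : e ≠ 1 := ne_one_of_orderOf hp.ne_one hep
  have hx1 : x ≠ 1 := ne_one_of_orderOf (by norm_num) hx
  have hxmin : IsMin G (ind x) := (h.ind_invol hx).symm ▸ h.min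
  have hco : (orderOf x).Coprime (orderOf e) := by
    rw [hx, hep]; exact (Nat.coprime_primes Nat.prime_two hp).2 (Ne.symm hp2)
  have hne1 : x * e ≠ 1 := mul_ne_one_of_coprime hx1 hco
  obtain ⟨hd1, hd2⟩ := ind_mul_dvd hex hco
  have hxk : ¬ x ∈ cen k := fun hc => hk1 (eq_one_of_inv_comm hk hinv hc)
  have hkx : ¬ k ∈ cen x := fun hc => hxk (mem_symm hc)
  -- the size of `e` is not that of an involution
  have hea : ind e ≠ ind x := by
    intro ee
    have hxe : x ∈ cen e := mem_symm hex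
    obtain ⟨Q, hQ⟩ := (IsPGroup.of_card (n := 1) (by
      rw [Nat.card_zpowers, Subgroup.orderOf_mk, hx, pow_one]) :
      IsPGroup 2 (Subgroup.zpowers (⟨x, hxe⟩ : cen e))).exists_le_sylow
    obtain ⟨P, hP⟩ := (Q.isPGroup'.map (cen e).subtype).exists_le_sylow
    have hod : ¬ 2 ∣ ind e := by rw [ee, h.ind_invol hx]; exact h.ind_t_odd
    have hPQ : (P : Subgroup G) = (Q : Subgroup (cen e)).map (cen e).subtype := by
      refine (Subgroup.eq_of_le_of_card_ge hP (le_of_eq ?_)).symm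
      rw [Subgroup.card_subtype, P.card_eq_multiplicity, Q.card_eq_multiplicity, ← card_mul_ind e,
        Nat.factorization_mul Nat.card_pos.ne' (index_pos e).ne', Finsupp.add_apply,
        Nat.factorization_eq_zero_of_not_dvd hod, add_zero]
    have hxP : x ∈ (P : Subgroup G) := hP ⟨_, hQ (Subgroup.mem_zpowers _), rfl⟩
    have hPe : (P : Subgroup G) ≤ cen (x * e) := by
      rw [cen_mul hex hco]
      exact fun y hy => ⟨(h.cen_norm hx hxP).1 hy,
        (hPQ ▸ Subgroup.map_subtype_le _ : (P : Subgroup G) ≤ cen e) hy⟩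
    have hodd : ¬ 2 ∣ ind (x * e) := fun hd =>
      P.not_dvd_index (hd.trans (Subgroup.index_dvd_of_le hPe))
    have he' : ind (x * e) = ind x := by
      by_contra hne
      exact hodd ((h.up' hne1 (h.ind_invol hx ▸ hd1) (h.ind_invol hx ▸ hne)) ▸ h.even)
    have := eq_of_le_of_ind (cen_le_of_ind_mul hex hco he') ee.symm
    exact hkx (this.symm ▸ mem_symm hek)
  have hb : ind (x * e) = ind (t * w) := by
    refine h.up' hne1 (h.ind_invol hx ▸ hd1) fun e' => hea ?_
    exact hxmin e he1 ((hd2.trans (e'.trans (h.ind_invol hx).symm).dvd))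
  have heb : ind e ≠ ind (t * w) := by
    intro ee
    have h1 := eq_of_le_of_ind ((cen_mul hex hco).le.trans inf_le_right) (hb.trans ee.symm)
    have h2 : cen (x * e) ≤ cen x := (cen_mul hex hco).le.trans inf_le_left
    exact hkx (h2 (h1.symm ▸ mem_symm hek))
  -- parities of the centralisers
  have hevx : 2 ∣ Nat.card (cen (x * e)) := hx ▸ Subgroup.orderOf_dvd_natCard _ (by
    rw [cen_mul hex hco]; exact ⟨self_mem x, mem_symm hex⟩)
  have heve : 2 ∣ Nat.card (cen e) := hx ▸ Subgroup.orderOf_dvd_natCard _ (mem_symm hex)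
  have hevt : 2 ∣ Nat.card (cen x) := hx ▸ Subgroup.orderOf_dvd_natCard _ (self_mem x)
  have hkodd : ¬ 2 ∣ Nat.card (cen k) := fun hd =>
    Nat.not_even_iff_odd.2 (h.real_odd hx hk hk1 hinv) (even_iff_two_dvd.2 hd)
  have hnd : ∀ {v : G}, 2 ∣ Nat.card (cen v) → ¬ ind k ∣ ind v := fun {v} hv hd =>
    hkodd (hv.trans (card_cen_dvd hd))
  have hka : ¬ ind k ∣ ind x := hnd hevt
  have hkb : ¬ ind k ∣ ind (x * e) := hnd hevx
  have hkd : ¬ ind k ∣ ind e := hnd heve
  have hxe_ne : ind (x * e) ≠ ind x := fun ee => h.ind_t_odd (by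
    rw [← h.ind_invol hx, ← ee, hb]; exact h.even)
  have had : ¬ ind x ∣ ind e := fun hd => heb (by
    rw [← hb]; exact h.up x e (x * e) hx1 he1 hne1 hxmin hd hd1 hea hxe_ne)
  have hsizes : ∀ g : G, g ≠ 1 →
      ind g = ind x ∨ ind g = ind (x * e) ∨ ind g = ind e ∨ ind g = ind k :=
    fun g hg => h.rank.cases (h.rank.mem_sizes hx1) (h.rank.mem_sizes hne1) (h.rank.mem_sizes he1)
      (h.rank.mem_sizes hk1) (Ne.symm hxe_ne) (Ne.symm hea) (fun ee => hka ee.symm.dvd)
      (fun ee => heb (ee.symm.trans hb)) (fun ee => hkb ee.symm.dvd) (fun ee => hkd ee.symm.dvd) hg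
  have hac : ¬ ind x ∣ ind k := fun hd => hkb (dvd_of_eq
    (h.up x k (x * e) hx1 hk1 hne1 hxmin hd hd1 (fun ee => hka ee.dvd) hxe_ne))
  have hbd : ¬ ind (x * e) ∣ ind e := fun hd => had (hd1.trans hd)
  have hemin : IsMin G (ind e) := fun g hg hd => by
    rcases hsizes g hg with ee | ee | ee | ee <;> rw [ee] at hd ⊢
    exacts [absurd hd had, absurd hd hbd, absurd hd hkd]
  have hdc : ¬ ind e ∣ ind k := fun hd => hkb (dvd_of_eq
    (h.up e k (x * e) he1 hk1 hne1 hemin hd hd2 (fun ee => hkd ee.dvd)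
      (fun ee => heb (ee.symm.trans hb))))
  have hkmin : IsMin G (ind k) := fun g hg hd => by
    rcases hsizes g hg with ee | ee | ee | ee <;> rw [ee] at hd ⊢
    exacts [absurd hd hac, absurd (hd1.trans hd) hac, absurd hd hdc]
  have hkmax : IsMax G (ind k) := fun g hg hd => by
    rcases hsizes g hg with ee | ee | ee | ee <;> rw [ee] at hd ⊢
    exacts [absurd hd hka, absurd hd hkb, absurd hd hkd]
  rcases h.rank.free_cases hk1 hkmin hkmax with ⟨-, hcc⟩ | ⟨r, hr, hrk⟩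
  · exact absurd (hcc e hek he1 ▸ mem_symm hex) hxk
  refine ⟨r, hr, fun g hgo hg1 hginv => ?_⟩
  haveI := Fact.mk hr
  have hgodd : ¬ 2 ∣ Nat.card (cen g) := fun hd =>
    Nat.not_even_iff_odd.2 (h.real_odd hx hgo hg1 hginv) (even_iff_two_dvd.2 hd)
  have hgk : ind g = ind k := by
    rcases hsizes g hg1 with ee | ee | ee | ee
    · exact absurd (two_dvd_ind_of_real hgo hg1 hginv)
        (by rw [ee, h.ind_invol hx]; exact h.ind_t_odd)
    · exact absurd (hevx.trans (card_cen_dvd ee.dvd)) hgodd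
    · exact absurd (heve.trans (card_cen_dvd ee.dvd)) hgodd
    · exact ee
  obtain ⟨i, hi⟩ := hrk.exists_card_eq
  exact IsPGroup.of_card (n := i) (by
    rw [← hi]; exact Nat.dvd_antisymm (card_cen_dvd hgk.symm.dvd) (card_cen_dvd hgk.dvd))

/-- Every involution outside `N` inverts the stabiliser of two points. -/
theorem inverted {d : G} (hd : d ∈ Dp S x) : x * d * x⁻¹ = d⁻¹ := by
  classical
  have hxi : x⁻¹ = x := Invol.inv_self hx
  have hxx : x * x = 1 := Invol.mul_self hx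
  by_cases hfix : ∀ a ∈ Dp S x, x * a * x⁻¹ = a → a = 1
  · let f : ↥(Dp S x) → ↥(Dp S x) := fun a =>
      ⟨(a : G)⁻¹ * (x * a * x⁻¹), mul_mem (inv_mem a.2) (h.D_conj hx hxN a.2)⟩
    have hinj : Function.Injective f := by
      intro a b e
      have e' : (a : G)⁻¹ * (x * a * x⁻¹) = (b : G)⁻¹ * (x * b * x⁻¹) := congrArg Subtype.val e
      have h1 : x * ((b : G) * (a : G)⁻¹) * x⁻¹ = (b : G) * (a : G)⁻¹ := by
        calc x * ((b : G) * (a : G)⁻¹) * x⁻¹
            = (b : G) * ((b : G)⁻¹ * (x * b * x⁻¹)) * (x * a * x⁻¹)⁻¹ := by group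
          _ = (b : G) * (a : G)⁻¹ := by rw [← e']; group
      exact Subtype.ext (mul_inv_eq_one.1 (hfix _ (mul_mem b.2 (inv_mem a.2)) h1)).symm
    obtain ⟨a, ha⟩ := Finite.surjective_of_injective hinj ⟨d, hd⟩
    have ha' : (a : G)⁻¹ * (x * a * x⁻¹) = d := congrArg Subtype.val ha
    rw [← ha', hxi]
    simp [mul_assoc, hxi, hxx]
  exfalso
  push Not at hfix
  obtain ⟨a, haD, hax, ha1⟩ := hfix
  have haC : a ∈ cen x := mem_cen.2 (by
    have := mul_inv_eq_iff_eq_mul.1 hax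
    exact this.symm)
  obtain ⟨p, m, hp, hpd, hpm⟩ := exists_prime_pow ha1
  set e := a ^ m
  have he : e ∈ Dp S x := pow_mem haD m
  have hex : e ∈ cen x := pow_mem haC m
  have hodd : Odd (Nat.card (Dp S x)) := h.se.2.2 x hxN
  have hp2 : p ≠ 2 := fun e2 =>
    Nat.not_odd_iff_even.2 even_two (e2 ▸ (h.D_odd hx hxN haD).of_dvd_nat hpd)
  obtain ⟨k, hk, hk1, hinv, hek⟩ := h.exists_real hx hxN he hex hp hpm
  obtain ⟨r, hr, hR⟩ := h.real_pgroup hx hxN hex hp hpm hp2 hk hk1 hinv hek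
  haveI := Fact.mk hr
  have hfixr : ∀ b ∈ Dp S x, b ∈ cen x → ∀ l : ℕ, l.Prime → orderOf b = l → l = r := by
    intro b hbD hbx l hl hbl
    obtain ⟨k', hk', hk1', hinv', hbk⟩ := h.exists_real hx hxN hbD hbx hl hbl
    obtain ⟨i, hi⟩ := IsPGroup.iff_orderOf.1 (hR k' hk' hk1' hinv') ⟨b, hbk⟩
    rw [Subgroup.orderOf_mk, hbl] at hi
    exact (Nat.prime_dvd_prime_iff_eq hl hr).1 (hl.dvd_of_dvd_pow hi.dvd)
  -- the stabiliser is an `r`-group
  have hDr : ∀ l : ℕ, l.Prime → l ∣ Nat.card (Dp S x) → l = r := by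
    intro l hl hld
    haveI := Fact.mk hl
    obtain ⟨L, hL⟩ := CoprimeAct.exists_invariant_sylow (A := Subgroup.zpowers x)
      (K := (Dp S x))
      (Subgroup.zpowers_le.2 (Subgroup.mem_normalizer_iff.2 fun y =>
        ⟨fun hy => h.D_conj hx hxN hy, fun hy => by
          have := h.D_conj hx hxN hy
          rwa [show x * (x * y * x⁻¹) * x⁻¹ = y by simp [mul_assoc, hxi, hxx, ← mul_assoc x x]] at this⟩))
      (by rw [Nat.card_zpowers, hx]; exact Nat.coprime_two_left.2 hodd)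
      (Or.inl inferInstance) l
    haveI : Nontrivial L := (Subgroup.nontrivial_iff_ne_bot _).2 (L.ne_bot_of_dvd_card hld)
    obtain ⟨⟨b, hbL⟩, hb1⟩ := exists_ne (1 : L)
    have hb1' : (b : G) ≠ 1 := fun e => hb1 (Subtype.ext (Subtype.ext e))
    set M := (L : Subgroup (Dp S x)).map (Dp S x).subtype
    have hbM : (b : G) ∈ M := ⟨b, hbL, rfl⟩
    have hMp : IsPGroup l M := L.isPGroup'.map _
    have hlof : ∀ y ∈ M, y ≠ 1 → l ∣ orderOf y := by
      intro y hy hy1
      obtain ⟨i, hi⟩ := IsPGroup.iff_orderOf.1 hMp ⟨y, hy⟩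
      rw [Subgroup.orderOf_mk] at hi
      rcases Nat.eq_zero_or_pos i with rfl | hi0
      · exact absurd (orderOf_eq_one_iff.1 (by simpa using hi)) hy1
      · exact hi ▸ dvd_pow_self l hi0.ne'
    set g := (b : G)⁻¹ * (x * b * x⁻¹) with hg
    by_cases hg1 : g = 1
    · have hxb : (b : G) ∈ cen x := mem_cen.2
        (mul_inv_eq_iff_eq_mul.1 (inv_mul_eq_one.1 hg1).symm).symm
      have hlb := hlof _ hbM hb1'
      refine hfixr _ (pow_mem b.2 (orderOf (b : G) / l)) (pow_mem hxb _) l hl ?_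
      rw [orderOf_pow_of_dvd (Nat.div_pos (Nat.le_of_dvd (orderOf_pos _) hlb) hl.pos).ne'
        (Nat.div_dvd_of_dvd hlb), Nat.div_div_self hlb (orderOf_pos _).ne']
    · have hgM : g ∈ M := mul_mem (inv_mem hbM)
        ((Subgroup.mem_normalizer_iff.1 (hL (Subgroup.mem_zpowers x)) _).1 hbM)
      have hgD : g ∈ Dp S x := Subgroup.map_subtype_le _ hgM
      have hginv : x * g * x⁻¹ = g⁻¹ := by
        rw [hg, hxi]; simp [mul_assoc, hxi, hxx]
      obtain ⟨i, hi⟩ := IsPGroup.iff_orderOf.1 (hR g (h.D_odd hx hxN hgD) hg1 hginv)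
        ⟨g, self_mem g⟩
      rw [Subgroup.orderOf_mk] at hi
      exact (Nat.prime_dvd_prime_iff_eq hl hr).1 (hl.dvd_of_dvd_pow (hi ▸ hlof g hgM hg1))
  obtain ⟨j, hj⟩ : ∃ j, Nat.card (Dp S x) = r ^ j :=
    ⟨_, Nat.eq_prime_pow_of_unique_prime_dvd Nat.card_pos.ne' fun {l} hl hld => hDr l hl hld⟩
  obtain ⟨u, huN, hu⟩ := Invol.exists_invol h.se.2.1
  have hcount := h.card_orbit (K := Dp S x) inf_le_left hu huN fun v hv hvN => h.trans_D hx hxN hu huN hv hvN
  set n := Nat.card {u : G // orderOf u = 2 ∧ u ∈ NS} with hn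
  -- the stabiliser of an involution is not trivial
  have hDu : cen u ⊓ (Dp S x) ≠ ⊥ := by
    intro e0
    rw [e0, Subgroup.card_bot, mul_one, hn, ← h.card_inv hx hxN] at hcount
    have hsurj : ∀ b : (Dp S x), x * (b : G) * x⁻¹ = (b : G)⁻¹ := by
      intro b
      have := (Subtype.val_injective.bijective_of_nat_card_le hcount.le :
        Function.Bijective (Subtype.val : {d : Dp S x // x * (d : G) * x⁻¹ = (d : G)⁻¹} → _)).2 b
      obtain ⟨⟨b', hb'⟩, rfl⟩ := this
      exact hb'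
    refine ha1 (eq_one_of_inv_comm (h.D_odd hx hxN haD) (hsurj ⟨a, haD⟩) (mem_symm haC))
  obtain ⟨⟨c, hcu, hcD⟩, hc1⟩ := Subgroup.ne_bot_iff_exists_ne_one.1 hDu
  have hc1' : c ≠ 1 := fun e => hc1 (Subtype.ext e)
  refine h.false_of_cen_eq fun v v' hv hvN hv' hvN' => ?_
  by_cases hn1 : n = 1
  · haveI := (Nat.card_eq_one_iff_unique.1 hn1).1
    exact congrArg (fun q : {u : G // orderOf u = 2 ∧ u ∈ NS} => cen q.1)
      (Subsingleton.elim ⟨v, hv, hvN⟩ ⟨v', hv', hvN'⟩)
  -- the number of involutions of `S` is a prime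
  have hn_eq : n + 1 = Nat.card (S : Subgroup G) := by
    have e : Nat.card {u : G // orderOf u = 2 ∧ u ∈ NS}
        = Nat.card {s : (S : Subgroup G) // s ≠ 1} := by
      refine Nat.card_congr ⟨fun s => ⟨⟨s.1, h.mem_S s.2.1 s.2.2⟩, fun e =>
        ne_one_of_orderOf (by norm_num) s.2.1 (congrArg Subtype.val e)⟩, fun s => ⟨s.1.1,
        orderOf_eq_prime (by rw [pow_two, h.sq _ s.1.2]) fun e => s.2 (Subtype.ext e),
        Subgroup.le_normalizer s.1.2⟩, fun s => rfl, fun s => rfl⟩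
    rw [hn, e]
    haveI := Fintype.ofFinite (S : Subgroup G)
    rw [Nat.card_eq_fintype_card, Nat.card_eq_fintype_card, Fintype.card_subtype_compl,
      Fintype.card_subtype_eq]
    have := Fintype.card_pos (α := (S : Subgroup G))
    omega
  obtain ⟨i, -, hi⟩ := (Nat.dvd_prime_pow hr).1 (hj ▸ hcount.symm ▸ dvd_mul_right n _)
  haveI : Fact (Nat.Prime 2) := ⟨Nat.prime_two⟩
  obtain ⟨f2, hf2⟩ := S.isPGroup'.exists_card_eq
  have hr2 : r ≠ 2 := by
    rintro rfl
    rcases Nat.eq_zero_or_pos j with rfl | hj0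
    · have h1 : Nat.card (Dp S x) = 1 := by rw [hj, pow_zero]
      exact ha1 (Subgroup.mem_bot.1 (Subgroup.eq_bot_of_card_eq _ h1 ▸ haD))
    · exact Nat.not_odd_iff_even.2 (Nat.even_pow.2 ⟨even_two, hj0.ne'⟩) (hj ▸ hodd)
  have hi1 : i = 1 := by
    have h1 := FiveOrbits.exp_le_one hr hr2 (a := i) (n := f2) (by rw [← hi, hn_eq, hf2])
    rcases Nat.le_one_iff_eq_zero_or_eq_one.1 h1 with e | e
    · exact absurd (by rw [hi, e, pow_zero]) hn1
    · exact e
  rw [hi1, pow_one] at hi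
  -- so the stabiliser of an involution is normal and centralises `S`
  set Du := (cen u).subgroupOf (Dp S x)
  have hDucard : Nat.card Du = Nat.card (cen u ⊓ (Dp S x) : Subgroup G) := by
    rw [← Subgroup.card_subtype (Dp S x), Subgroup.subgroupOf_map_subtype]
  have hidx : Du.index = r := by
    have h1 := Du.card_mul_index
    rw [hDucard, hcount, hi, mul_comm r] at h1
    exact Nat.eq_of_mul_eq_mul_left Nat.card_pos h1
  have hj0 : j ≠ 0 := by
    intro e
    rw [e, pow_zero] at hj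
    exact hc1' (Subgroup.mem_bot.1 (Subgroup.eq_bot_of_card_eq _ hj ▸ hcD))
  haveI : Du.Normal := Subgroup.normal_of_index_eq_minFac_card
    (by rw [hidx, hj, Nat.pow_minFac hj0, hr.minFac_eq])
  have hcS : (S : Subgroup G) ≤ cen c := by
    intro s hs
    by_cases hs1 : s = 1
    · rw [hs1]; exact one_mem _
    have hso : orderOf s = 2 := orderOf_eq_prime (by rw [pow_two, h.sq s hs]) hs1
    obtain ⟨g, hgD, rfl⟩ := h.trans_D hx hxN hu huN hso (Subgroup.le_normalizer hs)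
    have h1 : (⟨g, hgD⟩ : (Dp S x))⁻¹ * ⟨c, hcD⟩ * ⟨g, hgD⟩⁻¹⁻¹ ∈ Du :=
      Subgroup.Normal.conj_mem inferInstance _ (show (⟨c, hcD⟩ : (Dp S x)) ∈ Du from hcu) _
    have h2 : g⁻¹ * c * g⁻¹⁻¹ ∈ cen u := h1
    have h3 := conj_mem_cen h2 g
    rw [show g * (g⁻¹ * c * g⁻¹⁻¹) * g⁻¹ = c by group] at h3
    exact mem_symm h3
  exact (h.cen_eq_of_le hc1' (h.D_odd hx hxN hcD) hcS hv hvN).trans
    (h.cen_eq_of_le hc1' (h.D_odd hx hxN hcD) hcS hv' hvN').symm

/-- A nontrivial element of the stabiliser fixes two points only. -/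
theorem fix_two {k : G} (hk : k ∈ Dp S x) (hk1 : k ≠ 1) {y : G} (hy : y ∉ NS)
    (hky : y⁻¹ * k * y ∈ NS) : x⁻¹ * y ∈ NS := by
  classical
  by_contra hxy
  have hxi : x⁻¹ = x := Invol.inv_self hx
  have hxx : x * x = 1 := Invol.mul_self hx
  have hkinv := h.inverted hx hxN hk
  have hkN := (mem_D.1 hk).1
  have hko := h.D_odd hx hxN hk
  have hswap : ∀ a : G, a ∉ NS → a⁻¹ * k * a ∈ NS →
      ∃ z : G, orderOf z = 2 ∧ a⁻¹ * z ∈ NS ∧ z * k * z⁻¹ = k⁻¹ := by
    intro a ha hka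
    have hne : ((1 : G) : G ⧸ NS) ≠ (a : G ⧸ NS) := by
      rw [Ne, QuotientGroup.eq, inv_one, one_mul]; exact ha
    obtain ⟨u, huN, hu⟩ := Invol.exists_invol h.se.2.1
    haveI : Nonempty (Invol.SwapInv ((1 : G) : G ⧸ NS) (a : G ⧸ NS)) := by
      refine (Nat.card_pos_iff.1 ?_).1
      rw [Invol.card_swapInv h.se hne]
      exact Nat.card_pos_iff.2 ⟨⟨⟨u, hu, huN⟩⟩, inferInstance⟩
    obtain ⟨⟨z, hz, hzs⟩⟩ := ‹Nonempty (Invol.SwapInv ((1 : G) : G ⧸ NS) (a : G ⧸ NS))›
    rw [MulAction.Quotient.smul_coe, smul_eq_mul, mul_one, QuotientGroup.eq] at hzs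
    have haz : a⁻¹ * z ∈ NS := by
      have := inv_mem hzs
      rwa [mul_inv_rev, inv_inv] at this
    have hzN : z ∉ NS := fun hzN => ha (by
      have := mul_mem hzN hzs
      rwa [mul_inv_cancel_left] at this)
    refine ⟨z, hz, haz, h.inverted hz hzN (mem_D.2 ⟨hkN, ?_⟩)⟩
    rw [show z⁻¹ * k * z = (a⁻¹ * z)⁻¹ * (a⁻¹ * k * a) * (a⁻¹ * z) by group]
    exact mul_mem (mul_mem (inv_mem haz) hka) haz
  obtain ⟨z₁, hz₁, hz₁y, hz₁k⟩ := hswap y hy hky
  obtain ⟨z, hz, hzy, hzk⟩ := hswap (x * y) (fun e => hxy (by rwa [hxi])) (by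
    have hkk : x⁻¹ * k * x = k⁻¹ := by rw [hxi]; rwa [hxi] at hkinv
    rw [show (x * y)⁻¹ * k * (x * y) = y⁻¹ * (x⁻¹ * k * x) * y by group, hkk,
      show y⁻¹ * k⁻¹ * y = (y⁻¹ * k * y)⁻¹ by group]
    exact inv_mem hky)
  -- an element of the centraliser maps `N` to `x N`
  set g := x * z * x * z₁ with hgdef
  have hgk : g ∈ cen k := mem_cen.2 (mul_inv_eq_iff_eq_mul.1 (by
    calc g * k * g⁻¹ = x * (z * (x * (z₁ * k * z₁⁻¹) * x⁻¹) * z⁻¹) * x⁻¹ := by rw [hgdef]; group
      _ = k := by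
        rw [hz₁k, show x * k⁻¹ * x⁻¹ = (x * k * x⁻¹)⁻¹ by group, hkinv, inv_inv, hzk,
          show x * k⁻¹ * x⁻¹ = (x * k * x⁻¹)⁻¹ by group, hkinv, inv_inv]))
  have hgN : x⁻¹ * g ∈ NS := by
    have h1 := mul_mem (inv_mem hzy) hz₁y
    rwa [show ((x * y)⁻¹ * z)⁻¹ * (y⁻¹ * z₁) = x⁻¹ * g by
      rw [hgdef, mul_inv_rev, inv_inv, Invol.inv_self hz]; group] at h1
  -- the orbit of `N` under the centraliser has odd length and is preserved by `x`
  set C := cen k
  have hCodd : Odd (Nat.card C) := h.real_odd hx hko hk1 hkinv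
  have hxC : ∀ c ∈ C, x * c * x⁻¹ ∈ C := by
    intro c hc
    have := conj_mem_cen hc x
    rwa [hkinv, cen_inv] at this
  let O := MulAction.orbit C ((1 : G) : G ⧸ NS)
  have hstab : ∀ q ∈ O, x • q ∈ O := by
    rintro _ ⟨c, rfl⟩
    refine ⟨⟨x * c * x⁻¹ * g, mul_mem (hxC _ c.2) hgk⟩, ?_⟩
    show (((x * c * x⁻¹ * g) * 1 : G) : G ⧸ NS) = x • (((c : G) * 1 : G) : G ⧸ NS)
    rw [MulAction.Quotient.smul_coe, smul_eq_mul, mul_one, mul_one, QuotientGroup.eq]
    rw [show (x * (c : G) * x⁻¹ * g)⁻¹ * (x * c) = (x⁻¹ * g)⁻¹ by group]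
    exact inv_mem hgN
  have hOodd : Odd (Nat.card O) := hCodd.of_dvd_nat
    ⟨_, (by rw [← Nat.card_prod]; exact (Nat.card_congr
      (MulAction.orbitProdStabilizerEquivGroup C ((1 : G) : G ⧸ NS))).symm)⟩
  have hfix := perm_fixed_modEq (fun q : O => (⟨x • q.1, hstab q.1 q.2⟩ : O)) Nat.prime_two
    (fun q => Subtype.ext (by
      show x • x • q.1 = q.1
      rw [← mul_smul, hxx, one_smul]))
  obtain ⟨⟨⟨_, c, rfl⟩, hq⟩⟩ : Nonempty {q : O // (⟨x • q.1, hstab q.1 q.2⟩ : O) = q} := by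
    by_contra hne
    rw [not_nonempty_iff] at hne
    rw [Nat.card_of_isEmpty (α := {q : O // (⟨x • q.1, hstab q.1 q.2⟩ : O) = q})] at hfix
    exact Nat.not_even_iff_odd.2 hOodd (even_iff_two_dvd.2 (Nat.modEq_zero_iff_dvd.1 hfix))
  have hq' : x • (((c : G) * 1 : G) : G ⧸ NS) = (((c : G) * 1 : G) : G ⧸ NS) := congrArg Subtype.val hq
  rw [MulAction.Quotient.smul_coe, smul_eq_mul, mul_one, QuotientGroup.eq] at hq'
  have hv : orderOf ((c : G)⁻¹ * x * c) = 2 := by
    rw [show (c : G)⁻¹ * x * c = (c : G)⁻¹ * x * (c : G)⁻¹⁻¹ by group, Invol.order_conj, hx]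
  have hvN : (c : G)⁻¹ * x * c ∈ NS := by
    have := inv_mem hq'
    rwa [show ((x * (c : G))⁻¹ * c)⁻¹ = (c : G)⁻¹ * x * c by group] at this
  refine hk1 (h.no_inv_in_N hv hvN hkN hko ?_)
  have hck : (c : G) * k * (c : G)⁻¹ = k := by rw [mem_cen.1 c.2, mul_inv_cancel_right]
  calc (c : G)⁻¹ * x * c * k * ((c : G)⁻¹ * x * c)⁻¹
      = (c : G)⁻¹ * (x * ((c : G) * k * (c : G)⁻¹) * x⁻¹) * c := by group
    _ = ((c : G)⁻¹ * ((c : G) * k * (c : G)⁻¹) * c)⁻¹ := by rw [hck, hkinv]; group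
    _ = k⁻¹ := by group

theorem malnormal {n d : G} (hn : n ∈ NS) (hd : d ∈ Dp S x) (hd1 : d ≠ 1)
    (hnd : n * d * n⁻¹ ∈ Dp S x) : n ∈ Dp S x := by
  have hxi : x⁻¹ = x := Invol.inv_self hx
  refine mem_D.2 ⟨hn, ?_⟩
  have h1 := h.fix_two hx hxN hnd (fun e => hd1 (conj_eq_one_iff.1 e)) (y := n * x)
    (fun e => hxN (by simpa using mul_mem (inv_mem hn) e)) (by
      rw [show (n * x)⁻¹ * (n * d * n⁻¹) * (n * x) = x⁻¹ * d * x by group]
      exact (mem_D.1 hd).2)
  rwa [← mul_assoc] at h1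

theorem cen_eq {u v : G} (hu : orderOf u = 2) (huN : u ∈ NS) (hv : orderOf v = 2) (hvN : v ∈ NS) :
    cen u = cen v := by
  classical
  set D : Subgroup G := Dp S x
  have hDN : D ≤ NS := inf_le_left
  set D' := D.subgroupOf NS
  let F : (NS ⧸ D') × {d : D // d ≠ 1} → G := fun q =>
    ((q.1.out : NS) : G) * ((q.2.1 : D) : G) * ((q.1.out : NS) : G)⁻¹
  have hF : Function.Injective F := by
    rintro ⟨q, d, hd⟩ ⟨q', d', hd'⟩ e
    have e' : (q.out : G) * (d : G) * (q.out : G)⁻¹ = (q'.out : G) * (d' : G) * (q'.out : G)⁻¹ := e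
    have e2 : (q'.out : G)⁻¹ * q.out * d * ((q'.out : G)⁻¹ * q.out)⁻¹ = d' := by
      calc _ = (q'.out : G)⁻¹ * ((q.out : G) * (d : G) * (q.out : G)⁻¹) * q'.out := by group
        _ = d' := by rw [e']; group
    have hm := h.malnormal hx hxN (mul_mem (inv_mem q'.out.2) q.out.2) d.2
      (fun e => hd (Subtype.ext e)) (by rw [e2]; exact d'.2)
    have hq : q = q' := by
      rw [← QuotientGroup.out_eq' q, ← QuotientGroup.out_eq' q', eq_comm, QuotientGroup.eq,
        Subgroup.mem_subgroupOf]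
      exact hm
    subst hq
    rw [inv_mul_cancel, one_mul, inv_one, mul_one] at e2
    obtain rfl : d = d' := Subtype.ext e2
    rfl
  set T : Set G := (NS : Set G) \ Set.range F
  have hsub : ∀ u : G, orderOf u = 2 → u ∈ NS → (cen u : Set G) ⊆ T := by
    intro u hu huN y hy
    refine ⟨h.cen_le hu huN hy, ?_⟩
    rintro ⟨⟨q, d, hd⟩, rfl⟩
    have hdo := h.D_odd hx hxN d.2
    have hodd := h.real_odd hx hdo (fun e => hd (Subtype.ext e)) (h.inverted hx hxN d.2)
    have h1 := conj_mem_cen (mem_symm hy) (q.out : G)⁻¹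
    simp only [F, inv_inv] at h1
    rw [show (q.out : G)⁻¹ * ((q.out : G) * (d : G) * (q.out : G)⁻¹) * q.out = (d : G) by group] at h1
    have h2 : orderOf ((q.out : G)⁻¹ * u * q.out) = 2 := by
      rw [show (q.out : G)⁻¹ * u * q.out = (q.out : G)⁻¹ * u * (q.out : G)⁻¹⁻¹ by group,
        Invol.order_conj, hu]
    exact Nat.not_even_iff_odd.2 hodd
      (even_iff_two_dvd.2 (h2 ▸ Subgroup.orderOf_dvd_natCard _ h1))
  set n := Nat.card {u : G // orderOf u = 2 ∧ u ∈ NS}
  have hcard : ∀ u : G, orderOf u = 2 → u ∈ NS → T.ncard ≤ (cen u : Set G).ncard := by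
    intro u hu huN
    have hN := h.card_orbit (K := NS) le_rfl hu huN fun v hv hvN => by
      obtain ⟨d, hd, e⟩ := h.trans_D hx hxN hu huN hv hvN
      exact ⟨d, hDN hd, e⟩
    rw [inf_eq_left.2 (h.cen_le hu huN)] at hN
    have hDn : Nat.card D = n := by
      rw [show n = _ from (h.card_inv hx hxN).symm]
      exact (Nat.card_congr (Equiv.subtypeUnivEquiv fun d : D => h.inverted hx hxN d.2)).symm
    have hidx : Nat.card (NS ⧸ D') = Nat.card (cen u) := by
      have h1 := Subgroup.card_eq_card_quotient_mul_card_subgroup D'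
      rw [Nat.card_congr (Subgroup.subgroupOfEquivOfLe hDN).toEquiv, hDn, hN, mul_comm] at h1
      exact (Nat.eq_of_mul_eq_mul_right (show 0 < n from Nat.lt_of_lt_of_eq Nat.card_pos hDn) h1).symm
    have hr : (Set.range F).ncard = Nat.card (cen u) * (n - 1) := by
      rw [← Nat.card_coe_set_eq, Nat.card_range_of_injective hF, Nat.card_prod, hidx]
      congr 1
      haveI := Fintype.ofFinite D
      rw [← hDn, Nat.card_eq_fintype_card, Nat.card_eq_fintype_card, Fintype.card_subtype_compl,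
        Fintype.card_subtype_eq]
    have hrs : Set.range F ⊆ (NS : Set G) := by
      rintro _ ⟨⟨q, d, hd⟩, rfl⟩
      exact mul_mem (mul_mem q.out.2 (hDN d.2)) (inv_mem q.out.2)
    have hn0 : 0 < n := Nat.card_pos_iff.2 ⟨⟨⟨u, hu, huN⟩⟩, inferInstance⟩
    rw [Set.ncard_sdiff hrs (Set.toFinite _), hr, ← Nat.card_coe_set_eq, ← Nat.card_coe_set_eq]
    show Nat.card NS - _ ≤ Nat.card (cen u)
    rw [hN]
    obtain ⟨m, hm⟩ : ∃ m, n = m + 1 := ⟨n - 1, by omega⟩
    show n * Nat.card (cen u) - Nat.card (cen u) * (n - 1) ≤ _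
    rw [hm, Nat.add_sub_cancel, add_mul, one_mul, mul_comm m]
    omega
  have heq : ∀ u : G, orderOf u = 2 → u ∈ NS → (cen u : Set G) = T := fun u hu huN =>
    Set.eq_of_subset_of_ncard_le (hsub u hu huN) (hcard u hu huN) (Set.toFinite _)
  exact SetLike.coe_injective ((heq u hu huN).trans (heq v hv hvN).symm)

omit hx hxN in
theorem false : False := by
  obtain ⟨g, hg⟩ : ∃ g, g ∉ NS := by
    by_contra! hcon
    exact h.se.1 (eq_top_iff.2 fun x _ => hcon x)
  obtain ⟨u, huN, hu⟩ := Invol.exists_invol h.se.2.1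
  have hx : orderOf (g * u * g⁻¹) = 2 := by rw [Invol.order_conj, hu]
  have hxN : g * u * g⁻¹ ∉ NS := fun e => hg (Invol.se_mem_of_conj h.se hu huN e)
  exact h.false_of_cen_eq fun a b ha haN hb hbN => h.cen_eq hx hxN ha haN hb hbN

end ElemCtx

/-- An elementary Sylow `2`-subgroup normal in the centralisers of its involutions. -/
theorem elem_false (h : Rank G) (hup : UpOne G) (S : Sylow 2 G)
    (hsq : ∀ s ∈ (S : Subgroup G), s * s = 1)
    (hnorm : ∀ u : G, orderOf u = 2 → ∃ P : Sylow 2 G,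
      (P : Subgroup G) ≤ cen u ∧ cen u ≤ Subgroup.normalizer ((P : Subgroup G) : Set G))
    {t w : G} (ht : orderOf t = 2) (hmin : IsMin G (ind t)) (hw : w ∈ cen t)
    (hodd : Odd (orderOf w)) (he : 2 ∣ ind (t * w)) : False :=
  ElemCtx.false ⟨h, hup, hsq, hnorm, ht, hmin, hw, hodd, he⟩

end Cfsg.Agent.ConjRankFour
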