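import Cfsg.Agent.Lib.ConjRankFour.ECase

/-!
# A central involution whose centraliser is a `2`-group
-/

set_option autoImplicit false
set_option linter.style.haveILetI false
set_option linter.unusedSectionVars false

namespace Cfsg.Agent.ConjRankFour

open Cfsg.Agent.ConjRankThree

universe u

variable {G : Type u} [Group G] [Finite G]

theorem DType.odd_mem {v : G} {X : Subgroup G} (d : DType v X) {y : G} (hy : y ∈ cen v)
    (hodd : Odd (orderOf y)) : y ∈ X := by
  by_contra hc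
  exact hc ((eq_one_of_sq_of_odd hodd (d.out y hy hc).1).symm ▸ one_mem _)

theorem odd_of_prime {w : G} {p : ℕ} (hp : p.Prime) (hp2 : p ≠ 2) (hw : orderOf w = p) :
    Odd (orderOf w) := hw ▸ hp.odd_of_ne_two hp2

/-- A group that is no `2`-group has an element of odd prime order. -/
theorem exists_odd_of_not_two {H : Subgroup G} (hH : ¬ IsPGroup 2 H) :
    ∃ w ∈ H, w ≠ 1 ∧ Odd (orderOf w) := by
  by_contra hc
  push Not at hc
  refine hH (IsPGroup.of_card (Nat.eq_prime_pow_of_unique_prime_dvd Nat.card_pos.ne' fun {q} hq hqd => ?_))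
  by_contra hne
  haveI := Fact.mk hq
  obtain ⟨⟨w, hw⟩, hwq⟩ := exists_prime_orderOf_dvd_card' (G := H) q hqd
  rw [Subgroup.orderOf_mk] at hwq
  exact hc w hw (ne_one_of_orderOf hq.ne_one hwq) (odd_of_prime hq hne hwq)

theorem two_not_dvd_ind {t : G} (S : Sylow 2 G) (hS : (S : Subgroup G) ≤ cen t) : ¬ 2 ∣ ind t :=
  fun h => haveI : Fact (Nat.Prime 2) := ⟨Nat.prime_two⟩
  S.not_dvd_index (h.trans (Subgroup.index_dvd_of_le hS))

section

variable (h : Rank G) (hup : UpOne G) {t : G} (ht : orderOf t = 2) (hmin : IsMin G (ind t))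
  (S : Sylow 2 G) (hS : (S : Subgroup G) ≤ cen t) (h2 : IsPGroup 2 (cen t))
include h hup ht hmin S hS h2

theorem not_two {v : G} (hv : orderOf v = 2) (hvt : t ∈ cen v) (hn : ¬ IsPGroup 2 (cen v)) :
    ∃ b, Inv v b ∧ ∀ y ∈ cen t, y ∈ cen v → y * y = 1 := by
  have hv1 := ne_one_of_orderOf (by norm_num) hv
  obtain ⟨w, hw, hw1, hwo⟩ := exists_odd_of_not_two hn
  have hwt : ∀ y : G, y ∈ cen t → Odd (orderOf y) → y = 1 := fun y hy hyo => by
    obtain ⟨k, hk⟩ := h2 ⟨y, hy⟩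
    exact ThreeSizes.eq_one_of_coprime ((Nat.coprime_two_right.2 hyo).pow_right k)
      (pow_orderOf_eq_one y) (congrArg Subtype.val hk)
  rcases h.min_or_max hup hv1 with hm | hm
  · by_cases hfree : IsMax G (ind v)
    · exfalso
      rcases h.free_cases hv1 hm hfree with ⟨hc, -⟩ | ⟨r, hr, hp⟩
      · exact hw1 (hwt w (mem_cen.2 (hc w hw t hvt)) hwo)
      · haveI := Fact.mk hr
        obtain ⟨k, hk⟩ := hp ⟨v, self_mem v⟩
        have hr2 : r = 2 := ((Nat.prime_dvd_prime_iff_eq Nat.prime_two hr).1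
          (Nat.prime_two.dvd_of_dvd_pow (hv ▸ orderOf_dvd_of_pow_eq_one (congrArg Subtype.val hk)))).symm
        exact hn (hr2 ▸ hp)
    simp only [IsMax, not_forall] at hfree
    obtain ⟨g, hg, hd, hne⟩ := hfree
    have I := h.inv_mk hup hv hm hg hd hne
    refine ⟨_, I, fun y hyt hyv => ?_⟩
    rcases I.types with ⟨T, hT⟩ | ⟨X, hX⟩ | ⟨T, hT⟩
    · exact absurd (hwt w (mem_cen.2 ((hT.comm t (hT.mem t hvt (pel_two ht)) w hw hwo).symm)) hwo) hw1
    · have hwX := hX.odd_mem hw hwo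
      have htX : t ∉ X := fun htX => hw1 (hwt w (mem_cen.2 (hX.comm w hwX t htX)) hwo)
      by_cases hyX : y ∈ X
      · have h1 := (hX.out t hvt htX).2 y hyX
        rw [← mem_cen.1 hyt, mul_inv_cancel_right] at h1
        exact mul_eq_one_iff_eq_inv.2 h1
      · exact (hX.out y hyv hyX).1
    · exact hT.sq y (hT.mem y hyv (by obtain ⟨k, hk⟩ := h2 ⟨y, hyt⟩; exact ⟨k, congrArg Subtype.val hk⟩))
  · exact absurd (hwt w (mem_symm (cen_le_of_isMax hv1 hm hw (odd_coprime hv hwo) hvt)) hwo) hw1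

theorem cen_two_of_comm {v : G} (hv : orderOf v = 2) (hvt : t ∈ cen v) : IsPGroup 2 (cen v) := by
  haveI : Fact (Nat.Prime 2) := ⟨Nat.prime_two⟩
  have hv1 := ne_one_of_orderOf (by norm_num) hv
  have ht1 := ne_one_of_orderOf (by norm_num) ht
  have hSe : (S : Subgroup G) = cen t := (S.is_maximal' h2 hS).symm
  have hdvd : ∀ g : G, IsPGroup 2 (cen g) → ind t ∣ ind g := by
    intro g hg
    obtain ⟨P, hP⟩ := hg.exists_le_sylow
    obtain ⟨k, hk⟩ : Nat.card (cen g) ∣ Nat.card (cen t) := by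
      refine (Subgroup.card_dvd_of_le hP).trans (dvd_of_eq ?_)
      rw [← hSe]
      exact P.card_eq_multiplicity.trans S.card_eq_multiplicity.symm
    refine Dvd.intro_left k (Nat.eq_of_mul_eq_mul_left (Nat.card_pos (α := cen g)) ?_)
    rw [← mul_assoc, ← hk, card_mul_ind, card_mul_ind]
  by_contra hn
  obtain ⟨b, I, hsq⟩ := not_two h hup ht hmin S hS h2 hv hvt hn
  have hne : ind v ≠ ind t := fun e => by
    refine hn (IsPGroup.of_card (n := (Nat.card G).factorization 2) ?_)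
    rw [card_eq_of_ind e, ← hSe]
    exact S.card_eq_multiplicity
  by_cases hb : ∃ g : G, g ≠ 1 ∧ ind t ∣ ind g ∧ ind g ≠ ind t
  · obtain ⟨g, hg, hgd, hgt⟩ := hb
    obtain ⟨k, hk, hkb⟩ := I.bmem
    have hgk : ind g ≠ ind k := by
      intro e
      obtain ⟨w, hw, hw1, hwo⟩ := exists_odd_of_not_two hn
      by_cases hwz : w ∈ Zc v
      · obtain ⟨k', hk'⟩ := h2 ⟨w, mem_symm ((mem_Zc.1 hwz).2 hvt)⟩
        exact hw1 (ThreeSizes.eq_one_of_coprime ((Nat.coprime_two_right.2 hwo).pow_right k')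
          (pow_orderOf_eq_one w) (congrArg Subtype.val hk'))
      · have h1 : ind t ∣ ind (v * w) := by rw [I.ind_mul_v hw hwo hwz, ← hkb, ← e]; exact hgd
        have h3 : orderOf w ∣ Nat.card (cen t) := by
          refine (Subgroup.orderOf_dvd_natCard (cen (v * w)) ?_).trans ?_
          · rw [I.cen_mul_v hw hwo]
            exact ⟨hw, self_mem w⟩
          · obtain ⟨j, hj⟩ := h1
            refine Dvd.intro j (Nat.eq_of_mul_eq_mul_right (index_pos t) ?_)
            rw [card_mul_ind, mul_assoc, mul_comm j, ← hj, card_mul_ind]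
        rw [← hSe, S.card_eq_multiplicity] at h3
        exact hw1 (orderOf_eq_one_iff.1
          (Nat.eq_one_of_dvd_coprimes ((Nat.coprime_two_right.2 hwo).pow_right _) dvd_rfl h3))
    obtain ⟨-, -, h4, -, -⟩ := h.chains_of_ne hup (ht.symm ▸ Nat.prime_two) (hv.symm ▸ Nat.prime_two)
      hmin I.min (Ne.symm hne) hg hk hgd hgt (hkb ▸ I.ab) (hkb ▸ I.ne) hgk
    exact h.not_prime_pow hv1 Nat.prime_two (h4.symm.trans (hSe ▸ S.card_eq_multiplicity))
  push Not at hb
  -- the subgroup of the common centraliser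
  set V : Subgroup G := cen t ⊓ cen v with hV
  have hlt : V.subgroupOf (cen t) < ⊤ := by
    rw [lt_top_iff_ne_top, Ne, Subgroup.subgroupOf_eq_top]
    intro hle
    have hle' : cen t ≤ cen v := fun x hx => (hle hx).2
    exact hne (show ind t = ind v by rw [ind, hmin.cen_eq hv1 hle']).symm
  haveI : Group.IsNilpotent (cen t) := h2.isNilpotent
  obtain ⟨⟨y0, hy0t⟩, hy0N, hy0V⟩ := SetLike.exists_of_lt
    (Group.normalizerCondition_of_isNilpotent (G := cen t) (V.subgroupOf (cen t)) hlt)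
  have hy0N' : ∀ x ∈ V, y0 * x * y0⁻¹ ∈ V := fun x hx => by
    have := (Subgroup.mem_normalizer_iff.1 hy0N ⟨x, hx.1⟩).1 (Subgroup.mem_subgroupOf.2 hx)
    simpa [Subgroup.mem_subgroupOf] using this
  rw [Subgroup.mem_subgroupOf] at hy0V
  classical
  have hex : ∃ k : ℕ, y0 ^ 2 ^ k ∈ V := by
    obtain ⟨k, hk⟩ := h2 ⟨y0, hy0t⟩
    exact ⟨k, by rw [show y0 ^ 2 ^ k = 1 from congrArg Subtype.val hk]; exact one_mem _⟩
  obtain ⟨j, hj⟩ : ∃ j, Nat.find hex = j + 1 := Nat.exists_eq_succ_of_ne_zero fun h0 => hy0V (by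
    have := Nat.find_spec hex
    rwa [h0, pow_zero, pow_one] at this)
  set y1 := y0 ^ 2 ^ j
  have hy1V : y1 ∉ V := Nat.find_min hex (hj ▸ Nat.lt_succ_self j)
  have hy1sq : y1 * y1 ∈ V := by
    have := Nat.find_spec hex
    rwa [hj, pow_succ, pow_mul, pow_two] at this
  have hpow : ∀ n : ℕ, ∀ x ∈ V, y0 ^ n * x * (y0 ^ n)⁻¹ ∈ V := by
    intro n
    induction n with
    | zero => intro x hx; simpa using hx
    | succ n ih =>
      intro x hx
      rw [pow_succ, show y0 ^ n * y0 * x * (y0 ^ n * y0)⁻¹ = y0 ^ n * (y0 * x * y0⁻¹) * (y0 ^ n)⁻¹ by group]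
      exact ih _ (hy0N' x hx)
  have hy1t : y1 ∈ cen t := (cen t).pow_mem hy0t _
  have hvV : v ∈ V := ⟨mem_symm hvt, self_mem v⟩
  have hv1V := hpow (2 ^ j) v hvV
  have hy1v : ¬ y1 * v = v * y1 := fun e => hy1V ⟨hy1t, mem_cen.2 e⟩
  -- an element of order four
  obtain ⟨y, hyt, hyv, hy2, hy21⟩ :
      ∃ y : G, y ∈ cen t ∧ ¬ y * v = v * y ∧ y * y ∈ V ∧ y * y ≠ 1 := by
    by_cases h1 : y1 * y1 = 1
    · have hyy : y1 * v * (y1 * v) = (y1 * v * y1⁻¹) * v := by
        rw [inv_eq_of_mul_eq_one_right h1]; group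
      refine ⟨y1 * v, mul_mem hy1t hvV.1, fun e => hy1v ?_, ?_, fun e => hy1v ?_⟩
      · rw [← mul_assoc] at e
        exact mul_right_cancel e
      · rw [hyy]
        exact mul_mem hv1V hvV
      · rw [hyy, mul_eq_one_iff_eq_inv, inv_eq_of_mul_eq_one_right (Invol.mul_self hv)] at e
        exact mul_inv_eq_iff_eq_mul.1 e
    · exact ⟨y1, hy1t, hy1v, hy1sq, h1⟩
  have htau : orderOf (y * y) = 2 := orderOf_eq_prime (by rw [pow_two]; exact hsq _ hy2.1 hy2.2) hy21
  have hp : IsPGroup 2 (cen (y * y)) := by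
    by_contra hnp
    obtain ⟨-, -, hsq'⟩ := not_two h hup ht hmin S hS h2 htau (mem_symm hy2.1) hnp
    exact hy21 (hsq' y hyt (mem_cen.2 (mul_assoc y y y).symm))
  have hle : cen y ≤ cen (y * y) := fun x hx => mem_cen.2
    ((show Commute x y from mem_cen.1 hx).mul_right (mem_cen.1 hx)).eq
  have hy1' : y ≠ 1 := fun e => hy21 (by rw [e, mul_one])
  have e1 : ind (y * y) = ind t := hb _ hy21 (hdvd _ hp)
  have e2 : ind y = ind t := hb _ hy1' ((hdvd _ hp).trans (ind_dvd hle))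
  refine hyv ?_
  have h3 : v ∈ cen y := by
    rw [eq_of_le_of_ind hle (e2.trans e1.symm)]
    exact mem_symm hy2.2
  exact (mem_cen.1 h3).symm

/-- The centralisers of all involutions are `2`-groups. -/
theorem cit_of_two : CNSimple.CIT G := by
  intro u hu
  obtain ⟨c, hc⟩ := exists_conj_mem (k := 1) Nat.prime_two
    (by rw [pow_one, ← hu, pow_orderOf_eq_one]) (two_not_dvd_ind S hS)
  have h1 := cen_two_of_comm h hup ht hmin S hS h2 (v := c * u * c⁻¹)
    (by rw [Invol.order_conj, hu]) (mem_symm hc)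
  rw [cen_conj] at h1
  exact h1.of_equiv ((cen u).equivMapOfInjective _ (MulAut.conj c).injective).symm

end

end Cfsg.Agent.ConjRankFour
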