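import Cfsg.Agent.Lib.ConjRankThree.Main
import Cfsg.Agent.Lib.ConjRankThree.Converse
import Cfsg.Agent.Lib.LinearBlock.PSL3Spectrum
import Cfsg.Agent.Lib.Suzuki.Tori
import Cfsg.Agent.Lib.Perm.AutAlternating
import Cfsg.Agent.Lib.GW.Main
import Cfsg.Agent.Lib.TwoGroups.Lifts
import Cfsg.Agent.S0494

/-!
# The candidates: only `PSL(2, q)`, `q ≥ 7` odd, has four class sizes
-/

set_option autoImplicit false
set_option linter.style.haveILetI false
set_option linter.unusedSectionVars false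

namespace Cfsg.Agent.ConjRankFour

open ConjRankThree

universe u v

/-- `G` is `PSL(2, q)` for an odd `q ≥ 7`. -/
def IsPSLOdd (G : Type u) [Group G] : Prop :=
  ∃ (F : Type) (_ : Field F) (_ : Fintype F), Odd (Fintype.card F) ∧ 7 ≤ Fintype.card F ∧
    Nonempty (G ≃* Matrix.ProjectiveSpecialLinearGroup (Fin 2) F)

section
variable {G : Type u} [Group G] [Finite G]

/-- Five elements with five centraliser orders. -/
theorem ne_four_of_five (hZ : Subgroup.center G = ⊥) (g₁ g₂ g₃ g₄ g₅ : G)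
    (h1 : g₁ ≠ 1 ∧ g₂ ≠ 1 ∧ g₃ ≠ 1 ∧ g₄ ≠ 1 ∧ g₅ ≠ 1)
    (hnd : [Nat.card (cen g₁), Nat.card (cen g₂), Nat.card (cen g₃), Nat.card (cen g₄),
      Nat.card (cen g₅)].Nodup) : (sizes G).ncard ≠ 4 := by
  intro h4
  set f : Fin 5 → G := ![g₁, g₂, g₃, g₄, g₅] with hf
  have hinj : Function.Injective fun i => Nat.card (cen (f i)) := by
    have h := (List.nodup_ofFn (f := fun i => Nat.card (cen (f i)))).1 (by
      simpa [List.ofFn_succ, hf] using hnd)
    exact h
  have h1 : ∀ i, f i ≠ 1 := by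
    intro i
    obtain ⟨a1, a2, a3, a4, a5⟩ := h1
    fin_cases i
    exacts [a1, a2, a3, a4, a5]
  have hfin : (sizes G).Finite := Set.finite_of_ncard_ne_zero (by omega)
  have hsub : Set.range (fun i => ind (f i)) ⊆ sizes G := by
    rintro _ ⟨i, rfl⟩
    exact ⟨f i, by rw [hZ, Subgroup.mem_bot]; exact h1 i, rfl⟩
  have hle := Set.ncard_le_ncard hsub hfin
  rw [Set.ncard_range_of_injective (fun i j e => hinj ?_), Nat.card_eq_fintype_card, Fintype.card_fin, h4] at hle
  · omega
  · have hi := card_mul_ind (f i)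
    have hj := card_mul_ind (f j)
    rw [e] at hi
    exact Nat.eq_of_mul_eq_mul_right (index_pos (f j)) (hi.trans hj.symm)

/-- If all orders are prime powers, centralisers are primary. -/
theorem prime_dvd_cen_unique (hpp : ∀ g : G, g ≠ 1 → IsPrimePow (orderOf g)) {g : G} {p r : ℕ}
    (hp : p.Prime) (hr : r.Prime) (hpg : p ∣ orderOf g) (hrc : r ∣ Nat.card (cen g)) : r = p := by
  by_contra hne
  haveI := Fact.mk hr
  obtain ⟨⟨w, hw⟩, hwo⟩ := exists_prime_orderOf_dvd_card' (G := cen g) r hrc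
  rw [Subgroup.orderOf_mk] at hwo
  set g' := g ^ (orderOf g / p) with hg'
  have hgo : orderOf g' = p := orderOf_pow_orderOf_div (isOfFinOrder_of_finite g).orderOf_pos.ne' hpg
  have hc : Commute w g' := Commute.pow_right (show Commute w g from mem_cen.1 hw) _
  have hcop : (orderOf w).Coprime (orderOf g') := by
    rw [hwo, hgo]; exact (Nat.coprime_primes hr hp).2 hne
  have ho : orderOf (w * g') = r * p := by
    rw [hc.orderOf_mul_eq_mul_orderOf_of_coprime hcop, hwo, hgo]
  have h1 : w * g' ≠ 1 := fun e => by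
    rw [e, orderOf_one] at ho
    exact hr.ne_one (Nat.eq_one_of_mul_eq_one_right ho.symm)
  obtain ⟨s, hs, hs'⟩ := isPrimePow_iff_unique_prime_dvd.1 (ho ▸ hpp _ h1)
  exact hne ((hs' r ⟨hr, dvd_mul_right r p⟩).trans (hs' p ⟨hp, dvd_mul_left p r⟩).symm)

/-- A group in which all orders are prime powers, with four prime divisors and a growing square. -/
theorem ne_four_of_pp (hZ : Subgroup.center G = ⊥) (hpp : ∀ g : G, g ≠ 1 → IsPrimePow (orderOf g))
    (hsq : SquareGrows G) {p : Fin 4 → ℕ} (hp : ∀ i, (p i).Prime) (hinj : Function.Injective p)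
    (hd : ∀ i, p i ∣ Nat.card G) : (sizes G).ncard ≠ 4 := by
  obtain ⟨y, h, hy2, hh2, hh⟩ := hsq
  have hy : y ≠ 1 := fun e => hy2 (by rw [e, mul_one])
  obtain ⟨s, hs, hsu⟩ := isPrimePow_iff_unique_prime_dvd.1 (hpp y hy)
  have hsyy : s ∣ orderOf (y * y) := by
    have hne : orderOf (y * y) ≠ 1 := fun e => hy2 (orderOf_eq_one_iff.1 e)
    obtain ⟨r, hr, hrd⟩ := Nat.exists_prime_and_dvd hne
    have hry : r ∣ orderOf y := hrd.trans (by rw [← pow_two]; exact orderOf_pow_dvd 2)
    exact hsu r ⟨hr, hry⟩ ▸ hrd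
  have hlt : Nat.card (cen y) ≠ Nat.card (cen (y * y)) := fun e => hh (mem_cen.1 (by
    have hle : cen y ≤ cen (y * y) := fun w hw => by rw [← pow_two]; exact le_cen_pow y 2 hw
    rw [Subgroup.eq_of_le_of_card_ge hle e.ge]
    exact mem_cen.2 hh2))
  have hex : ∀ i, ∃ g : G, orderOf g = p i := fun i => by
    haveI := Fact.mk (hp i)
    exact exists_prime_orderOf_dvd_card' _ (hd i)
  choose g hg using hex
  have hself : ∀ {a : G} {r : ℕ}, r ∣ orderOf a → r ∣ Nat.card (cen a) := fun {a r} h =>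
    h.trans (Subgroup.orderOf_dvd_natCard _ (self_mem a))
  -- three of the four primes differ from `s`
  obtain ⟨e, he⟩ : ∃ e : Fin 3 → Fin 4, Function.Injective e ∧ ∀ i, p (e i) ≠ s := by
    by_cases hj : ∃ j, p j = s
    · obtain ⟨j, hj⟩ := hj
      exact ⟨j.succAbove, Fin.succAbove_right_injective, fun i e =>
        Fin.succAbove_ne j i (hinj (e.trans hj.symm))⟩
    · exact ⟨Fin.castSucc, Fin.castSucc_injective _, fun i e => hj ⟨_, e⟩⟩
  have hg1 : ∀ i, g i ≠ 1 := fun i e => (hp i).ne_one (by rw [← hg i, e, orderOf_one])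
  have hA : ∀ a : G, s ∣ orderOf a → ∀ i, Nat.card (cen a) ≠ Nat.card (cen (g (e i))) := by
    intro a ha i hEq
    exact he.2 i (prime_dvd_cen_unique hpp hs.1 (hp _) ha (hEq ▸ hself (hg (e i)).symm.dvd))
  have hB : ∀ i j, i ≠ j → Nat.card (cen (g (e i))) ≠ Nat.card (cen (g (e j))) := by
    intro i j hne hEq
    exact hne (he.1 (hinj (prime_dvd_cen_unique hpp (hp _) (hp _) (hg (e j)).symm.dvd
      (hEq ▸ hself (hg (e i)).symm.dvd))))
  refine ne_four_of_five hZ y (y * y) (g (e 0)) (g (e 1)) (g (e 2)) ⟨hy, hy2, hg1 _, hg1 _, hg1 _⟩ ?_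
  simp only [List.nodup_cons, List.mem_cons, List.not_mem_nil, not_or, not_false_eq_true,
    List.nodup_nil, and_true, or_false]
  exact ⟨⟨hlt, hA y hs.2 _, hA y hs.2 _, hA y hs.2 _⟩,
    ⟨hA _ hsyy _, hA _ hsyy _, hA _ hsyy _⟩, ⟨hB 0 1 (by decide), hB 0 2 (by decide)⟩,
    hB 1 2 (by decide)⟩

omit [Finite G] in
theorem sizes_ncard_congr {H : Type} [Group H] (e : G ≃* H) : (sizes G).ncard = (sizes H).ncard :=
  congrArg Set.ncard (sizes_equiv e)

omit [Finite G] in
theorem center_congr {H : Type v} [Group H] (e : G ≃* H) (hZ : Subgroup.center G = ⊥) :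
    Subgroup.center H = ⊥ := by
  rw [Subgroup.eq_bot_iff_forall]
  intro x hx
  have : e.symm x ∈ Subgroup.center G := Subgroup.mem_center_iff.2 fun g => e.injective (by
    simpa using Subgroup.mem_center_iff.1 hx (e g))
  rw [hZ, Subgroup.mem_bot] at this
  simpa using congrArg e this

end

theorem l34_ne_four {F : Type} [Field F] [Fintype F] (hF : Fintype.card F = 4)
    (hZ : Subgroup.center (Matrix.ProjectiveSpecialLinearGroup (Fin 3) F) = ⊥) :
    (sizes (Matrix.ProjectiveSpecialLinearGroup (Fin 3) F)).ncard ≠ 4 := by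
  classical
  haveI : Fact (Nat.Prime 2) := ⟨Nat.prime_two⟩
  haveI : CharP F 2 := charP_of_card_eq_prime_pow (f := 2) (by norm_num [hF])
  refine ne_four_of_pp hZ (fun g hg => ?_) (squareGrows_psl_three hF) (p := ![2, 3, 5, 7])
    (fun i => by fin_cases i <;> norm_num) (by decide) (fun i => ?_)
  · have hm := (LBPSL3.spectrum_eq (F := F) 2).le ⟨g, rfl⟩
    rw [hF] at hm
    simp only [Set.mem_ofPred_eq] at hm
    have hne : orderOf g ≠ 1 := fun e => hg (orderOf_eq_one_iff.1 e)
    have h2 : IsPrimePow 2 := Nat.prime_two.isPrimePow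
    have h3 : IsPrimePow 3 := Nat.prime_three.isPrimePow
    have h5 : IsPrimePow 5 := Nat.prime_five.isPrimePow
    have h7 : IsPrimePow 7 := (by norm_num : Nat.Prime 7).isPrimePow
    have key : ∀ n : ℕ, IsPrimePow n → orderOf g ∣ n → IsPrimePow (orderOf g) := fun n hn hd => hn.dvd hd hne
    rcases hm with h | h | h | h | ⟨-, h⟩
    · exact key 7 h7 (by norm_num at h; exact h)
    · exact key 5 h5 (by norm_num at h; exact h)
    · exact key 3 h3 (by norm_num at h; exact h)
    · exact key 2 h2 (by norm_num at h; exact h)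
    · exact key 4 (by
        rw [show (4 : ℕ) = 2 ^ 2 by norm_num]
        exact h2.pow two_ne_zero) h
  · rw [EPPO.card_psl34 hF]
    fin_cases i <;> norm_num

theorem sz_ne_four {F : Type} [Field F] [Fintype F] {m : ℕ} (h : Suzuki.SzField F m)
    (hZ : Subgroup.center (Cfsg.Sz F m) = ⊥) : (sizes (Cfsg.Sz F m)).ncard ≠ 4 := by
  classical
  have h2 : (1 : F) + 1 = 0 := by linear_combination h.two_eq_zero
  obtain ⟨α, hα⟩ := h.exists_θ_ne
  set y := Suzuki.T h 1 0 with hydef
  have hyy : y * y = Suzuki.T h 0 1 := by rw [hydef, Suzuki.T_mul]; simp [h2]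
  have hy2 : y * y ≠ 1 := fun e => by
    rw [hyy, ← Suzuki.T_zero h] at e
    exact one_ne_zero (Suzuki.T_injective h e).2
  have hy4 : (y * y) * (y * y) = 1 := by
    rw [hyy, Suzuki.T_mul, ← Suzuki.T_zero h]; simp [h2]
  have ho2 : orderOf (y * y) = 2 := orderOf_eq_prime (by rw [pow_two, hy4]) hy2
  have hy1 : y ≠ 1 := fun e => hy2 (by rw [e, mul_one])
  have he2 : 2 ∣ orderOf y := ho2 ▸ (by rw [← pow_two]; exact orderOf_pow_dvd 2)
  have hlt : Nat.card (cen y) ≠ Nat.card (cen (y * y)) := by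
    intro e
    have hle : cen y ≤ cen (y * y) := fun w hw => by rw [← pow_two]; exact le_cen_pow y 2 hw
    have hmem : Suzuki.T h α 0 ∈ cen (y * y) := mem_cen.2 (by
      rw [hyy, Suzuki.T_mul, Suzuki.T_mul]; simp)
    rw [← Subgroup.eq_of_le_of_card_ge hle e.ge] at hmem
    have e' := mem_cen.1 hmem
    rw [hydef, Suzuki.T_mul, Suzuki.T_mul] at e'
    have := (Suzuki.T_injective h e').2
    simp at this
    exact hα this
  have hq8 := h.eight_le_card
  rw [h.card] at hq8
  have hr : (2 ^ (m + 1)) ^ 2 = 2 * 2 ^ (2 * m + 1) := by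
    rw [← pow_mul, ← pow_succ']; congr 1; ring
  have hrq : 2 ^ (m + 1) < 2 ^ (2 * m + 1) := by
    refine Nat.pow_lt_pow_right (by norm_num) ?_
    by_contra hm
    push Not at hm
    have : 2 ^ (2 * m + 1) ≤ 2 ^ 1 := Nat.pow_le_pow_right (by norm_num) (by omega)
    omega
  have hev : 2 ∣ 2 ^ (2 * m + 1) := dvd_pow_self 2 (by omega)
  have hev' : 2 ∣ 2 ^ (m + 1) := dvd_pow_self 2 (by omega)
  obtain ⟨A, B, hA, hB, cA, cB, -, -, -⟩ := Suzuki.exists_tori h
  haveI : Nontrivial Fˣ := by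
    rw [← Finite.one_lt_card_iff_nontrivial, h.card_units_natCard]; omega
  obtain ⟨k, hk⟩ := exists_ne (1 : Fˣ)
  have ca : Nat.card (cen (Suzuki.H h k)) = 2 ^ (2 * m + 1) - 1 := by
    rw [cen, Suzuki.centralizer_H h hk, Suzuki.card_torus]
  have mem : ∀ C : Subgroup (Cfsg.Sz F m), Suzuki.IsMember C → 1 < Nat.card C →
      ∃ g : Cfsg.Sz F m, g ≠ 1 ∧ Nat.card (cen g) = Nat.card C := by
    intro C hC h1
    haveI := Finite.one_lt_card_iff_nontrivial.1 h1
    obtain ⟨⟨g, hg⟩, hg1⟩ := exists_ne (1 : C)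
    have hg' : g ≠ 1 := fun e => hg1 (Subtype.ext e)
    exact ⟨g, hg', by rw [cen, Suzuki.member_ti h hC g hg hg']⟩
  have hr4 : 4 ≤ 2 ^ (m + 1) := by
    by_contra hc
    push Not at hc
    have := Nat.pow_le_pow_left (Nat.le_of_lt_succ hc) 2
    omega
  generalize 2 ^ (2 * m + 1) = Q at *
  generalize 2 ^ (m + 1) = R at *
  obtain ⟨a, ha, hac⟩ := mem A hA (by omega)
  obtain ⟨b, hb, hbc⟩ := mem B hB (by omega)
  rw [cA] at hac
  rw [cB] at hbc
  have heA : 2 ∣ Nat.card (cen y) := he2.trans (Subgroup.orderOf_dvd_natCard _ (self_mem y))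
  have heB : 2 ∣ Nat.card (cen (y * y)) := ho2 ▸ Subgroup.orderOf_dvd_natCard _ (self_mem _)
  refine ne_four_of_five hZ y (y * y) (Suzuki.H h k) a b
    ⟨hy1, hy2, fun e => hk (Suzuki.H_injective h (e.trans (Suzuki.H_one h).symm)), ha, hb⟩ ?_
  simp only [List.nodup_cons, List.mem_cons, List.not_mem_nil, not_or, not_false_eq_true,
    List.nodup_nil, and_true, or_false]
  omega

open Equiv in
theorem a7_ne_four (hZ : Subgroup.center (alternatingGroup (Fin 7)) = ⊥) :
    (sizes (alternatingGroup (Fin 7))).ncard ≠ 4 := by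
  classical
  have hex : ∀ (m : Multiset ℕ), m.sum ≤ 7 → (∀ a ∈ m, 2 ≤ a) → Even (m.sum + Multiset.card m) →
      m ≠ 0 → ∃ g : alternatingGroup (Fin 7), g ≠ 1 ∧
        (Nat.card (cen g) = (7 - m.sum).factorial * m.prod * (∏ n ∈ m.toFinset, (m.count n).factorial) ∨
        2 * Nat.card (cen g) = (7 - m.sum).factorial * m.prod * (∏ n ∈ m.toFinset, (m.count n).factorial)) := by
    intro m h1 h2 h3 h4
    obtain ⟨σ, hσ⟩ := (Equiv.Perm.exists_with_cycleType_iff (Fin 7)).2 ⟨by simpa using h1, h2⟩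
    have hmem : σ ∈ alternatingGroup (Fin 7) := by
      rw [Equiv.Perm.mem_alternatingGroup, Equiv.Perm.sign_of_cycleType, hσ]
      exact h3.neg_one_pow
    refine ⟨⟨σ, hmem⟩, fun e => h4 ?_, ?_⟩
    · rw [← hσ, Equiv.Perm.cycleType_eq_zero]; exact congrArg Subtype.val e
    · have hS : Nat.card (Subgroup.centralizer {σ}) =
          (7 - m.sum).factorial * m.prod * (∏ n ∈ m.toFinset, (m.count n).factorial) := by
        rw [Equiv.Perm.nat_card_centralizer, hσ, Fintype.card_fin]
      by_cases hle : Subgroup.centralizer {σ} ≤ alternatingGroup (Fin 7)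
      · left
        rw [← hS]
        refine Nat.card_congr
          { toFun := fun w => ⟨w.1.1, Subgroup.mem_centralizer_singleton_iff.2
              (congrArg Subtype.val (Subgroup.mem_centralizer_singleton_iff.1 w.2))⟩
            invFun := fun w => ⟨⟨w.1, hle w.2⟩, Subgroup.mem_centralizer_singleton_iff.2
              (Subtype.ext (Subgroup.mem_centralizer_singleton_iff.1 w.2))⟩
            left_inv := fun w => rfl
            right_inv := fun w => rfl }
      · right
        rw [← hS]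
        exact AutAlt.card_centralizer_alt (g := ⟨σ, hmem⟩) hle (by norm_num)
  obtain ⟨g1, n1, c1⟩ := hex {3} (by decide) (by decide) (by decide) (by decide)
  obtain ⟨g2, n2, c2⟩ := hex {2, 2} (by decide) (by decide) (by decide) (by decide)
  obtain ⟨g3, n3, c3⟩ := hex {4, 2} (by decide) (by decide) (by decide) (by decide)
  obtain ⟨g4, n4, c4⟩ := hex {5} (by decide) (by decide) (by decide) (by decide)
  obtain ⟨g5, n5, c5⟩ := hex {7} (by decide) (by decide) (by decide) (by decide)
  norm_num [Nat.factorial] at c1 c2 c3 c4 c5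
  refine ne_four_of_five hZ g1 g2 g3 g4 g5 ⟨n1, n2, n3, n4, n5⟩ ?_
  simp only [Nat.card_eq_fintype_card, List.nodup_cons, List.mem_cons, List.not_mem_nil, not_or, not_false_eq_true,
    List.nodup_nil, and_true, or_false]
  omega

section main
variable {G : Type u} [Group G] [Finite G] [IsSimpleGroup G]

theorem psl_even_false {F : Type} [Field F] [Fintype F] (h4 : (sizes G).ncard = 4) {n : ℕ} (hn : 2 ≤ n)
    (hq : Fintype.card F = 2 ^ n) (e : G ≃* Matrix.ProjectiveSpecialLinearGroup (Fin 2) F) : False := by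
  haveI : CharP F 2 := by
    haveI := Fact.mk Nat.prime_two
    exact charP_of_card_eq_prime_pow (f := n) hq
  have e' : G ≃* Matrix.SpecialLinearGroup (Fin 2) F :=
    (e.trans (QuotientGroup.quotientMulEquivOfEq center_sl_two)).trans QuotientGroup.quotientBot
  rw [sizes_ncard_congr e', sizes_sl hn hq] at h4
  omega

theorem psl_five_false {F : Type} [Field F] [Fintype F] (h4 : (sizes G).ncard = 4)
    (hq : Fintype.card F = 5) (e : G ≃* Matrix.ProjectiveSpecialLinearGroup (Fin 2) F) : False := by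
  haveI := Fact.mk Nat.prime_two
  let F4 := GaloisField 2 2
  letI : Fintype F4 := Fintype.ofFinite F4
  have h4' : Fintype.card F4 = 4 := by
    rw [← Nat.card_eq_fintype_card, GaloisField.card 2 2 two_ne_zero]; rfl
  haveI : IsSimpleGroup (Matrix.ProjectiveSpecialLinearGroup (Fin 2) F4) :=
    Matrix.ProjectiveSpecialLinearGroup.rank_two_simple (by rw [Nat.card_eq_fintype_card]; omega)
  have hG : Nat.card G = 60 := by
    have := EPPO.card_psl_two F
    rw [← Nat.card_congr e.toEquiv, hq] at this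
    norm_num at this
    omega
  have h60 : Nat.card (Matrix.ProjectiveSpecialLinearGroup (Fin 2) F4) = 60 := by
    have := EPPO.card_psl_two F4
    rw [h4'] at this
    norm_num at this
    exact this
  obtain ⟨e1⟩ := S0494.result (G := G) hG
  obtain ⟨e2⟩ := S0494.result (G := Matrix.ProjectiveSpecialLinearGroup (Fin 2) F4) h60
  exact psl_even_false h4 le_rfl (h4'.trans (by norm_num)) (e1.trans e2.symm)

theorem card_ne_two_three (hna : ∃ a b : G, a * b ≠ b * a) {F : Type} [Field F] [Fintype F]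
    (e : G ≃* Matrix.ProjectiveSpecialLinearGroup (Fin 2) F) :
    Fintype.card F ≠ 2 ∧ Fintype.card F ≠ 3 := by
  have hc := EPPO.card_psl_two F
  rw [← Nat.card_congr e.toEquiv] at hc
  have hns : ¬ Group.IsSolvable G := fun h => by
    obtain ⟨a, b, hab⟩ := hna
    exact hab (IsSimpleGroup.comm_iff_isSolvable.2 h a b)
  constructor <;> intro hq <;> rw [hq] at hc <;> norm_num at hc
  · exact hns (Char.isSolvable_of_card_pq 2 3 Nat.prime_two Nat.prime_three _ G hc ⟨1, 1, rfl⟩)
  · exact hns (Char.isSolvable_of_card_pq 2 3 Nat.prime_two Nat.prime_three _ G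
      (show Nat.card G = 12 by omega) ⟨2, 1, rfl⟩)

/-- A good subgroup of even order, or `2`-groups as centralisers of involutions. -/
theorem of_list (hna : ∃ a b : G, a * b ≠ b * a) (h4 : (sizes G).ncard = 4)
    (h : (∃ K : Subgroup G, CNSimple.TIHyp K) ∨ CNSimple.CIT G) : IsPSLOdd G := by
  have hZ := center_eq_bot hna
  rcases SzRecog.simple_list hna h with
    ⟨F, i1, i2, hq, ⟨e⟩⟩ | ⟨F, i1, i2, hq, ⟨e⟩⟩ | ⟨F, i1, i2, m, hm, hc, ⟨e⟩⟩
  · obtain ⟨h2, h3⟩ := card_ne_two_three hna e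
    by_cases hev : ∃ n, Fintype.card F = 2 ^ n
    · obtain ⟨n, hn⟩ := hev
      refine (psl_even_false h4 ?_ hn e).elim
      by_contra hlt
      interval_cases n
      · exact absurd hn (by have := Fintype.one_lt_card (α := F); omega)
      · exact h2 hn
    have hodd : Odd (Fintype.card F) := by
      rcases hq with h9 | hn | ⟨hp, -⟩
      · rw [h9]; decide
      · exact absurd hn hev
      · exact hp.odd_of_ne_two h2
    have h5 : Fintype.card F ≠ 5 := fun h5 => psl_five_false h4 h5 e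
    refine ⟨F, i1, i2, hodd, ?_, ⟨e⟩⟩
    have := Fintype.one_lt_card (α := F)
    obtain ⟨k, hk⟩ := hodd
    omega
  · exact absurd ((sizes_ncard_congr e).symm.trans h4) (l34_ne_four hq (center_congr e hZ))
  · have e' := e.trans (Suzuki.minorEquiv ⟨hm, hc⟩).symm
    exact absurd ((sizes_ncard_congr e').symm.trans h4) (sz_ne_four ⟨hm, hc⟩ (center_congr e' hZ))

/-- The two candidates of the Gorenstein–Walter theorem. -/
theorem of_psl_or_a7 (hna : ∃ a b : G, a * b ≠ b * a) (h4 : (sizes G).ncard = 4)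
    (h : (∃ (F : Type) (_ : Field F) (_ : Fintype F), 3 < Fintype.card F ∧
        Nonempty (G ≃* Matrix.ProjectiveSpecialLinearGroup (Fin 2) F)) ∨
      Nonempty (G ≃* alternatingGroup (Fin 7))) : IsPSLOdd G := by
  have hZ := center_eq_bot hna
  rcases h with ⟨F, i1, i2, h3, ⟨e⟩⟩ | he
  · rcases Nat.even_or_odd (Fintype.card F) with hev | hodd
    · obtain ⟨p, -, n, hp, hn⟩ := FiniteField.card' F
      have hp2 : p = 2 := ((Nat.prime_dvd_prime_iff_eq Nat.prime_two hp).1
        (Nat.prime_two.dvd_of_dvd_pow (hn ▸ hev.two_dvd))).symm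
      subst hp2
      refine (psl_even_false h4 ?_ hn e).elim
      by_contra hlt
      have : 2 ^ (n : ℕ) ≤ 2 ^ 1 := Nat.pow_le_pow_right (by norm_num) (by omega)
      omega
    · refine ⟨F, i1, i2, hodd, ?_, ⟨e⟩⟩
      have h5 : Fintype.card F ≠ 5 := fun h5 => psl_five_false h4 h5 e
      obtain ⟨k, hk⟩ := hodd
      omega
  · obtain ⟨e⟩ := he
    exact absurd ((sizes_ncard_congr e).symm.trans h4) (a7_ne_four (center_congr e hZ))

/-- Dihedral Sylow `2`-subgroups, four-groups included. -/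
theorem of_dihedral (hna : ∃ a b : G, a * b ≠ b * a) (h4 : (sizes G).ncard = 4) (S : Sylow 2 G) {n : ℕ}
    (hn : 2 ≤ n) (hS : Nonempty ((S : Subgroup G) ≃* DihedralGroup n)) : IsPSLOdd G := by
  refine of_psl_or_a7 hna h4 ?_
  rcases GW.simpleDihedral G S n hn hS with ⟨F, i1, i2, -, h3, he⟩ | he
  exacts [Or.inl ⟨F, i1, i2, h3, he⟩, Or.inr he]

/-- A cyclic subgroup of index two in a Sylow `2`-subgroup, inverted by an involution outside it. -/
theorem of_cyclic_inverted (hna : ∃ a b : G, a * b ≠ b * a) (h4 : (sizes G).ncard = 4) (S : Sylow 2 G)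
    (T0 : Subgroup G) (hle : T0 ≤ S) (hidx : Nat.card (S : Subgroup G) = 2 * Nat.card T0)
    (hcyc : IsCyclic T0) {s : G} (hs : s ∈ (S : Subgroup G)) (hs0 : s ∉ T0) (hs2 : orderOf s = 2)
    (hinv : ∀ x ∈ T0, s * x * s⁻¹ = x⁻¹) : IsPSLOdd G := by
  haveI := Fact.mk Nat.prime_two
  obtain ⟨⟨a, ha⟩, hgen⟩ := hcyc.exists_generator
  have hT : Subgroup.zpowers a = T0 := le_antisymm (Subgroup.zpowers_le.2 ha) fun x hx => by
    obtain ⟨i, hi⟩ := hgen ⟨x, hx⟩
    exact ⟨i, congrArg Subtype.val hi⟩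
  have hca : orderOf a = Nat.card T0 := by rw [← hT, Nat.card_zpowers]
  by_cases hn : Nat.card T0 = 1
  · exfalso
    haveI : IsCyclic (S : Subgroup G) := isCyclic_of_prime_card (p := 2) (by rw [hidx, hn])
    have h2G : 2 ∣ Nat.card G := hs2 ▸ orderOf_dvd_natCard s
    have hmin : (Nat.card G).minFac = 2 := Nat.minFac_eq_two_iff _ |>.2 h2G
    have hNC := IsCyclic.normalizer_le_centralizer hmin (P := S) inferInstance
    have hc := MonoidHom.ker_transferSylow_isComplement' S hNC
    rcases IsSimpleGroup.eq_bot_or_eq_top_of_normal (MonoidHom.transferSylow S hNC).ker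
      (MonoidHom.normal_ker _) with h | h
    · rw [h, Subgroup.isComplement'_bot_left] at hc
      obtain ⟨x, y, hxy⟩ := hna
      have hcomm : IsMulCommutative (S : Subgroup G) := IsCyclic.isMulCommutative
      exact hxy (congrArg Subtype.val
        (hcomm.is_comm.comm (⟨x, hc ▸ Subgroup.mem_top x⟩ : (S : Subgroup G)) ⟨y, hc ▸ Subgroup.mem_top y⟩))
    · rw [h, Subgroup.isComplement'_top_left] at hc
      exact (fun e : s = 1 => by rw [e, orderOf_one] at hs2; omega) (Subgroup.mem_bot.1 (hc ▸ hs))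
  have hn2 : 2 ≤ Nat.card T0 := by have := Nat.card_pos (α := T0); omega
  refine of_dihedral hna h4 S hn2 (TwoLift.dihedral_equiv hca (by rw [← pow_two, ← hs2, pow_orderOf_eq_one])
    (hinv a ha) (hT ▸ hs0) ?_)
  refine (Subgroup.eq_of_le_of_card_ge ((Subgroup.closure_le _).2 ?_) ?_).symm
  · rintro z (rfl | rfl)
    exacts [hle ha, hs]
  · set C := Subgroup.closure ({a, s} : Set G)
    have hTC : T0 ≤ C := hT ▸ Subgroup.zpowers_le.2 (Subgroup.subset_closure (by simp))
    obtain ⟨r, hr⟩ := Subgroup.card_dvd_of_le hTC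
    have hne : Nat.card C ≠ Nat.card T0 := fun e =>
      hs0 (Subgroup.eq_of_le_of_card_ge hTC e.le ▸ (Subgroup.subset_closure (by simp) : s ∈ C))
    have := Nat.card_pos (α := C)
    rcases r with _ | _ | r
    · simp at hr; omega
    · simp at hr; omega
    · rw [hidx, hr, mul_comm 2]; exact Nat.mul_le_mul_left _ (by omega)

end main

end Cfsg.Agent.ConjRankFour
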