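import Cfsg.Agent.Lib.ConjRankThree.Induced
import Cfsg.Agent.Lib.Char.Induction
import Cfsg.Agent.Lib.BrauerSuzuki.ZStar
import Cfsg.Agent.Lib.NormCyclic.Pair

/-!
# An element of prime order with an abelian CC subgroup as complement of its centraliser
-/

set_option autoImplicit false
set_option linter.style.haveILetI false
set_option linter.unusedSectionVars false

open scoped ComplexConjugate

namespace Cfsg.Agent.ConjRankFour

open ConjRankThree

universe u

attribute [local instance] Classical.propDecidable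

/-- An element `t` of prime order and an abelian CC subgroup `cen z` with complementary coprime orders. -/
structure IsoCtx (G : Type u) [Group G] (a c : ℕ) (t z : G) : Prop where
  simple : IsSimpleGroup G
  center : Subgroup.center G = ⊥
  ht : (orderOf t).Prime
  hta : ind t = a
  hz1 : z ≠ 1
  hzc : ind z = c
  cop : a.Coprime c
  card : Nat.card G = a * c
  cc : ∀ k ∈ cen z, k ≠ 1 → cen k = cen z
  comm : ∀ u ∈ cen z, ∀ v ∈ cen z, u * v = v * u
  vals : ∀ g : G, g ≠ 1 → ind g = c ∨ (a ∣ ind g ∧ ¬ c ∣ ind g)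

variable {G : Type u} [Group G] [Fintype G] {a c : ℕ} {t z : G} (hh : IsoCtx G a c t z)

include hh

theorem IsoCtx.t_ne_one : t ≠ 1 := ne_one_of_prime_order hh.ht rfl

theorem IsoCtx.one_lt_c : 1 < c := by
  refine lt_of_le_of_ne (hh.hzc ▸ index_pos z) fun h => hh.hz1 ?_
  have h1 : cen z = ⊤ := Subgroup.index_eq_one.1 (hh.hzc.trans h.symm)
  exact Subgroup.mem_bot.1 (hh.center ▸ Subgroup.mem_center_iff.2 fun w => mem_cen.1 (h1 ▸ Subgroup.mem_top w))

theorem IsoCtx.one_lt_a : 1 < a := by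
  refine lt_of_le_of_ne (hh.hta ▸ index_pos t) fun h => hh.t_ne_one ?_
  have h1 : cen t = ⊤ := Subgroup.index_eq_one.1 (hh.hta.trans h.symm)
  exact Subgroup.mem_bot.1 (hh.center ▸ Subgroup.mem_center_iff.2 fun w => mem_cen.1 (h1 ▸ Subgroup.mem_top w))

theorem IsoCtx.card_K : Nat.card (cen z) = a := by
  have h := card_mul_ind z
  rw [hh.hzc, hh.card] at h
  exact Nat.eq_of_mul_eq_mul_right (by linarith [hh.one_lt_c]) h

theorem IsoCtx.card_M : Nat.card (cen t) = c := by
  have h := card_mul_ind t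
  rw [hh.hta, hh.card, mul_comm a c] at h
  exact Nat.eq_of_mul_eq_mul_right (by linarith [hh.one_lt_a]) h

theorem IsoCtx.order_dvd_c : orderOf t ∣ c := hh.card_M ▸ Subgroup.orderOf_dvd_natCard _ (self_mem t)

theorem IsoCtx.cenK {k : G} (hk : k ∈ cen z) (hk1 : k ≠ 1) : ind k = c ∧ cen k = cen z :=
  ⟨by rw [ind, hh.cc k hk hk1]; exact hh.hzc, hh.cc k hk hk1⟩

theorem IsoCtx.commK {u v : G} (hu : u ∈ cen z) (hv : v ∈ cen z) : u * v = v * u := hh.comm u hu v hv

theorem IsoCtx.memN {g k : G} (hk : k ∈ cen z) (hk1 : k ≠ 1) (hgk : g * k * g⁻¹ ∈ cen z) :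
    g ∈ Subgroup.normalizer (cen z : Set G) := by
  have h1 := hh.cc k hk hk1
  have h2 := hh.cc _ hgk (by simpa using hk1)
  rw [cen_conj, h1] at h2
  rw [Subgroup.mem_normalizer_iff]
  intro y
  constructor
  · intro hy
    rw [← h2]
    exact ⟨y, hy, rfl⟩
  · intro hy
    rw [← h2] at hy
    obtain ⟨y', hy', e⟩ := hy
    have : y' = y := (MulAut.conj g).injective e
    exact this ▸ hy'

theorem IsoCtx.order_mul {k : G} (hk : k ∈ cen z) (hk1 : k ≠ 1) : orderOf (t * k) ∣ c := by
  haveI := hh.simple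
  have hkc := (hh.cenK hk hk1).1
  have hcop : (ind t).Coprime (ind k) := by rw [hh.hta, hkc]; exact hh.cop
  by_cases h1 : t * k = 1
  · simp [h1]
  rcases hh.vals _ h1 with h | ⟨⟨m, hm⟩, -⟩
  · exact absurd (h.trans hkc.symm) (ind_mul_ne hh.center hh.t_ne_one hk1 hcop)
  · have h2 := card_mul_ind (t * k)
    rw [hm, hh.card, mul_left_comm] at h2
    have h3 := Nat.eq_of_mul_eq_mul_left (by linarith [hh.one_lt_a]) h2
    exact (Subgroup.orderOf_dvd_natCard _ (self_mem (t * k))).trans ⟨m, h3.symm⟩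

theorem char_mul {χ : G → ℂ} (hχ : Cfsg.IsIrrCharacter G χ) {k : G} (hk : k ∈ cen z) (hk1 : k ≠ 1) :
    χ (t * k) * χ 1 = χ t * χ k := by
  have hkc := (hh.cenK hk hk1).1
  have hcop : (ind t).Coprime (ind k) := by rw [hh.hta, hkc]; exact hh.cop
  obtain ⟨N, ρ, hρ, rfl⟩ := hχ
  have hsum : ∑ y ∈ Char.classFinset k, ρ.character (t * y) = (c : ℂ) * ρ.character (t * k) := by
    rw [Finset.sum_congr rfl fun y hy => ?_, Finset.sum_const, Char.card_classFinset,
      show (Subgroup.centralizer ({k} : Set G)).index = c from hkc, nsmul_eq_mul]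
    obtain ⟨w, rfl⟩ := isConj_iff.1 (Char.mem_classFinset.1 hy)
    exact (Char.isClassFunction_iff.mp (fun g w => Representation.char_conj ρ g w) _ _
      (isConj_mul_conj t k hcop w)).symm
  have h2 : ∑ y ∈ Char.classFinset k, ρ.character (t * y) =
      LinearMap.trace ℂ (Fin N → ℂ) (ρ t * ∑ y ∈ Char.classFinset k, ρ y) := by
    simp only [Representation.character, Finset.mul_sum, map_sum, map_mul]
  rw [Char.classSum_scalar, ← Module.End.one_eq_id, mul_smul_comm, mul_one, map_smul, smul_eq_mul,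
    show (Subgroup.centralizer ({k} : Set G)).index = c from hkc] at h2
  have h3 := hsum.symm.trans h2
  change _ = _ * ρ.character t at h3
  have hd : (Module.finrank ℂ (Fin N → ℂ) : ℂ) ≠ 0 :=
    Nat.cast_ne_zero.mpr (Char.finrank_pos_of_irreducible ρ).ne'
  have hc0 : (c : ℂ) ≠ 0 := Nat.cast_ne_zero.mpr (by linarith [hh.one_lt_c])
  rw [Representation.char_one]
  field_simp at h3
  rw [h3]
  ring

theorem char_pow {χ : G → ℂ} (hχ : Cfsg.IsIrrCharacter G χ) (hx0 : χ t ≠ 0) {j : ℕ}
    (hj : a.Coprime j) {k : G} (hk : k ∈ cen z) : χ (k ^ j) = χ k := by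
  by_cases hk1 : k = 1
  · simp [hk1]
  have ha0 : a ≠ 0 := by linarith [hh.one_lt_a]
  have hc0 : c ≠ 0 := by linarith [hh.one_lt_c]
  obtain ⟨J, hJa, hJc⟩ := Nat.chineseRemainder hh.cop j 1
  have hJ : J.Coprime (a * c) := by
    refine Nat.Coprime.mul_right ?_ ?_
    · rw [Nat.Coprime, Nat.gcd_comm] at hj ⊢
      rw [Nat.gcd_comm, Nat.ModEq.gcd_eq hJa, hj]
    · rw [Nat.Coprime, Nat.ModEq.gcd_eq hJc, Nat.gcd_one_left]
  obtain ⟨σ, hσ⟩ := CharGalois.exists_galoisAut (mul_ne_zero ha0 hc0) hJ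
  have hmap : ∀ g : G, σ (χ g) = χ (g ^ J) := fun g =>
    CharGalois.map_char (Char.IsIrrCharacter.isCharacter hχ) σ.toRingHom
      (fun w hw => hσ w (hh.card ▸ hw)) g
  have hfix : ∀ g : G, orderOf g ∣ c → g ^ J = g := fun g hg => by
    conv_rhs => rw [← pow_one g]
    exact pow_eq_pow_iff_modEq.2 (hJc.of_dvd hg)
  have hkJ : k ^ J = k ^ j := pow_eq_pow_iff_modEq.2
    (hJa.of_dvd (hh.card_K ▸ Subgroup.orderOf_dvd_natCard _ hk))
  have h1 := char_mul hh hχ hk hk1
  have h2 := congrArg σ h1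
  rw [map_mul, map_mul, hmap, hmap, hmap, hmap, one_pow, hkJ,
    hfix t hh.order_dvd_c,
    hfix (t * k) (hh.order_mul hk hk1), h1] at h2
  exact (mul_left_cancel₀ hx0 h2).symm

theorem cj_eq_self {w : Subgroup.normalizer (cen z : Set G)} {k : cen z} (hk : k ≠ 1)
    (e : cj (cen z) w k = k) : (w : G) ∈ cen z := by
  have e' : (w : G)⁻¹ * k * w = k := congrArg Subtype.val e
  rw [mul_assoc, inv_mul_eq_iff_eq_mul] at e'
  exact (hh.cenK k.2 (fun h => hk (Subtype.ext h))).2.le (mem_cen.2 e'.symm)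

theorem cj_bijective (w : Subgroup.normalizer (cen z : Set G)) :
    Function.Bijective (cj (cen z) w) :=
  ⟨fun k l e => Subtype.ext (by
    have e' : (w : G)⁻¹ * k * w = (w : G)⁻¹ * l * w := congrArg Subtype.val e
    exact mul_left_cancel (mul_right_cancel e')),
  fun l => ⟨⟨(w : G) * l * (w : G)⁻¹, (Subgroup.mem_normalizer_iff.1 w.2 l).1 l.2⟩,
    Subtype.ext (by simp [cj_apply, mul_assoc])⟩⟩

theorem stab_mem {w : Subgroup.normalizer (cen z : Set G)} {l : (cen z) →* ℂˣ} (hl : l ≠ 1)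
    (e : l.comp (cj (cen z) w) = l) : (w : G) ∈ cen z := by
  by_contra hw
  have hc : ∀ u v : cen z, u * v = v * u := fun u v => Subtype.ext (hh.commK u.2 v.2)
  let d : cen z → cen z := fun k => k⁻¹ * cj (cen z) w k
  have hinj : Function.Injective d := by
    intro k k' h
    have h2 : cj (cen z) w (k * k'⁻¹) = k * k'⁻¹ := by
      rw [map_mul, map_inv]
      have h3 : cj (cen z) w k = k * k'⁻¹ * cj (cen z) w k' := by
        rw [mul_assoc, show k'⁻¹ * cj (cen z) w k' = d k' from rfl, ← h]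
        exact (mul_inv_cancel_left k _).symm
      rw [h3, mul_inv_cancel_right]
    by_contra hne
    exact hw (cj_eq_self hh (by rwa [Ne, mul_inv_eq_one]) h2)
  refine hl (MonoidHom.ext fun k => ?_)
  obtain ⟨k', rfl⟩ := Finite.surjective_of_injective hinj k
  change l (k'⁻¹ * cj (cen z) w k') = 1
  rw [map_mul, map_inv, show l (cj (cen z) w k') = l k' from DFunLike.congr_fun e k', inv_mul_cancel]

theorem comp_cj_of_mem {w : Subgroup.normalizer (cen z : Set G)} (hw : (w : G) ∈ cen z)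
    (l : (cen z) →* ℂˣ) : l.comp (cj (cen z) w) = l := by
  refine MonoidHom.ext fun k => congrArg l (Subtype.ext ?_)
  rw [cj_apply, mul_assoc, hh.commK k.2 hw, inv_mul_cancel_left]


theorem cnt_self {l : (cen z) →* ℂˣ} (hl : l ≠ 1) : cnt z l l = a := by
  classical
  have h1 : cnt z l l = Nat.card {w : Subgroup.normalizer (cen z : Set G) // (w : G) ∈ cen z} := by
    rw [Nat.card_eq_fintype_card, Fintype.card_subtype, cnt]
    congr 1
    ext w
    simp only [Finset.mem_filter, Finset.mem_univ, true_and]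
    exact ⟨fun e => stab_mem hh hl e.symm, fun hw => (comp_cj_of_mem hh hw l).symm⟩
  rw [h1]
  exact (Nat.card_congr (Subgroup.subgroupOfEquivOfLe Subgroup.le_normalizer).toEquiv).trans hh.card_K

/-- Inner products of functions induced from the abelian CC subgroup. -/
theorem classInner_ind (θ θ' : cen z → ℂ) (h1 : θ 1 = 0) :
    Cfsg.classInner (Cfsg.indFun (cen z) θ) (Cfsg.indFun (cen z) θ') =
      (a : ℂ)⁻¹ * ∑ w : Subgroup.normalizer (cen z : Set G),
        Cfsg.classInner θ (fun k => θ' (cj (cen z) w k)) := by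
  classical
  rw [Char.classInner_indFun_left _ _ (Char.isClassFunction_indFun _ θ')]
  have key : ∀ k : cen z, θ k * conj (Cfsg.indFun (cen z) θ' k) =
      (a : ℂ)⁻¹ * ∑ w : Subgroup.normalizer (cen z : Set G),
        θ k * conj (θ' (cj (cen z) w k)) := by
    intro k
    by_cases hk : k = 1
    · subst hk
      simp [h1]
    rw [Char.indFun_apply, hh.card_K, ← Finset.mul_sum, ← map_sum]
    rw [show ∑ w : G, Cfsg.extendByZero (cen z) θ' (w⁻¹ * k * w) =
        ∑ w : Subgroup.normalizer (cen z : Set G), θ' (cj (cen z) w k) from ?_]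
    · rw [map_mul, map_inv₀, Complex.conj_natCast]
      ring
    refine (Fintype.sum_of_injective Subtype.val Subtype.val_injective _ _ (fun w hw => ?_)
      fun w => (Char.extendByZero_coe (cen z) θ' (cj (cen z) w k)).symm).symm
    refine Char.extendByZero_not_mem _ _ fun hm => hw ⟨⟨w, ?_⟩, rfl⟩
    have := hh.memN (g := w⁻¹) k.2 (fun h => hk (Subtype.ext h))
      (by rwa [inv_inv])
    exact inv_mem_iff.1 this
  simp only [Cfsg.classInner]
  rw [Finset.sum_congr rfl fun k _ => key k, ← Finset.mul_sum, Finset.sum_comm, Finset.mul_sum,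
    Finset.mul_sum, Finset.mul_sum]
  exact Finset.sum_congr rfl fun w _ => by ring

theorem classInner_ind_lin (l m l' m' : (cen z) →* ℂˣ) :
    Cfsg.classInner (Cfsg.indFun (cen z) (lin l - lin m)) (Cfsg.indFun (cen z) (lin l' - lin m')) =
      (a : ℂ)⁻¹ * ((cnt z l l' : ℂ) - cnt z l m' - cnt z m l' + cnt z m m') := by
  classical
  rw [classInner_ind hh _ _ (by simp [lin])]
  congr 1
  have hw : ∀ w : Subgroup.normalizer (cen z : Set G),
      (fun k => (lin l' - lin m') (cj (cen z) w k)) =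
        lin (l'.comp (cj (cen z) w)) - lin (m'.comp (cj (cen z) w)) := fun w => rfl
  simp only [hw, Char.classInner_sub_left, Char.classInner_sub_right, classInner_lin, cnt,
    Finset.natCast_card_filter, ← Finset.sum_sub_distrib, ← Finset.sum_add_distrib]
  exact Finset.sum_congr rfl fun w _ => by ring

theorem indFun_lin_x (θ : cen z → ℂ) : Cfsg.indFun (cen z) θ t = 0 := by
  refine Char.indFun_eq_zero_of_forall _ _ fun w hw => ?_
  have h1 : orderOf (w⁻¹ * t * w) = orderOf t := by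
    exact orderOf_injective (MulAut.conj w⁻¹).toMonoidHom (MulAut.conj w⁻¹).injective t ▸
      congrArg orderOf (by simp)
  have h2 : orderOf t ∣ a := h1 ▸ hh.card_K ▸ Subgroup.orderOf_dvd_natCard _ hw
  exact hh.ht.ne_one (Nat.eq_one_of_dvd_coprimes hh.cop h2 hh.order_dvd_c)

theorem classInner_irr_ind {χ : G → ℂ} (hχ : Cfsg.IsIrrCharacter G χ) (l m : (cen z) →* ℂˣ) :
    Cfsg.classInner χ (Cfsg.indFun (cen z) (lin l - lin m)) =
      Cfsg.classInner (fun k : cen z => χ k) (lin l) -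
        Cfsg.classInner (fun k : cen z => χ k) (lin m) := by
  rw [Char.classInner_indFun_right _ _ (Char.IsCharacter.isClassFunction
    (Char.IsIrrCharacter.isCharacter hχ)), Char.classInner_sub_right]

theorem ind_diff {l m : (cen z) →* ℂˣ} (hl : l ≠ 1) (hm : m ≠ 1)
    (hlm : ∀ w : Subgroup.normalizer (cen z : Set G), m.comp (cj (cen z) w) ≠ l)
    (hml : ∀ w : Subgroup.normalizer (cen z : Set G), l.comp (cj (cen z) w) ≠ m) :
    ∃ μ ν : Cfsg.IrrCharacter G, μ ≠ ν ∧
      Cfsg.indFun (cen z) (lin l - lin m) = (μ : G → ℂ) - (ν : G → ℂ) ∧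
      (μ : G → ℂ) t = (ν : G → ℂ) t := by
  classical
  have h0 : cnt z l m = 0 ∧ cnt z m l = 0 := by
    simp only [cnt, Finset.card_eq_zero, Finset.filter_eq_empty_iff]
    exact ⟨fun w _ h => hlm w h.symm, fun w _ h => hml w h.symm⟩
  obtain ⟨μ, ν, hne, he⟩ := Char.IsGeneralizedCharacter.of_norm_two
    (Char.IsGeneralizedCharacter.indFun (cen z)
      (θ := lin l - lin m) (Char.IsGeneralizedCharacter.sub
        (Char.IsGeneralizedCharacter.of_isCharacter
          (Char.IsIrrCharacter.isCharacter (Char.isIrrCharacter_linear l)))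
        (Char.IsGeneralizedCharacter.of_isCharacter
          (Char.IsIrrCharacter.isCharacter (Char.isIrrCharacter_linear m)))))
    (by
      rw [classInner_ind_lin hh, cnt_self hh hl,
        cnt_self hh hm, h0.1, h0.2]
      have : (a : ℂ) ≠ 0 := Nat.cast_ne_zero.mpr (by linarith [hh.one_lt_a])
      field_simp
      push_cast
      ring)
    (by rw [Char.indFun_one_apply]; simp [lin])
  refine ⟨μ, ν, hne, he, ?_⟩
  have := congrFun he t
  rw [indFun_lin_x hh] at this
  exact sub_eq_zero.1 this.symm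

set_option maxHeartbeats 4000000 in
/-- Characters not vanishing at `t` are constant on the nontrivial elements of the CC subgroup. -/
theorem char_const {χ : G → ℂ} (hχ : Cfsg.IsIrrCharacter G χ) (hx0 : χ t ≠ 0) {k k' : cen z}
    (hk : k ≠ 1) (hk' : k' ≠ 1) : χ k = χ k' := by
  classical
  haveI := hh.simple
  have hcomm : ∀ u v : cen z, u * v = v * u := fun u v => Subtype.ext (hh.commK u.2 v.2)
  have hKa : Nat.card (cen z) = a := hh.card_K
  have ha0 : a ≠ 0 := by linarith [hh.one_lt_a]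
  have hpp : ∀ q : ℕ, q.Prime → ∃ t, t.Prime ∧ t ≠ q ∧ t ∣ a := by
    intro q hq
    by_contra hcon
    push Not at hcon
    have hpow : a = q ^ a.primeFactorsList.length :=
      Nat.eq_prime_pow_of_unique_prime_dvd ha0 fun hd hdd => by
        by_contra hne
        exact hcon _ hd hne hdd
    have hprime := Char.prime_card_of_class_prime_pow hq t hh.t_ne_one
      (hh.hta.trans hpow)
    rw [hh.card] at hprime
    exact Nat.not_prime_mul hh.one_lt_a.ne' hh.one_lt_c.ne' hprime
  obtain ⟨p, hp, hp2, hpa⟩ := hpp 2 Nat.prime_two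
  obtain ⟨q, hq, hqp, hqa⟩ := hpp p hp
  obtain ⟨l0, hl0⟩ := exists_lin_order hcomm hp hq (Ne.symm hqp) (hKa ▸ hpa) (hKa ▸ hqa)
  -- an exponent inverting the `p`-part and fixing the rest
  have hcop : (p ^ a.factorization p).Coprime (a / p ^ a.factorization p) :=
    (Nat.coprime_ordCompl hp ha0).pow_left _
  obtain ⟨j, hj1, hj2⟩ := Nat.chineseRemainder hcop (p ^ a.factorization p - 1) 1
  have hv : 0 < a.factorization p := hp.factorization_pos_of_dvd ha0 hpa
  have hj1p : j + 1 ≡ 0 [MOD p] := by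
    have h1 := hj1.add_right 1
    rw [Nat.sub_add_cancel (Nat.one_le_pow _ _ hp.pos)] at h1
    exact (h1.trans (Nat.modEq_zero_iff_dvd.2 dvd_rfl)).of_dvd (dvd_pow_self p hv.ne')
  have hjp : ¬ p ∣ j := fun h => hp.not_dvd_one
    ((Nat.dvd_add_right h).1 (Nat.modEq_zero_iff_dvd.1 hj1p))
  have hja : a.Coprime j := by
    rw [← Nat.ordProj_mul_ordCompl_eq_self a p]
    refine Nat.Coprime.mul_left ((hp.coprime_iff_not_dvd.2 hjp).pow_left _) ?_
    rw [Nat.Coprime, Nat.gcd_comm, Nat.ModEq.gcd_eq hj2, Nat.gcd_one_left]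
  have hjq : j ≡ 1 [MOD q] := hj2.of_dvd (by
    have : q ∣ p ^ a.factorization p * (a / p ^ a.factorization p) := by
      rw [Nat.ordProj_mul_ordCompl_eq_self a p]; exact hqa
    exact (hq.dvd_mul.1 this).resolve_left fun h =>
      hqp ((Nat.prime_dvd_prime_iff_eq hq hp).1 (hq.dvd_of_dvd_pow h)))
  have hl1 : l0 ≠ 1 := fun h => by
    rw [h, orderOf_one] at hl0
    exact hp.ne_one (Nat.eq_one_of_mul_eq_one_right hl0.symm)
  obtain ⟨hlj, hlp, hl1', hlpj⟩ := exponent_facts (Λ := (cen z) →* ℂˣ) l0 hp hq hp2 hl0 hj1p hjq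
  have horb : ∀ w : Subgroup.normalizer (cen z : Set G), l0.comp (cj (cen z) w) ≠ l0 ^ j := by
    intro w e
    have h1 : (l0 ^ p).comp (cj (cen z) w) = (l0.comp (cj (cen z) w)) ^ p :=
      MonoidHom.ext fun _ => rfl
    rw [e, hlpj] at h1
    exact hlj (e.symm.trans (comp_cj_of_mem hh
      (stab_mem hh hlp h1) l0))
  have horb' : ∀ w : Subgroup.normalizer (cen z : Set G), (l0 ^ j).comp (cj (cen z) w) ≠ l0 := by
    intro w e
    refine horb w⁻¹ (MonoidHom.ext fun y => ?_)
    have h1 := DFunLike.congr_fun e (cj (cen z) w⁻¹ y)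
    rw [MonoidHom.comp_apply, show cj (cen z) w (cj (cen z) w⁻¹ y) = y from
      Subtype.ext (by simp [cj_apply, mul_assoc])] at h1
    exact h1.symm
  -- invariance of the multiplicities under the exponent
  have hinv : ∀ {φ : G → ℂ}, Cfsg.IsIrrCharacter G φ → φ t ≠ 0 →
      Cfsg.classInner (fun y : cen z => φ y) (lin (l0 ^ j)) =
        Cfsg.classInner (fun y : cen z => φ y) (lin l0) := fun hφ hφx =>
    mult_pow (fun y : cen z => _) (hKa.symm ▸ hja)
      (fun y => char_pow hh hφ hφx hja y.2) l0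
  obtain ⟨μ, ν, hne, hd, hmn⟩ := ind_diff hh hl1 hl1' horb' horb
  have hirr : ∀ (φ α β : Cfsg.IrrCharacter G),
      Cfsg.classInner (φ : G → ℂ) ((α : G → ℂ) - (β : G → ℂ)) =
        (if φ = α then 1 else 0) - (if φ = β then 1 else 0) := fun φ α β => by
    simp only [Char.classInner_sub_right, Char.classInner_irr φ.2 α.2, Char.classInner_irr φ.2 β.2,
      Subtype.coe_inj]
  have hμ0 : (μ : G → ℂ) t = 0 := by
    by_contra h
    have h1 := classInner_irr_ind hh μ.2 l0 (l0 ^ j)
    rw [hd, hirr, if_pos rfl, if_neg hne, hinv μ.2 h, sub_self] at h1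
    exact one_ne_zero ((sub_zero (1 : ℂ)).symm.trans h1)
  have hν0 : (ν : G → ℂ) t = 0 := hmn ▸ hμ0
  -- every other coefficient agrees with that of `l0`
  have hmult : ∀ l : (cen z) →* ℂˣ, l ≠ 1 →
      Cfsg.classInner (fun y : cen z => χ y) (lin l) =
        Cfsg.classInner (fun y : cen z => χ y) (lin l0) := by
    intro l hl
    refine (sub_eq_zero.1 ?_).symm
    rw [← classInner_irr_ind hh hχ]
    by_cases ho : ∃ w : Subgroup.normalizer (cen z : Set G), l0.comp (cj (cen z) w) = l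
    · obtain ⟨w, rfl⟩ := ho
      have hres : Cfsg.classInner (fun y : cen z => χ y) (lin (l0.comp (cj (cen z) w))) =
          Cfsg.classInner (fun y : cen z => χ y) (lin l0) := by
        simp only [Cfsg.classInner]
        congr 1
        refine Fintype.sum_bijective _ (cj_bijective hh w) _ _ fun y => ?_
        have hcf := Char.IsCharacter.isClassFunction (Char.IsIrrCharacter.isCharacter hχ) (y : G)
          (w : G)⁻¹
        rw [inv_inv] at hcf
        rw [cj_apply, hcf]
        rfl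
      rw [classInner_irr_ind hh hχ, hres, sub_self]
    · push Not at ho
      have ho' : ∀ w : Subgroup.normalizer (cen z : Set G), l.comp (cj (cen z) w) ≠ l0 := by
        intro w e
        refine ho w⁻¹ (MonoidHom.ext fun y => ?_)
        have h1 := DFunLike.congr_fun e (cj (cen z) w⁻¹ y)
        rw [MonoidHom.comp_apply, show cj (cen z) w (cj (cen z) w⁻¹ y) = y from
          Subtype.ext (by simp [cj_apply, mul_assoc])] at h1
        exact h1.symm
      obtain ⟨μ', ν', -, hd', hmn'⟩ := ind_diff hh hl1 hl ho' ho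
      have hne0 : Cfsg.classInner ((μ : G → ℂ) - (ν : G → ℂ)) ((μ' : G → ℂ) - (ν' : G → ℂ)) ≠ 0 := by
        rw [← hd, ← hd', classInner_ind_lin hh,
          cnt_self hh hl1]
        have e1 : cnt z l0 l = 0 := by
          simp only [cnt, Finset.card_eq_zero, Finset.filter_eq_empty_iff]
          exact fun w _ h => ho' w h.symm
        have e2 : cnt z (l0 ^ j) l0 = 0 := by
          simp only [cnt, Finset.card_eq_zero, Finset.filter_eq_empty_iff]
          exact fun w _ h => horb w h.symm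
        rw [e1, e2, Nat.cast_zero, sub_zero, sub_zero]
        refine mul_ne_zero (inv_ne_zero (Nat.cast_ne_zero.mpr ha0)) ?_
        exact_mod_cast Nat.ne_of_gt (by omega : 0 < a + cnt z (l0 ^ j) l)
      have hzero : (μ' : G → ℂ) t = 0 := by
        by_contra h
        apply hne0
        have e : ∀ φ : Cfsg.IrrCharacter G, (φ : G → ℂ) t ≠ 0 → φ ≠ μ ∧ φ ≠ ν := fun φ hφ =>
          ⟨fun e => hφ (e ▸ hμ0), fun e => hφ (e ▸ hν0)⟩
        have e1 := e μ' h
        have e2 := e ν' (hmn' ▸ h)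
        rw [Char.classInner_diff, if_neg e1.1.symm, if_neg e2.2.symm, if_neg e2.1.symm,
          if_neg e1.2.symm]
        simp
      rw [hd', show χ = ((⟨χ, hχ⟩ : Cfsg.IrrCharacter G) : G → ℂ) from rfl, hirr, if_neg, if_neg,
        sub_self]
      · intro e
        apply hx0
        have := congrArg (fun φ : Cfsg.IrrCharacter G => (φ : G → ℂ) t) e
        exact this.trans (hmn'.symm.trans hzero)
      · intro e
        exact hx0 ((congrArg (fun φ : Cfsg.IrrCharacter G => (φ : G → ℂ) t) e).trans hzero)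
  have hcst := fun y => const_of_mult hcomm (fun y : cen z => χ y) _ hmult (k := y)
  exact (hcst k hk).trans (hcst k' hk').symm


theorem isolated_of_isoCtx : ∀ g : G, g * t * g⁻¹ ∈ cen t → g * t * g⁻¹ = t := by
  classical
  haveI := hh.simple
  set M := cen t
  set π : G → ℂ := Cfsg.indFun M (fun _ => 1) with hπ
  have ha2 : 2 < a := by
    have := hh.one_lt_a
    by_contra h
    obtain rfl : a = 2 := by omega
    have hprime := Char.prime_card_of_class_prime_pow Nat.prime_two t hh.t_ne_one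
      (show _ = 2 ^ 1 from hh.hta)
    rw [hh.card] at hprime
    exact Nat.not_prime_mul (by norm_num) hh.one_lt_c.ne' hprime
  have hstab : MulAction.stabilizer G ((1 : G) : G ⧸ M) = M := MulAction.stabilizer_quotient M
  have hfix : ∀ g : G, π g = (Nat.card (MulAction.fixedBy (G ⧸ M) g) : ℂ) := fun g => by
    rw [← Char.indFun_stabilizer (G ⧸ M) ((1 : G) : G ⧸ M) g]
    exact congrFun (Char.indFun_congr hstab.symm (fun _ => (1 : ℂ)) (fun _ => (1 : ℂ)) fun _ => rfl) g
  have hπc : Cfsg.IsCharacter G π := Char.isCharacter_indFun M Char.isCharacter_one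
  have hπK : ∀ k ∈ cen z, k ≠ 1 → π k = 0 := by
    intro k hk hk1
    refine Char.indFun_eq_zero_of_forall _ _ fun w hw => hk1 (orderOf_eq_one_iff.1 ?_)
    have h1 : orderOf (w⁻¹ * k * w) ∣ c := hh.card_M ▸ Subgroup.orderOf_dvd_natCard _ hw
    have e : orderOf (w⁻¹ * k * w) = orderOf k := orderOf_injective (MulAut.conj w⁻¹).toMonoidHom
      (MulAut.conj w⁻¹).injective k ▸ congrArg orderOf (by simp)
    exact Nat.eq_one_of_dvd_coprimes hh.cop (hh.card_K ▸ Subgroup.orderOf_dvd_natCard _ hk) (e ▸ h1)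
  have hπ1 : π 1 = (a : ℂ) := by
    rw [hfix, show Nat.card (MulAction.fixedBy (G ⧸ M) (1 : G)) = a from ?_]
    rw [MulAction.fixedBy_one_eq_univ, Nat.card_coe_set_eq, Set.ncard_univ]
    exact hh.hta
  have hin1 : Cfsg.classInner π (fun _ => 1) = 1 := by
    rw [hπ, Char.classInner_indFun_left M _ (Char.IsCharacter.isClassFunction Char.isCharacter_one)]
    exact Char.classInner_self_irr Char.isIrrCharacter_one
  set f : G → ℂ := π - fun _ => 1 with hf
  have hfapp : ∀ g, f g = π g - 1 := fun g => rfl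
  have hfc : Cfsg.IsCharacter G f := by
    refine Char.isCharacter_of_classInner (fun g w => ?_) fun ψ => ?_
    · simp only [hfapp, Char.IsCharacter.isClassFunction hπc g w]
    · by_cases e : ψ = Char.principal G
      · refine ⟨0, ?_⟩
        rw [hf, Char.classInner_sub_left, e, show ((Char.principal G : Cfsg.IrrCharacter G) : G → ℂ) =
          fun _ => 1 from rfl, hin1, Char.classInner_self_irr Char.isIrrCharacter_one, sub_self,
          Nat.cast_zero]
      · rw [hf, Char.classInner_sub_left, Char.classInner_irr_of_ne Char.isIrrCharacter_one ψ.2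
          fun h => e (Subtype.ext h.symm), sub_zero]
        exact Char.IsCharacter.exists_classInner_nat hπc (Char.IsIrrCharacter.isCharacter ψ.2)
  obtain ⟨k0, hk0⟩ : ∃ k : cen z, k ≠ 1 :=
    ⟨⟨z, self_mem z⟩, fun h => hh.hz1 (congrArg Subtype.val h)⟩
  have hnat : ∃ n : ℕ, π t = n ∧ n = Nat.card (MulAction.fixedBy (G ⧸ M) t) := ⟨_, hfix t, rfl⟩
  obtain ⟨n, hn, hnf⟩ := hnat
  -- the fixed point of `t`
  have hmem1 : ((1 : G) : G ⧸ M) ∈ MulAction.fixedBy (G ⧸ M) t := by
    have : t ∈ MulAction.stabilizer G ((1 : G) : G ⧸ M) := hstab.symm ▸ self_mem t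
    exact this
  haveI : Nonempty (MulAction.fixedBy (G ⧸ M) t) := ⟨⟨_, hmem1⟩⟩
  have hn1 : 1 ≤ n := hnf ▸ Nat.card_pos
  have hn2 : n < a := by
    rw [hnf, ← hh.hta]
    rw [Nat.card_coe_set_eq, ind, Subgroup.index, ← Set.ncard_univ (α := G ⧸ M)]
    refine Set.ncard_lt_ncard (Set.ssubset_univ_iff.2 fun hall => ?_)
    have hcore : t ∈ M.normalCore := fun g => by
      have h1 : t • ((g⁻¹ : G) : G ⧸ M) = ((g⁻¹ : G) : G ⧸ M) :=
        (hall ▸ Set.mem_univ _ : _ ∈ MulAction.fixedBy (G ⧸ M) t)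
      rw [MulAction.Quotient.smul_coe, smul_eq_mul] at h1
      have h2 := QuotientGroup.eq.1 h1.symm
      simpa [mul_assoc] using h2
    rcases IsSimpleGroup.eq_bot_or_eq_top_of_normal M.normalCore (Subgroup.normalCore_normal M) with h | h
    · exact hh.t_ne_one (Subgroup.mem_bot.1 (h ▸ hcore))
    · have hM : ind t = 1 := Subgroup.index_eq_one.2 (top_le_iff.1 (h ▸ M.normalCore_le))
      exact hh.one_lt_a.ne' (hh.hta.symm.trans hM)
  have hone : n = 1 := by
    by_contra hn3
    have hf0 : f t ≠ 0 := by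
      rw [hfapp, hn, sub_ne_zero]
      exact_mod_cast hn3
    obtain ⟨m, hm⟩ := Char.IsCharacter.exists_decomp hfc
    obtain ⟨ψ, hψm, hψt⟩ : ∃ ψ, m ψ ≠ 0 ∧ (ψ : G → ℂ) t ≠ 0 := by
      by_contra hcon
      push Not at hcon
      apply hf0
      rw [hm, Finset.sum_apply]
      refine Finset.sum_eq_zero fun ψ _ => ?_
      by_cases h : m ψ = 0
      · simp [h]
      · simp [hcon ψ h]
    choose d hdpos hd using fun φ : Cfsg.IrrCharacter G => Char.IsIrrCharacter.exists_degree φ.2
    have hd0 : ∀ φ : Cfsg.IrrCharacter G, d φ ≠ 0 := fun φ => (hdpos φ).ne'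
    have hsum : ∑ φ, m φ * d φ = a - 1 := by
      have h1 := congrFun hm 1
      rw [hfapp, hπ1, Finset.sum_apply] at h1
      simp only [Pi.smul_apply, smul_eq_mul, hd] at h1
      have h2 : ((∑ φ, m φ * d φ : ℕ) : ℂ) = ((a - 1 : ℕ) : ℂ) := by
        rw [Nat.cast_sub (by omega), Nat.cast_one, h1, Nat.cast_sum]
        exact Finset.sum_congr rfl fun φ _ => Nat.cast_mul _ _
      exact_mod_cast h2
    -- no trivial part on the CC subgroup
    choose r hr using fun φ : Cfsg.IrrCharacter G => Char.IsCharacter.exists_classInner_nat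
      (Char.IsCharacter.restrict (Char.IsIrrCharacter.isCharacter φ.2) (cen z))
      (Char.isCharacter_one (G := cen z))
    have hψC : ∀ k : cen z, k ≠ 1 → (ψ : G → ℂ) k = (ψ : G → ℂ) k0 :=
      fun k hk => char_const hh ψ.2 hψt hk hk0
    have havg : ∀ (φ : G → ℂ) (C : ℂ), (∀ k : cen z, k ≠ 1 → φ k = C) →
        Cfsg.classInner (fun k : cen z => φ k) (fun _ => 1) = (a : ℂ)⁻¹ * (φ 1 + ((a : ℂ) - 1) * C) := by
      intro φ C hC
      simp only [Cfsg.classInner, map_one, mul_one, hh.card_K]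
      congr 1
      rw [← Finset.add_sum_erase _ _ (Finset.mem_univ (1 : cen z)), OneMemClass.coe_one]
      congr 1
      rw [Finset.sum_congr rfl fun k hk => hC k (Finset.ne_of_mem_erase hk), Finset.sum_const,
        Finset.card_erase_of_mem (Finset.mem_univ _), Finset.card_univ, ← Nat.card_eq_fintype_card,
        hh.card_K, nsmul_eq_mul, Nat.cast_sub (by omega), Nat.cast_one]
    have hr0 : r ψ = 0 := by
      have h1 : Cfsg.classInner (fun k : cen z => f k) (fun _ => 1) = 0 := by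
        rw [havg f (-1) fun k hk => by
          rw [hfapp, hπK k k.2 (fun e => hk (Subtype.ext e)), zero_sub], hfapp, hπ1]
        ring
      rw [show (fun k : cen z => f k) = ∑ φ, (m φ : ℂ) • (fun k : cen z => (φ : G → ℂ) k) from
        funext fun k => by simp [hm], Char.classInner_sum_left] at h1
      simp only [Char.classInner_smul_left] at h1
      have h2 : ((∑ φ, m φ * r φ : ℕ) : ℂ) = ((0 : ℕ) : ℂ) := by
        rw [Nat.cast_zero, ← h1, Nat.cast_sum]
        exact Finset.sum_congr rfl fun φ _ => by rw [Nat.cast_mul, hr φ]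
      have h3 : ∑ φ, m φ * r φ = 0 := by exact_mod_cast h2
      exact (mul_eq_zero.1 (Finset.sum_eq_zero_iff.1 h3 ψ (Finset.mem_univ _))).resolve_left hψm
    have hC : (ψ : G → ℂ) k0 * ((a : ℂ) - 1) = -(d ψ : ℂ) := by
      have h := hr ψ
      rw [hr0, Nat.cast_zero, havg _ _ hψC, hd ψ] at h
      have ha0 : (a : ℂ) ≠ 0 := Nat.cast_ne_zero.2 (by omega)
      field_simp at h
      linear_combination h
    have hdvd : a - 1 ∣ d ψ := by
      refine Char.dvd_of_isIntegral_div (by omega) ?_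
      have h := (Char.IsCharacter.isIntegral (Char.IsIrrCharacter.isCharacter ψ.2) (k0 : G)).neg
      have ha1 : (a : ℂ) - 1 ≠ 0 := sub_ne_zero.2 (by exact_mod_cast hh.one_lt_a.ne')
      rwa [Nat.cast_sub (by omega), Nat.cast_one,
        show (d ψ : ℂ) / ((a : ℂ) - 1) = -((ψ : G → ℂ) k0) by
          field_simp; linear_combination hC]
    have hle : m ψ * d ψ ≤ a - 1 := hsum ▸ Finset.single_le_sum
      (f := fun φ => m φ * d φ) (fun _ _ => Nat.zero_le _) (Finset.mem_univ ψ)
    have hdle := Nat.le_of_dvd (Nat.pos_of_ne_zero (hd0 ψ)) hdvd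
    have hmul : 1 * d ψ ≤ m ψ * d ψ := Nat.mul_le_mul_right _ (Nat.pos_of_ne_zero hψm)
    rw [one_mul] at hmul
    have hmψ : m ψ = 1 :=
      Nat.eq_of_mul_eq_mul_right (Nat.pos_of_ne_zero (hd0 ψ)) (by rw [one_mul]; omega)
    have hzero : ∀ φ, φ ≠ ψ → m φ = 0 := by
      intro φ hφ
      have h1 : (∑ x ∈ Finset.univ.erase ψ, m x * d x) = 0 := by
        have := Finset.add_sum_erase Finset.univ (fun φ => m φ * d φ) (Finset.mem_univ ψ)
        omega
      exact (mul_eq_zero.1 (Finset.sum_eq_zero_iff.1 h1 φ (Finset.mem_erase.2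
        ⟨hφ, Finset.mem_univ _⟩))).resolve_right (hd0 φ)
    have hfψ : f = (ψ : G → ℂ) := by
      rw [hm, Finset.sum_eq_single ψ (fun φ _ hφ => by simp [hzero φ hφ])
        (fun h => absurd (Finset.mem_univ ψ) h), hmψ, Nat.cast_one, one_smul]
    have hk01 : (k0 : G) ≠ 1 := fun e => hk0 (Subtype.ext e)
    have h5 := char_mul hh (hfψ.symm ▸ ψ.2 : Cfsg.IsIrrCharacter G f) k0.2 hk01
    rw [hfapp, hfapp 1, hfapp t, hfapp (k0 : G), hn, hπ1, hπK _ k0.2 hk01, hfix, zero_sub] at h5
    set N := Nat.card (MulAction.fixedBy (G ⧸ M) (t * (k0 : G)))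
    have h6 : ((N : ℤ) - 1) * ((a : ℤ) - 1) = -((n : ℤ) - 1) := by
      have h7 : (((((N : ℤ) - 1) * ((a : ℤ) - 1)) : ℤ) : ℂ) = ((-((n : ℤ) - 1) : ℤ) : ℂ) := by
        push_cast
        linear_combination h5
      exact_mod_cast h7
    have h8 : ((a : ℤ) - 1) ∣ ((n : ℤ) - 1) := ⟨-((N : ℤ) - 1), by linarith⟩
    have h9 := Int.le_of_dvd (by omega) h8
    omega
  -- `t` fixes one coset only
  intro g hu
  have hsub : Subsingleton (MulAction.fixedBy (G ⧸ M) t) :=
    (Nat.card_eq_one_iff_unique.1 (hnf.symm.trans hone)).1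
  have hfg : ((g : G) : G ⧸ M) ∈ MulAction.fixedBy (G ⧸ M) t := by
    change t • ((g : G) : G ⧸ M) = _
    rw [MulAction.Quotient.smul_coe, smul_eq_mul]
    refine QuotientGroup.eq.2 (mem_cen.2 ?_)
    have h1 := mem_cen.1 hu
    calc (t * g)⁻¹ * g * t = g⁻¹ * (t⁻¹ * (g * t * g⁻¹)) * g := by group
      _ = g⁻¹ * ((g * t * g⁻¹) * t⁻¹) * g := by
          rw [(Commute.inv_right (show Commute (g * t * g⁻¹) t from h1)).eq]
      _ = t * ((t * g)⁻¹ * g) := by
          group
  have := congrArg Subtype.val (hsub.elim ⟨_, hfg⟩ ⟨_, hmem1⟩)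
  have hgM : g ∈ M := by simpa using (QuotientGroup.eq.1 this.symm)
  rw [mem_cen.1 hgM, mul_inv_cancel_right]

omit hh in
/-- An element of prime order with class size `a` and an abelian CC subgroup of order `a` is isolated
in its centraliser. -/
theorem isolated {G : Type u} [Group G] [Finite G] [IsSimpleGroup G] (hZ : Subgroup.center G = ⊥)
    {a c r : ℕ} {x z : G} (hr : r.Prime) (hxr : orderOf x = r) (hxa : ind x = a) (hz : z ≠ 1)
    (hzc : ind z = c) (hcop : a.Coprime c) (hcard : Nat.card G = a * c)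
    (hcc : ∀ k ∈ cen z, k ≠ 1 → cen k = cen z) (hcomm : ∀ u ∈ cen z, ∀ v ∈ cen z, u * v = v * u)
    (hvals : ∀ g : G, g ≠ 1 → ind g = c ∨ (a ∣ ind g ∧ ¬ c ∣ ind g)) :
    ∀ g : G, g * x * g⁻¹ ∈ cen x → g * x * g⁻¹ = x :=
  haveI := Fintype.ofFinite G
  isolated_of_isoCtx ⟨inferInstance, hZ, hxr ▸ hr, hxa, hz, hzc, hcop, hcard, hcc, hcomm, hvals⟩

omit hh in
/-- An involution cannot have such a class size. -/
theorem isolated_false {G : Type u} [Group G] [Finite G] [IsSimpleGroup G] (hZ : Subgroup.center G = ⊥)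
    {a c : ℕ} {x z : G} (hxr : orderOf x = 2) (hxa : ind x = a) (hz : z ≠ 1) (hzc : ind z = c)
    (hcop : a.Coprime c) (hcard : Nat.card G = a * c)
    (hcc : ∀ k ∈ cen z, k ≠ 1 → cen k = cen z) (hcomm : ∀ u ∈ cen z, ∀ v ∈ cen z, u * v = v * u)
    (hvals : ∀ g : G, g ≠ 1 → ind g = c ∨ (a ∣ ind g ∧ ¬ c ∣ ind g)) : False := by
  have hiso : Cfsg.IsIsolated x := fun g hg =>
    isolated hZ Nat.prime_two hxr hxa hz hzc hcop hcard hcc hcomm hvals g (mem_cen.2 hg.eq.symm)
  refine NormCyc.false_of_inZStar (fun hc => ne_one_of_prime_order Nat.prime_two hxr ?_) hxr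
    (BrauerSuzuki.zStar G x hxr hiso)
  exact Subgroup.mem_bot.1 (hZ ▸ Subgroup.mem_center_iff.2 fun w => hc.is_comm.comm w x)

end Cfsg.Agent.ConjRankFour
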