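import Cfsg.Agent.Lib.ConjRankFour.Basic
import Cfsg.Agent.Lib.RegTwoSizes.Final
import Cfsg.Agent.Lib.ThreeSizes.Criterion
import Cfsg.Agent.Lib.Solvable.Fitting
import Cfsg.Agent.Lib.Techniques.CharP

/-!
# Centralisers with two class sizes of elements of odd order
-/

set_option autoImplicit false
set_option linter.style.haveILetI false
set_option linter.unusedSectionVars false

namespace Cfsg.Agent.ConjRankFour

open Cfsg.Agent.ConjRankThree

universe u

variable {C : Type u} [Group C] [Finite C]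

theorem odd_orderOf_iff {x : C} : Odd (orderOf x) ↔ (orderOf x).Coprime 2 :=
  Nat.coprime_two_right.symm

theorem pel_of_orderOf {l : ℕ} {x : C} (hx : orderOf x = l) : ThreeSizes.PEl l x :=
  ⟨1, by rw [pow_one, ← hx, pow_orderOf_eq_one]⟩

theorem orderOf_coprime_of_pel {l q : ℕ} (hl : l.Prime) (hq : q.Prime) (hne : l ≠ q) {x : C}
    (hx : ThreeSizes.PEl l x) : (orderOf x).Coprime q := by
  obtain ⟨k, hk⟩ := hx
  exact Nat.Coprime.coprime_dvd_left (orderOf_dvd_of_pow_eq_one hk)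
    (((Nat.coprime_primes hl hq).2 hne).pow_left k)

/-- A primary element of a nilpotent normal subgroup lies in the corresponding core. -/
theorem mem_pCore_of_nilpotent (F : Subgroup C) [F.Normal] [Group.IsNilpotent F] {l : ℕ} (hl : l.Prime)
    {x : C} (hxF : x ∈ F) (hx : ThreeSizes.PEl l x) : x ∈ Cfsg.pCore l C := by
  haveI := Fact.mk hl
  obtain ⟨P⟩ : Nonempty (Sylow l F) := inferInstance
  haveI hPn : (P : Subgroup F).Normal :=
    P.normal_of_normalizerCondition (Group.normalizerCondition_of_isNilpotent (G := F))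
  haveI : (P : Subgroup F).Characteristic := Sylow.characteristic_of_normal P hPn
  haveI : ((P : Subgroup F).map F.subtype).Normal := ConjAct.normal_of_characteristic_of_normal
  obtain ⟨k, hk⟩ := hx
  obtain ⟨i, -, hi⟩ := (Nat.dvd_prime_pow hl).1
    (orderOf_dvd_of_pow_eq_one (show (⟨x, hxF⟩ : F) ^ l ^ k = 1 from Subtype.ext hk))
  obtain ⟨R, hR⟩ := (IsPGroup.of_card (n := i) (by rw [Nat.card_zpowers, hi]) :
    IsPGroup l (Subgroup.zpowers (⟨x, hxF⟩ : F))).exists_le_sylow
  haveI := P.unique_of_normal hPn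
  rw [Subsingleton.elim R P] at hR
  exact PBasic.le_pCore inferInstance (P.isPGroup'.map F.subtype)
    ⟨⟨x, hxF⟩, hR (Subgroup.mem_zpowers _), rfl⟩

theorem pCore_le_pPrimeCore {l : ℕ} (hl : l.Prime) (hne : l ≠ 2) :
    Cfsg.pCore l C ≤ Cfsg.pPrimeCore 2 C := by
  haveI := Fact.mk hl
  haveI := Fact.mk Nat.prime_two
  have hn : (Cfsg.pCore l C).Normal := Subgroup.sSup_normal _ fun _ h => h.1
  refine PBasic.le_pPrimeCore hn ?_
  obtain ⟨n, hn'⟩ := (PBasic.pCore_isPGroup l C).exists_card_eq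
  rw [hn']
  exact ((Nat.coprime_primes hl Nat.prime_two).2 hne).pow_left n

/-- In a solvable group a primary element centralising all cores lies in its own core. -/
theorem mem_pCore_of_centralizes [Group.IsSolvable C] {l : ℕ} (hl : l.Prime) {x : C}
    (hx : ThreeSizes.PEl l x)
    (hcen : ∀ m : ℕ, m.Prime → ∀ y ∈ Cfsg.pCore m C, x * y = y * x) : x ∈ Cfsg.pCore l C := by
  set F := Cfsg.fittingSubgroup C
  haveI : F.Normal := FittingCores.fitting_normal
  haveI : Group.IsNilpotent F := FittingCores.fitting_nilpotent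
  have hF : ∀ y ∈ F, x * y = y * x := by
    intro y hy
    by_contra hc
    obtain ⟨m, n, hm, hp, hn⟩ := ThreeSizes.exists_primary_not_mem (H := cen x)
      (fun h => hc (mem_cen.1 h).symm)
    exact hn (mem_cen.2 (Eq.symm (hcen m hm _ (mem_pCore_of_nilpotent F hm (F.pow_mem hy n) hp))))
  have hxF : x ∈ F := FittingCores.centralizer_fitting_le
    (Subgroup.mem_centralizer_iff.2 fun y hy => (hF y hy).symm)
  exact mem_pCore_of_nilpotent F hl hxF hx

/-- An odd primary element centralising both cores lies in the odd core. -/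
theorem mem_oddCore [Group.IsSolvable C] {l : ℕ} (hl : l.Prime) (hne : l ≠ 2) {x : C}
    (hx : ThreeSizes.PEl l x) (hU : ∀ y ∈ Cfsg.pCore 2 C, x * y = y * x)
    (hO : ∀ y ∈ Cfsg.pPrimeCore 2 C, x * y = y * x) : x ∈ Cfsg.pPrimeCore 2 C := by
  refine pCore_le_pPrimeCore hl hne (mem_pCore_of_centralizes hl hx fun m hm y hy => ?_)
  by_cases h2 : m = 2
  · exact hU _ (h2 ▸ hy)
  · exact hO _ (pCore_le_pPrimeCore hm h2 hy)

/-- The structure of a group with two class sizes of elements of odd order. -/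
theorem reg_two {e : ℕ} (he : e ≠ 1)
    (h1 : ∀ w : C, Odd (orderOf w) → (cen w).index = 1 ∨ (cen w).index = e)
    (h2 : ∃ w : C, Odd (orderOf w) ∧ (cen w).index = e) :
    (∃ H : Subgroup C, IsMulCommutative H ∧ ¬ 2 ∣ Nat.card H ∧ ∃ k : ℕ, H.index = 2 ^ k) ∨
    (∃ (q : ℕ) (_ : Fact q.Prime) (P : Sylow 2 C) (Q : Sylow q C) (A : Subgroup C), q ≠ 2 ∧
        A ≤ Subgroup.center C ∧
        Nat.card ↥((P : Subgroup C) ⊔ (Q : Subgroup C)) = Nat.card P * Nat.card Q ∧
        ((P : Subgroup C) ⊔ (Q : Subgroup C)).Normal ∧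
        ((P : Subgroup C) ⊔ (Q : Subgroup C)) ⊓ A = ⊥ ∧
        ((P : Subgroup C) ⊔ (Q : Subgroup C)) ⊔ A = ⊤) := by
  refine RegTwoSizes.conclusion Nat.prime_two ?_
  rw [Set.ncard_eq_two]
  refine ⟨1, e, Ne.symm he, Set.ext fun n => ⟨?_, ?_⟩⟩
  · rintro ⟨⟨w, hw⟩, rfl⟩
    show (ConjClasses.mk w).carrier.ncard ∈ ({1, e} : Set ℕ)
    rw [RegTwoSizes.ncard_carrier_eq]
    exact h1 w (odd_orderOf_iff.2 hw)
  · rintro (rfl | rfl)
    · refine ⟨⟨1, by rw [orderOf_one]; exact Nat.coprime_one_left 2⟩, ?_⟩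
      show (ConjClasses.mk (1 : C)).carrier.ncard = 1
      rw [RegTwoSizes.ncard_carrier_eq]
      exact Subgroup.index_eq_one.2 (eq_top_iff.2 fun y _ => mem_cen.2 (by simp))
    · obtain ⟨w, hw, hwe⟩ := h2
      exact ⟨⟨w, odd_orderOf_iff.1 hw⟩, by rw [← hwe]; exact RegTwoSizes.ncard_carrier_eq w⟩

theorem solvable_of_sizes {e t : ℕ} (ht : t.Prime)
    (h1 : ∀ w : C, Odd (orderOf w) → (cen w).index = 1 ∨ (cen w).index = e)
    (he : ∀ p : ℕ, p.Prime → p ∣ e → p = 2 ∨ p = t) : Group.IsSolvable C := by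
  refine ThreeSizes.solvable_of_twoPrimeClasses Nat.prime_two ht _ C le_rfl ?_
  intro x l hl hl2 hx m hm hm2 hmt hd
  rcases h1 x (odd_orderOf_iff.2 (orderOf_coprime_of_pel hl Nat.prime_two hl2 hx)) with h | h
  · exact hm.ne_one (Nat.dvd_one.1 (h ▸ hd))
  · rcases he m hm (h ▸ hd) with h' | h'
    · exact hm2 h'
    · exact hmt h'

variable {G : Type u} [Group G] [Finite G]

/-- The class size inside the centraliser of a commuting element of coprime order. -/
theorem index_cen_mul {u w : G} (hw : w ∈ cen u) (hco : (orderOf u).Coprime (orderOf w)) :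
    (cen (⟨w, hw⟩ : cen u)).index * ind u = ind (u * w) := by
  have e : (cen (⟨w, hw⟩ : cen u)) = (cen (u * w)).subgroupOf (cen u) := by
    ext y
    rw [Subgroup.mem_subgroupOf, mem_cen, cen_mul hw hco, Subgroup.mem_inf, Subtype.ext_iff]
    exact ⟨fun h => ⟨y.2, mem_cen.2 h⟩, fun h => mem_cen.1 h.2⟩
  rw [e]
  exact Subgroup.relIndex_mul_index ((cen_mul hw hco).le.trans inf_le_left)

end Cfsg.Agent.ConjRankFour
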