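import Cfsg.Agent.Lib.ConjRankFour.Poset
import Cfsg.Agent.Lib.ConjRankFour.Groups
import Cfsg.Agent.Lib.Involutions.SwapCount
import Cfsg.Agent.Lib.AlperinRankTwo.Simple
import Cfsg.Agent.Lib.Solvable.Fitting
import Cfsg.Agent.Lib.Solvable.Hall
import Cfsg.Agent.Lib.Solvable.KegelWielandt
import Cfsg.Agent.Lib.Solvable.Coprime
import Cfsg.Agent.Lib.Partition.Simple
import Cfsg.Agent.S1225

/-!
# No involution of minimal class size

If every involution has a maximal class size, the odd part `A` of the centraliser of an involution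
is central in it, and `H = N(A)` is strongly embedded unless `A = 1`.  For `A ≠ 1` some element
`β ∈ A` commutes with a real element of odd order; the centraliser of `β` is then the product of two
nilpotent subgroups, so solvable, and this forces all involutions of `H` into a normal `2`-subgroup.
-/

set_option autoImplicit false
set_option linter.style.haveILetI false
set_option linter.unusedSectionVars false
set_option linter.unusedVariables false

namespace Cfsg.Agent.ConjRankFour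

open Cfsg.Agent.ConjRankThree

universe u

/-- A solvable normal subgroup generated by involutions has an involution in the `2`-core, if every
involution lies in a four-group and centralises the elements of odd order centralising a commuting one. -/
theorem exists_invol_pCore {L : Type u} [Group L] [Finite L] (M : Subgroup L) [hMn : M.Normal]
    (hs : Group.IsSolvable M) (X : Set L) (hX : M = Subgroup.closure X) (hXo : ∀ x ∈ X, orderOf x = 2)
    (hne : X.Nonempty) (hfour : ∀ x : L, orderOf x = 2 → ∃ y, orderOf y = 2 ∧ y ≠ x ∧ y * x = x * y)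
    (hodd : ∀ x e w : L, orderOf x = 2 → orderOf e = 2 → e * x = x * e → Odd (orderOf w) →
      w * e = e * w → w * x = x * w) :
    ∃ z ∈ M, z ∈ Cfsg.pCore 2 L ∧ orderOf z = 2 := by
  classical
  haveI : Fact (Nat.Prime 2) := ⟨Nat.prime_two⟩
  haveI := hs
  set O0 : Subgroup M := Cfsg.pPrimeCore 2 M
  set O : Subgroup L := O0.map M.subtype
  haveI hOn : O.Normal := FittingCores.normal_map_of_characteristic hMn
    (FittingCores.pPrimeCore_characteristic 2)
  have hOodd : Odd (Nat.card O) := by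
    rw [Subgroup.card_map_of_injective M.subtype_injective]
    exact Nat.coprime_two_right.1 (FittingCores.pPrimeCore_coprime 2)
  have hcen : ∀ x ∈ X, O ≤ Subgroup.centralizer ({x} : Set L) := by
    intro x hx
    have hxo := hXo x hx
    obtain ⟨y, hy, hyx, hc⟩ := hfour x hxo
    set E := Subgroup.closure ({x, y} : Set L)
    have hsq : ∀ {a : L}, orderOf a = 2 → a * a = 1 := fun {a} ha => by
      rw [← pow_two, ← ha, pow_orderOf_eq_one]
    haveI hcomm : IsMulCommutative E := Subgroup.isMulCommutative_closure (by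
      rintro a (rfl | rfl) b (rfl | rfl)
      exacts [rfl, hc.symm, hc, rfl])
    have hsq' : ∀ a ∈ E, a * a = 1 := by
      intro a ha
      induction ha using Subgroup.closure_induction with
      | mem b hb => rcases hb with rfl | rfl <;> first | exact hsq hxo | exact hsq hy
      | one => rw [one_mul]
      | mul b d hb hd h1 h2 =>
        rw [Commute.mul_mul_mul_comm (show Commute d b from
          congrArg Subtype.val (hcomm.is_comm.comm (⟨d, hd⟩ : E) ⟨b, hb⟩)), h1, h2, one_mul]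
      | inv b _ h1 => rw [← mul_inv_rev, h1, inv_one]
    have hx1 : x ≠ 1 := ne_one_of_orderOf (by norm_num) hxo
    have hncyc : ¬ IsCyclic E := by
      rintro hcyc
      obtain ⟨⟨g, hg⟩, hgen⟩ := hcyc.exists_generator
      have hval : ∀ a : L, a ∈ E → a = 1 ∨ a = g := by
        intro a ha
        obtain ⟨i, hi⟩ := hgen ⟨a, ha⟩
        have hi' : g ^ i = a := congrArg Subtype.val hi
        rcases Int.even_or_odd i with ⟨j, rfl⟩ | ⟨j, rfl⟩
        · left
          rw [← hi', ← two_mul, zpow_mul, zpow_two g, hsq' g hg, one_zpow]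
        · right
          rw [← hi', zpow_add, zpow_mul, zpow_two g, hsq' g hg, one_zpow,
            one_mul, zpow_one]
      rcases hval x (Subgroup.subset_closure (by simp)) with h | h
      · exact hx1 h
      rcases hval y (Subgroup.subset_closure (by simp)) with h' | h'
      · exact ne_one_of_orderOf (by norm_num) hy h'
      · exact hyx (h'.trans h.symm)
    have hE2 : IsPGroup 2 E := fun a => ⟨1, Subtype.ext (by simpa [pow_two] using hsq' a a.2)⟩
    obtain ⟨i, hi⟩ := hE2.exists_card_eq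
    have hcop : (Nat.card E).Coprime (Nat.card O) := hi ▸ (Nat.coprime_two_left.2 hOodd).pow_left i
    rw [← CoprimeAct.generated_by_centralizers hncyc
      (le_top.trans (Subgroup.normalizer_eq_top_iff.2 hOn).ge) hcop]
    refine iSup₂_le fun e he w hw => Subgroup.mem_centralizer_singleton_iff.2 ?_
    refine hodd x e w hxo (orderOf_eq_prime (by rw [pow_two, hsq' e he.1]) he.2) ?_ ?_
      (Subgroup.mem_centralizer_singleton_iff.1 hw.2)
    · exact congrArg Subtype.val (hcomm.is_comm.comm (⟨e, he.1⟩ : E) ⟨x, Subgroup.subset_closure (by simp)⟩)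
    · exact hOodd.of_dvd_nat (Subgroup.orderOf_dvd_natCard _ hw.1)
  have hOM : ∀ o ∈ O0, ∀ m : M, m * o = o * m := by
    intro o ho m
    have hoL : (o : L) ∈ O := ⟨o, ho, rfl⟩
    have hm : (m : L) ∈ Subgroup.centralizer ({(o : L)} : Set L) := by
      have : Subgroup.closure X ≤ Subgroup.centralizer ({(o : L)} : Set L) := by
        rw [Subgroup.closure_le]
        exact fun x hx => Subgroup.mem_centralizer_singleton_iff.2
          (Subgroup.mem_centralizer_singleton_iff.1 (hcen x hx hoL)).symm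
      exact this (hX.le m.2)
    exact Subtype.ext (Subgroup.mem_centralizer_singleton_iff.1 hm)
  have hT : Cfsg.pCore 2 M ≠ ⊥ := by
    intro h
    have hF : Cfsg.fittingSubgroup M ≤ O0 := by
      have := FittingCores.fitting_le_pCore_sup_pPrimeCore (G := M) Nat.prime_two
      rwa [h, bot_sup_eq] at this
    have htop : (⊤ : Subgroup M) ≤ O0 := le_trans (fun m _ =>
      Subgroup.mem_centralizer_iff.2 fun o ho => (hOM o (hF ho) m).symm)
      ((FittingCores.centralizer_fitting_le (G := M)).trans hF)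
    obtain ⟨x, hx⟩ := hne
    have hxM : x ∈ M := hX ▸ Subgroup.subset_closure hx
    have h2 := hOodd.of_dvd_nat (Subgroup.orderOf_dvd_natCard O
      (⟨⟨x, hxM⟩, htop (Subgroup.mem_top _), rfl⟩ : x ∈ O))
    rw [hXo x hx] at h2
    exact Nat.not_odd_iff_even.2 even_two h2
  haveI : Nontrivial (Cfsg.pCore 2 M) := (Subgroup.nontrivial_iff_ne_bot _).2 hT
  obtain ⟨k, hk0, hk⟩ := (FittingCores.pCore_isPGroup (G := M) 2).nontrivial_iff_card.1 inferInstance
  obtain ⟨⟨z, hz⟩, hzo⟩ := exists_prime_orderOf_dvd_card' (G := Cfsg.pCore 2 M) 2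
    (hk ▸ dvd_pow_self 2 (by omega))
  rw [Subgroup.orderOf_mk] at hzo
  exact ⟨z, z.2, FittingCores.pCore_map_subtype_le 2 hMn ⟨z, hz, rfl⟩, by rwa [Subgroup.orderOf_coe]⟩

variable {G : Type u} [Group G] [Finite G]

/-- The elements of odd order centralising `u`. -/
def oddCen (u : G) : Subgroup G := Subgroup.closure {w | w ∈ cen u ∧ Odd (orderOf w)}

/-- All involutions have maximal class sizes, and one element of odd class size. -/
structure MaxCtx (G : Type u) [Group G] : Prop where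
  rank : Rank G
  up : UpOne G
  max : ∀ u : G, orderOf u = 2 → ¬ IsMin G (ind u)

namespace MaxCtx

variable (h : MaxCtx G)
include h

theorem isMax {u : G} (hu : orderOf u = 2) : IsMax G (ind u) :=
  (h.rank.min_or_max h.up (ne_one_of_orderOf (by norm_num) hu)).resolve_left (h.max u hu)

theorem cen_le {u w : G} (hu : orderOf u = 2) (hw : w ∈ cen u) (ho : Odd (orderOf w)) : cen u ≤ cen w :=
  cen_le_of_isMax (ne_one_of_orderOf (by norm_num) hu) (h.isMax hu) hw
    (hu ▸ Nat.coprime_two_left.2 ho)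

theorem mem_oddCen {u : G} (hu : orderOf u = 2) {w : G} :
    w ∈ oddCen u ↔ w ∈ cen u ∧ Odd (orderOf w) := by
  refine ⟨fun hw => ?_, fun hw => Subgroup.subset_closure hw⟩
  induction hw using Subgroup.closure_induction with
  | mem x hx => exact hx
  | one => exact ⟨Subgroup.one_mem _, by rw [orderOf_one]; exact odd_one⟩
  | mul x y _ _ hx hy =>
    have hc : Commute x y := (mem_cen.1 (h.cen_le hu hx.1 hx.2 hy.1)).symm
    exact ⟨mul_mem hx.1 hy.1, (hx.2.mul hy.2).of_dvd_nat hc.orderOf_mul_dvd_mul_orderOf⟩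
  | inv x _ hx => exact ⟨inv_mem hx.1, by rw [orderOf_inv]; exact hx.2⟩

theorem cen_le_of_mem {u w : G} (hu : orderOf u = 2) (hw : w ∈ oddCen u) : cen u ≤ cen w :=
  h.cen_le hu ((h.mem_oddCen hu).1 hw).1 ((h.mem_oddCen hu).1 hw).2

theorem oddCen_le_of_comm {u v : G} (hu : orderOf u = 2) (hv : orderOf v = 2) (hc : v ∈ cen u) :
    oddCen u ≤ oddCen v := fun w hw =>
  (h.mem_oddCen hv).2 ⟨mem_symm (h.cen_le_of_mem hu hw hc), ((h.mem_oddCen hu).1 hw).2⟩

theorem oddCen_eq {u v : G} (hu : orderOf u = 2) (hv : orderOf v = 2) (hc : v ∈ cen u) :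
    oddCen u = oddCen v :=
  le_antisymm (h.oddCen_le_of_comm hu hv hc) (h.oddCen_le_of_comm hv hu (mem_symm hc))

theorem conj_oddCen {u : G} (hu : orderOf u = 2) (g : G) {w : G} :
    g * w * g⁻¹ ∈ oddCen (g * u * g⁻¹) ↔ w ∈ oddCen u := by
  rw [h.mem_oddCen hu, h.mem_oddCen (by rw [Invol.order_conj, hu]), Invol.order_conj]
  refine and_congr_left fun _ => ⟨fun e => ?_, fun e => conj_mem_cen e g⟩
  have := conj_mem_cen e g⁻¹
  simpa [mul_assoc] using this

theorem mem_normalizer_of_eq {u : G} (hu : orderOf u = 2) {g : G}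
    (e : oddCen (g * u * g⁻¹) = oddCen u) : g ∈ Subgroup.normalizer (oddCen u : Set G) := by
  refine Subgroup.mem_normalizer_iff.2 fun w => ?_
  conv_rhs => rw [← e]
  exact (h.conj_oddCen hu g).symm

/-- The involutions of a `2`-group share their odd centralisers. -/
theorem oddCen_eq_of_pgroup {P : Subgroup G} (hP : IsPGroup 2 P) {u v : G} (hu : orderOf u = 2)
    (hv : orderOf v = 2) (huP : u ∈ P) (hvP : v ∈ P) : oddCen u = oddCen v := by
  haveI : Fact (Nat.Prime 2) := ⟨Nat.prime_two⟩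
  haveI : Nontrivial P := ⟨⟨⟨u, huP⟩, 1, fun e => ne_one_of_orderOf (by norm_num) hu
    (congrArg Subtype.val e)⟩⟩
  haveI := hP.center_nontrivial
  obtain ⟨k, hk0, hk⟩ := (hP.to_subgroup (Subgroup.center P)).nontrivial_iff_card.1 inferInstance
  obtain ⟨c, hc⟩ := exists_prime_orderOf_dvd_card' (G := Subgroup.center P) 2
    (hk ▸ dvd_pow_self 2 (by omega))
  have hco : orderOf ((c : P) : G) = 2 := by rw [Subgroup.orderOf_coe, Subgroup.orderOf_coe, hc]
  have hall : ∀ {x : G}, x ∈ P → x ∈ cen ((c : P) : G) := fun {x} hx => mem_cen.2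
    (congrArg Subtype.val (Subgroup.mem_center_iff.1 c.2 ⟨x, hx⟩))
  exact (h.oddCen_eq hco hu (hall huP)).symm.trans (h.oddCen_eq hco hv (hall hvP))

theorem nilpotent {u : G} (hu : orderOf u = 2) : Group.IsNilpotent (cen u) :=
  (nilpotent_of_central Nat.prime_two fun w hw ho v hv =>
    mem_cen.1 (h.cen_le hu hw (Nat.coprime_two_right.1 ho) hv)).1

/-- The only sizes above that of an odd element centralising an involution. -/
theorem odd_up {u w g : G} (hu : orderOf u = 2) (hw : w ∈ oddCen u) (hw1 : w ≠ 1) (hg : g ≠ 1)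
    (hd : ind w ∣ ind g) : ind g = ind w ∨ ind g = ind u := by
  have hwu := ind_dvd (h.cen_le_of_mem hu hw)
  rcases h.rank.min_or_max h.up hw1 with hmin | hmax
  · by_cases h1 : ind g = ind w
    · exact Or.inl h1
    by_cases h2 : ind u = ind w
    · exact Or.inl (((h2 ▸ h.isMax hu : IsMax G (ind w))) g hg hd)
    exact Or.inr (h.up w g u hw1 hg (ne_one_of_orderOf (by norm_num) hu) hmin hd hwu h1 h2)
  · exact Or.inl (hmax g hg hd)

theorem four {x : G} (hall : ∀ a : G, orderOf a = 2 → IsConj a x) :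
    ∃ y, orderOf y = 2 ∧ y ≠ x ∧ y * x = x * y := by
  classical
  haveI := h.rank.simple
  have hna : ¬ IsMulCommutative G := fun hc => by
    obtain ⟨a, b, hab⟩ := h.rank.nonab
    exact hab (hc.is_comm.comm a b)
  have h1 := AlperinRankTwo.not_rank_one hna
  simp only [Cfsg.PRankLE, not_forall, not_le, pow_one] at h1
  obtain ⟨A, hAc, hA2, hAcard⟩ := h1
  obtain ⟨⟨a, ha⟩, ha1⟩ : ∃ a : A, a ≠ 1 := by
    haveI : Nontrivial A := Finite.one_lt_card_iff_nontrivial.1 (by omega)
    exact exists_ne 1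
  obtain ⟨⟨b, hb⟩, hb1, hba⟩ : ∃ b : A, b ≠ 1 ∧ b ≠ ⟨a, ha⟩ := by
    by_contra hcon
    push Not at hcon
    have hsub : (Set.univ : Set A) ⊆ {1, ⟨a, ha⟩} := fun b _ => by
      by_cases hb : b = 1
      · simp [hb]
      · simp [hcon b hb]
    have := Set.ncard_le_ncard hsub
    rw [Set.ncard_univ] at this
    have h2 : ({1, ⟨a, ha⟩} : Set A).ncard ≤ 2 := (Set.ncard_insert_le _ _).trans (by simp)
    omega
  have hord : ∀ {c : G}, c ∈ A → c ≠ 1 → orderOf c = 2 := fun {c} hc hc1 =>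
    orderOf_eq_prime (hA2 c hc) hc1
  obtain ⟨g, hg⟩ := isConj_iff.1 (hall a (hord ha fun e => ha1 (Subtype.ext e)))
  refine ⟨g * b * g⁻¹, by rw [Invol.order_conj, hord hb fun e => hb1 (Subtype.ext e)], fun e => hba
    (Subtype.ext (conj_injective (e.trans hg.symm))), ?_⟩
  have hab : b * a = a * b := congrArg Subtype.val (hAc.is_comm.comm (⟨b, hb⟩ : A) ⟨a, ha⟩)
  rw [← hg, show g * b * g⁻¹ * (g * a * g⁻¹) = g * (b * a) * g⁻¹ by group, hab]
  group

variable {z : G} (hz : orderOf z = 2) (hodd : ¬ 2 ∣ ind z)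
include hz hodd

theorem exists_sylow_le : ∃ S : Sylow 2 G, (S : Subgroup G) ≤ cen z ∧ z ∈ (S : Subgroup G) := by
  haveI : Fact (Nat.Prime 2) := ⟨Nat.prime_two⟩
  obtain ⟨S₀, hS₀⟩ : ∃ S : Sylow 2 G, (S : Subgroup G) ≤ cen z := by
    obtain ⟨P⟩ : Nonempty (Sylow 2 (cen z)) := inferInstance
    obtain ⟨S, hS⟩ := (P.isPGroup'.map (cen z).subtype).exists_le_sylow
    refine ⟨S, le_of_eq_of_le (Subgroup.eq_of_le_of_card_ge hS ?_).symm (Subgroup.map_subtype_le _)⟩
    rw [Subgroup.card_subtype, S.card_eq_multiplicity, P.card_eq_multiplicity, ← card_mul_ind z,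
      Nat.factorization_mul Nat.card_pos.ne' (index_pos z).ne', Finsupp.add_apply,
      Nat.factorization_eq_zero_of_not_dvd hodd, add_zero]
  refine ⟨S₀, hS₀, ?_⟩
  have hzp : IsPGroup 2 (Subgroup.zpowers z) :=
    IsPGroup.of_card (n := 1) (by rw [Nat.card_zpowers, hz, pow_one])
  have hle : (S₀ : Subgroup G) ≤ Subgroup.normalizer (Subgroup.zpowers z : Set G) := fun s hs =>
    Subgroup.centralizer_le_normalizer _ (by
      rw [Subgroup.mem_centralizer_iff]
      rintro _ ⟨i, rfl⟩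
      exact ((show Commute s z from mem_cen.1 (hS₀ hs)).zpow_right i).symm.eq)
  have := S₀.is_maximal' (S₀.isPGroup'.to_sup_of_normal_right' hzp hle) le_sup_left
  exact this ▸ (le_sup_right : Subgroup.zpowers z ≤ _) (Subgroup.mem_zpowers z)

theorem cit_of_bot (hA : oddCen z = ⊥) : CNSimple.CIT G := by
  obtain ⟨S, -, hzS⟩ := h.exists_sylow_le hz hodd
  intro t ht
  obtain ⟨g, hg⟩ := Partition.exists_conj_mem_sylow ht S
  have hg' : orderOf (g⁻¹ * t * g) = 2 := by
    rw [show g⁻¹ * t * g = g⁻¹ * t * g⁻¹⁻¹ by group, Invol.order_conj, ht]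
  have hAt : oddCen (g⁻¹ * t * g) = ⊥ :=
    (h.oddCen_eq_of_pgroup S.isPGroup' hg' hz hg hzS).trans hA
  refine IsPGroup.of_card (Nat.eq_prime_pow_of_unique_prime_dvd Nat.card_pos.ne' fun {q} hq hqd => ?_)
  by_contra hne
  haveI := Fact.mk hq
  obtain ⟨⟨w, hw⟩, hwq⟩ := exists_prime_orderOf_dvd_card' (G := Subgroup.centralizer ({t} : Set G)) q hqd
  rw [Subgroup.orderOf_mk] at hwq
  have hmem : w ∈ oddCen t := (h.mem_oddCen ht).2 ⟨hw, hwq ▸ hq.odd_of_ne_two hne⟩
  have h2 := (h.conj_oddCen ht g⁻¹).2 hmem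
  rw [inv_inv, hAt, Subgroup.mem_bot] at h2
  exact ne_one_of_orderOf hq.ne_one hwq (conj_eq_one_iff.1 (by rwa [inv_inv] : g⁻¹ * w * g⁻¹⁻¹ = 1))

theorem se (hA : oddCen z ≠ ⊥) :
    Cfsg.IsStronglyEmbedded (Subgroup.normalizer (oddCen z : Set G)) ∧
      ∀ t ∈ Subgroup.normalizer (oddCen z : Set G), orderOf t = 2 → oddCen t = oddCen z := by
  haveI : Fact (Nat.Prime 2) := ⟨Nat.prime_two⟩
  haveI := h.rank.simple
  obtain ⟨S, hSz, hzS⟩ := h.exists_sylow_le hz hodd
  set H := Subgroup.normalizer (oddCen z : Set G)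
  have hSH : (S : Subgroup G) ≤ H := fun s hs => h.mem_normalizer_of_eq hz (by
    rw [mem_cen.1 (hSz hs), mul_inv_cancel_right])
  set T : Sylow 2 H := S.subtype hSH
  have hT : (T : Subgroup H).map H.subtype = S := by
    rw [Sylow.coe_subtype, Subgroup.subgroupOf_map_subtype, inf_eq_left.2 hSH]
  have hkey : ∀ t ∈ H, orderOf t = 2 → oddCen t = oddCen z := by
    intro t htH ht
    obtain ⟨g, hg⟩ := Partition.exists_conj_mem_sylow
      (u := (⟨t, htH⟩ : H)) (by rwa [Subgroup.orderOf_mk]) T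
    have hg' : ((g⁻¹ * ⟨t, htH⟩ * g : H) : G) ∈ (S : Subgroup G) := hT ▸ ⟨_, hg, rfl⟩
    have he : orderOf ((g : G)⁻¹ * t * g) = 2 := by
      rw [show (g : G)⁻¹ * t * g = (g : G)⁻¹ * t * (g : G)⁻¹⁻¹ by group, Invol.order_conj, ht]
    have h1 : oddCen ((g : G)⁻¹ * t * g) = oddCen z :=
      h.oddCen_eq_of_pgroup S.isPGroup' he hz (by simpa using hg') hzS
    ext w
    have h2 := h.conj_oddCen ht (g : G)⁻¹ (w := w)
    rw [inv_inv, h1] at h2
    rw [← h2]
    have h3 := Subgroup.mem_normalizer_iff.1 (inv_mem g.2) w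
    rw [inv_inv] at h3
    exact h3.symm
  refine ⟨Invol.se_of_centralizers ?_ T (Invol.even_of_invol_mem hz (hSH hzS)) ?_ ?_, hkey⟩
  · intro htop
    haveI := Subgroup.normalizer_eq_top_iff.1 htop
    rcases IsSimpleGroup.eq_bot_or_eq_top_of_normal (oddCen z) inferInstance with e | e
    · exact hA e
    · have := (h.mem_oddCen hz).1 (e ▸ Subgroup.mem_top z)
      rw [hz] at this
      exact Nat.not_odd_iff_even.2 even_two this.2
  · rw [hT]
    intro g hg
    refine h.mem_normalizer_of_eq hz (h.oddCen_eq_of_pgroup S.isPGroup' ?_ hz ?_ hzS)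
    · rw [Invol.order_conj, hz]
    · exact (Subgroup.mem_normalizer_iff.1 hg z).1 hzS
  · intro t htH ht g hg
    have he := hkey t htH ht
    rw [show H = Subgroup.normalizer (oddCen t : Set G) by rw [he]]
    exact h.mem_normalizer_of_eq ht (by
      rw [mem_cen.1 (show g ∈ cen t from hg), mul_inv_cancel_right])

end MaxCtx

/-- The same, with a strongly embedded normaliser at every involution. -/
structure MaxSE (G : Type u) [Group G] : Prop extends MaxCtx G where
  odd_ind : ∀ u : G, orderOf u = 2 → ¬ 2 ∣ ind u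
  ne_bot : ∀ u : G, orderOf u = 2 → oddCen u ≠ ⊥
  conj : ∀ u v : G, orderOf u = 2 → orderOf v = 2 → IsConj u v

/-- The normaliser of the odd part of the centraliser. -/
abbrev Hn (u : G) : Subgroup G := Subgroup.normalizer (oddCen u : Set G)

namespace MaxSE

variable (h : MaxSE G)
include h

theorem seH {u : G} (hu : orderOf u = 2) : Cfsg.IsStronglyEmbedded (Hn u) :=
  (h.toMaxCtx.se hu (h.odd_ind u hu) (h.ne_bot u hu)).1

theorem same {u t : G} (hu : orderOf u = 2) (ht : t ∈ Hn u) (hto : orderOf t = 2) :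
    oddCen t = oddCen u :=
  (h.toMaxCtx.se hu (h.odd_ind u hu) (h.ne_bot u hu)).2 t ht hto

theorem self_mem_Hn {u : G} (hu : orderOf u = 2) : u ∈ Hn u :=
  h.toMaxCtx.mem_normalizer_of_eq hu (by rw [mul_inv_cancel_right])

/-- A real element of odd order centralises no involution. -/
theorem real_not_comm {k g u : G} (hk : Odd (orderOf k)) (hk1 : k ≠ 1) (hinv : g * k * g⁻¹ = k⁻¹)
    (hu : orderOf u = 2) : k ∉ cen u := fun hc =>
  h.odd_ind u hu ((two_dvd_ind_of_real hk hk1 hinv).trans (ind_dvd (h.toMaxCtx.cen_le hu hc hk)))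

/-- Real elements commute with no element of coprime order in a centraliser of an involution. -/
theorem real_coprime {k g u w : G} (hk : Odd (orderOf k)) (hk1 : k ≠ 1) (hinv : g * k * g⁻¹ = k⁻¹)
    (hu : orderOf u = 2) (hw : w ∈ oddCen u) (hw1 : w ≠ 1) (hc : k ∈ cen w)
    (hco : (orderOf w).Coprime (orderOf k)) : False := by
  obtain ⟨h1, h2⟩ := ind_mul_dvd hc hco
  have h2' := (two_dvd_ind_of_real hk hk1 hinv).trans h2
  rcases h.toMaxCtx.odd_up hu hw hw1 (mul_ne_one_of_coprime hw1 hco) h1 with e | e <;> rw [e] at h2'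
  · exact h.odd_ind u hu (h2'.trans (ind_dvd (h.toMaxCtx.cen_le_of_mem hu hw)))
  · exact h.odd_ind u hu h2'

/-- A nontrivial `β` in some odd part whose centraliser has two involutions with product of odd order. -/
def Pair (G : Type u) [Group G] : Prop :=
  ∃ β v y : G, β ≠ 1 ∧ Odd (orderOf β) ∧ orderOf v = 2 ∧ orderOf y = 2 ∧ v ∈ cen β ∧ y ∈ cen β ∧
    v * y ≠ 1 ∧ Odd (orderOf (v * y))

theorem pair_of_real {k w u β : G} (hk : Odd (orderOf k)) (hk1 : k ≠ 1) (hw : orderOf w = 2)
    (hinv : w * k * w⁻¹ = k⁻¹) (hu : orderOf u = 2) (hβ : β ∈ oddCen u) (hβ1 : β ≠ 1)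
    (hc : β ∈ cen k) : Pair G := by
  have hww : w * w = 1 := Invol.mul_self hw
  have hwi : w⁻¹ = w := Invol.inv_self hw
  have hodd : Odd (Nat.card (cen k)) := by
    rw [← Nat.not_even_iff_odd]
    intro he
    obtain ⟨t, ht, hto⟩ := Invol.exists_invol he
    exact h.real_not_comm hk hk1 hinv hto (mem_symm ht)
  have hnorm : ∀ x ∈ cen k, w * x * w ∈ cen k := by
    intro x hx
    have h1 := conj_mem_cen hx w
    rw [hinv, cen_inv, hwi] at h1
    exact h1
  by_cases hfix : ∃ x ∈ cen k, x ≠ 1 ∧ w * x * w = x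
  · obtain ⟨x, hx, hx1, hxw⟩ := hfix
    have hxc : x ∈ cen w := mem_cen.2 (by
      calc x * w = w * x * w * w := by rw [hxw]
        _ = w * x := by rw [mul_assoc _ w w, hww, mul_one])
    have hxo : Odd (orderOf x) := hodd.of_dvd_nat (Subgroup.orderOf_dvd_natCard _ hx)
    have hsq : w * k * (w * k) = 1 := by
      rw [← mul_assoc, show w * k * w = k⁻¹ by rw [← hinv, hwi], inv_mul_cancel]
    refine ⟨x, w, w * k, hx1, hxo, hw, ?_, mem_symm hxc, mul_mem (mem_symm hxc) (mem_symm hx),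
      by rwa [← mul_assoc, hww, one_mul], by rwa [← mul_assoc, hww, one_mul]⟩
    refine orderOf_eq_prime (by rw [pow_two]; exact hsq) fun e => ?_
    rw [mul_eq_one_iff_eq_inv'] at e
    rw [e, orderOf_inv, hw] at hk
    exact Nat.not_odd_iff_even.2 even_two hk
  · exfalso
    push Not at hfix
    let f : cen k → cen k := fun x => x⁻¹ * ⟨w * x * w, hnorm x x.2⟩
    have hinj : Function.Injective f := by
      intro x y e
      have e' : (x : G)⁻¹ * (w * x * w) = (y : G)⁻¹ * (w * y * w) := congrArg Subtype.val e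
      have h1 : w * ((y : G) * (x : G)⁻¹) * w = (y : G) * (x : G)⁻¹ := by
        calc w * ((y : G) * (x : G)⁻¹) * w = (w * y * w) * (w * (x : G)⁻¹ * w) := by
              simp [mul_assoc, ← mul_assoc w w, hww]
          _ = (y : G) * ((y : G)⁻¹ * (w * y * w)) * (w * x * w)⁻¹ := by
              simp [mul_assoc, hwi]
          _ = (y : G) * (x : G)⁻¹ := by rw [← e']; group
      by_contra hne
      exact hfix _ (mul_mem y.2 (inv_mem x.2))
        (fun e => hne (Subtype.ext (mul_inv_eq_one.1 e).symm)) h1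
    obtain ⟨x, hx⟩ := Finite.surjective_of_injective hinj ⟨β, hc⟩
    have hx' : (x : G)⁻¹ * (w * x * w) = β := congrArg Subtype.val hx
    have hinvβ : w * β * w⁻¹ = β⁻¹ := by
      rw [← hx', hwi]
      simp [mul_assoc, hwi, hww]
    have hu' := (h.toMaxCtx.mem_oddCen hu).1 hβ
    exact h.real_not_comm hu'.2 hβ1 hinvβ hu hu'.1

theorem exists_pair : Pair G := by
  classical
  haveI := h.rank.simple
  by_contra hno
  -- centralisers of the odd part stay inside
  have hin : ∀ u β : G, orderOf u = 2 → β ∈ oddCen u → β ≠ 1 → cen β ≤ Hn u := by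
    intro u β hu hβ hβ1 g hg
    by_contra hgH
    have huc : u ∈ cen β := h.toMaxCtx.cen_le_of_mem hu hβ (self_mem u)
    have hy : orderOf (g * u * g⁻¹) = 2 := by rw [Invol.order_conj, hu]
    have hyH : g * u * g⁻¹ ∉ Hn u := fun e =>
      hgH (Invol.se_mem_of_conj (h.seH hu) hu (h.self_mem_Hn hu) e)
    refine hno ⟨β, u, g * u * g⁻¹, hβ1, ((h.toMaxCtx.mem_oddCen hu).1 hβ).2, hu, hy, huc,
      mul_mem (mul_mem hg huc) (inv_mem hg), fun e => hyH ?_,
      Invol.se_odd_of_not_mem (h.seH hu) hu (h.self_mem_Hn hu) hy hyH⟩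
    rw [← eq_inv_of_mul_eq_one_right e |>.symm, Invol.inv_self hu]
    exact h.self_mem_Hn hu
  -- the odd part fixes one point only
  have hsemi : ∀ u w β : G, orderOf u = 2 → orderOf w = 2 → w ∉ Hn u → β ∈ oddCen u → β ≠ 1 →
      w * β * w⁻¹ ∉ Hn u := by
    intro u w β hu hw hwH hβ hβ1 hb
    set b := w * β * w⁻¹ with hbdef
    have hwi : w⁻¹ = w := Invol.inv_self hw
    have hww : w * w = 1 := Invol.mul_self hw
    have hwb : w * b * w⁻¹ = β := by simp [hbdef, mul_assoc, hwi, ← mul_assoc w w, hww]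
    have hcA : β * b * β⁻¹ * b⁻¹ ∈ oddCen u := by
      rw [show β * b * β⁻¹ * b⁻¹ = β * (b * β⁻¹ * b⁻¹) by group]
      exact mul_mem hβ ((Subgroup.mem_normalizer_iff.1 hb _).1 (inv_mem hβ))
    have hwc : w * (β * b * β⁻¹ * b⁻¹) * w⁻¹ = (β * b * β⁻¹ * b⁻¹)⁻¹ := by
      calc w * (β * b * β⁻¹ * b⁻¹) * w⁻¹
          = (w * β * w⁻¹) * (w * b * w⁻¹) * (w * β * w⁻¹)⁻¹ * (w * b * w⁻¹)⁻¹ := by group
        _ = b * β * b⁻¹ * β⁻¹ := by rw [hwb, ← hbdef]
        _ = _ := by group
    have hwu : orderOf (w * u * w⁻¹) = 2 := by rw [Invol.order_conj, hu]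
    have hwuH : w * u * w⁻¹ ∉ Hn u := fun e =>
      hwH (Invol.se_mem_of_conj (h.seH hu) hu (h.self_mem_Hn hu) e)
    set c := β * b * β⁻¹ * b⁻¹
    by_cases hc1 : c = 1
    · have hcb : Commute β b := by
        show β * b = b * β
        rwa [mul_inv_eq_one, mul_inv_eq_iff_eq_mul] at hc1
      have hβo := ((h.toMaxCtx.mem_oddCen hu).1 hβ).2
      have hbo : Odd (orderOf b) := by rwa [hbdef, Invol.order_conj]
      have hk : Odd (orderOf (β⁻¹ * b)) := ((show Odd (orderOf β⁻¹) by rwa [orderOf_inv]).mul hbo).of_dvd_nat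
        hcb.inv_left.orderOf_mul_dvd_mul_orderOf
      have hk1 : β⁻¹ * b ≠ 1 := fun e => hwH (hin u β hu hβ hβ1 (mem_cen.2 (by
        rw [inv_mul_eq_one] at e
        calc w * β = w * β * w⁻¹ * w := by group
          _ = β * w := by rw [← hbdef, ← e])))
      refine hno (h.pair_of_real hk hk1 hw ?_ hu hβ hβ1 (mem_cen.2 ?_))
      · calc w * (β⁻¹ * b) * w⁻¹ = (w * β * w⁻¹)⁻¹ * (w * b * w⁻¹) := by group
          _ = (β⁻¹ * b)⁻¹ := by rw [hwb, ← hbdef]; group
      · exact ((Commute.refl β).inv_right.mul_right hcb).eq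
    · refine hwuH (hin u c hu hcA hc1 ?_)
      have h1 : u ∈ cen (w * c * w⁻¹) := h.toMaxCtx.cen_le_of_mem hu (hwc ▸ inv_mem hcA) (self_mem u)
      have h2 := conj_mem_cen h1 w
      rwa [show w * (w * c * w⁻¹) * w⁻¹ = c by simp [mul_assoc, hwi, ← mul_assoc w w, hww]] at h2
  -- the centraliser of the odd part is that of the involution
  have heq : ∀ u β : G, orderOf u = 2 → β ∈ oddCen u → β ≠ 1 → cen β = cen u := by
    intro u β hu hβ hβ1
    set H := Hn u
    have hH := h.seH hu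
    have huH := h.self_mem_Hn hu
    obtain ⟨g₀, hg₀⟩ : ∃ g : G, g ∉ H := by
      by_contra! hcon
      exact hH.1 (eq_top_iff.2 fun x _ => hcon x)
    set w := g₀ * u * g₀⁻¹
    have hw : orderOf w = 2 := by rw [Invol.order_conj, hu]
    have hwH : w ∉ H := fun e => hg₀ (Invol.se_mem_of_conj hH hu huH e)
    have hwi : w⁻¹ = w := Invol.inv_self hw
    have hww : w * w = 1 := Invol.mul_self hw
    set D := H ⊓ H.map (MulAut.conj w).toMonoidHom
    have hDodd : Odd (Nat.card D) := hH.2.2 w hwH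
    have hfree : ∀ d ∈ D, d ∈ cen u → d = 1 := by
      intro d hd hdu
      by_contra hd1
      have hdA : d ∈ oddCen u := (h.toMaxCtx.mem_oddCen hu).2
        ⟨hdu, hDodd.of_dvd_nat (Subgroup.orderOf_dvd_natCard _ hd)⟩
      refine hsemi u w d hu hw hwH hdA hd1 ?_
      have := Invol.mem_conj_map.1 hd.2
      rwa [hwi] at this ⊢
    have hxy : ((1 : G) : G ⧸ H) ≠ (w : G ⧸ H) := by
      rw [Ne, QuotientGroup.eq, inv_one, one_mul]; exact hwH
    let f : Invol.SwapInv ((1 : G) : G ⧸ H) (w : G ⧸ H) → D := fun s => ⟨w * s.1, by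
      have h1 : w * s.1 ∈ H := by
        have := s.2.2
        rw [MulAction.Quotient.smul_coe, smul_eq_mul, mul_one, QuotientGroup.eq,
          Invol.inv_self s.2.1] at this
        have h2 := inv_mem this
        rwa [mul_inv_rev, Invol.inv_self s.2.1, hwi] at h2
      refine ⟨h1, Invol.mem_conj_map.2 ?_⟩
      rw [show w⁻¹ * (w * s.1) * w = s.1 * w by group]
      have := inv_mem h1
      rwa [mul_inv_rev, Invol.inv_self s.2.1, hwi] at this⟩
    let i : D → {t : G // orderOf t = 2 ∧ t ∈ H} := fun d => ⟨d * u * (d : G)⁻¹,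
      by rw [Invol.order_conj, hu], mul_mem (mul_mem d.2.1 huH) (inv_mem d.2.1)⟩
    have hii : Function.Injective i := by
      intro d d' e
      have e' : (d : G) * u * (d : G)⁻¹ = d' * u * (d' : G)⁻¹ := congrArg Subtype.val e
      have : (d' : G)⁻¹ * d ∈ cen u := mem_cen.2 (by
        calc (d' : G)⁻¹ * d * u = (d' : G)⁻¹ * (d * u * (d : G)⁻¹) * d := by group
          _ = u * ((d' : G)⁻¹ * d) := by rw [e']; group)
      exact Subtype.ext (inv_mul_eq_one.1 (hfree _ (mul_mem (inv_mem d'.2) d.2) this)).symm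
    have hfi : Function.Injective f := fun s s' e =>
      Subtype.ext (mul_left_cancel (congrArg Subtype.val e :))
    have hfs : Function.Surjective f := (hfi.bijective_of_nat_card_le (by
      rw [Invol.card_swapInv hH hxy]
      exact Nat.card_le_card_of_injective i hii)).2
    refine le_antisymm (fun g hg => ?_) (h.toMaxCtx.cen_le_of_mem hu hβ)
    have hgH := hin u β hu hβ hβ1 hg
    obtain ⟨d, hd, hde⟩ := (S1225.result H hH w hw hwH u (g * u * g⁻¹) hu huH
      (by rw [Invol.order_conj, hu]) (mul_mem (mul_mem hgH huH) (inv_mem hgH))).1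
    have hdg : d⁻¹ * g ∈ cen u := mem_cen.2 (by
      calc d⁻¹ * g * u = d⁻¹ * (g * u * g⁻¹) * g := by group
        _ = u * (d⁻¹ * g) := by rw [← hde]; group)
    have hdβ : d ∈ cen β := by
      have h1 := mul_mem hg (inv_mem (h.toMaxCtx.cen_le_of_mem hu hβ hdg))
      rwa [show g * (d⁻¹ * g)⁻¹ = d by group] at h1
    suffices hd1 : d = 1 by
      rw [hd1, inv_one, one_mul] at hdg
      exact hdg
    by_contra hd1
    obtain ⟨s, hs⟩ := hfs ⟨d, hd⟩
    have hs' : w * s.1 = d := congrArg Subtype.val hs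
    refine hno (h.pair_of_real (hDodd.of_dvd_nat (Subgroup.orderOf_dvd_natCard _ hd)) hd1 hw ?_ hu hβ
      hβ1 (mem_symm hdβ))
    rw [← hs', mul_inv_rev w s.1, Invol.inv_self s.2.1, hwi, ← mul_assoc w w, hww, one_mul]
  -- an element of minimal size
  obtain ⟨u, hu⟩ : ∃ u : G, orderOf u = 2 := by
    haveI : Fact (Nat.Prime 2) := ⟨Nat.prime_two⟩
    by_contra hcon
    push Not at hcon
    have hG : Odd (Nat.card G) := Nat.not_even_iff_odd.1 fun he => by
      obtain ⟨t, ht⟩ := exists_prime_orderOf_dvd_card' (G := G) 2 he.two_dvd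
      exact hcon t ht
    obtain ⟨a, b, hab⟩ := h.rank.nonab
    exact hab (IsSimpleGroup.comm_iff_isSolvable.2 (OddChar.oddSolvable G hG) a b)
  obtain ⟨x, hxp, hxmin, hxd⟩ := h.rank.exists_prime_min (ne_one_of_orderOf (by norm_num) hu)
  have hne : ind x ≠ ind u := fun e => h.max u hu (e ▸ hxmin)
  have hx2 : orderOf x ≠ 2 := fun e => h.max x e hxmin
  have hev : Even (Nat.card (cen x)) := by
    rw [← Nat.not_odd_iff_even]
    intro ho
    have h1 := card_mul_ind x
    have h2G : 2 ∣ Nat.card G := hu ▸ orderOf_dvd_natCard u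
    rw [← h1] at h2G
    rcases Nat.prime_two.dvd_mul.1 h2G with h2 | h2
    · exact Nat.not_even_iff_odd.2 ho (even_iff_two_dvd.2 h2)
    · exact h.odd_ind u hu (h2.trans hxd)
  obtain ⟨v, hvc, hv⟩ := Invol.exists_invol hev
  have hxv : x ∈ oddCen v := (h.toMaxCtx.mem_oddCen hv).2 ⟨mem_symm hvc, hxp.odd_of_ne_two hx2⟩
  refine h.max v hv ?_
  rw [ind, ← heq v x hv hxv (ne_one_of_orderOf hxp.ne_one rfl)]
  exact hxmin

omit h in
theorem pair_prime (hp : Pair G) : ∃ (β v y : G) (r : ℕ), r.Prime ∧ r ≠ 2 ∧ orderOf β = r ∧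
    orderOf v = 2 ∧ orderOf y = 2 ∧ v ∈ cen β ∧ y ∈ cen β ∧ v * y ≠ 1 ∧ Odd (orderOf (v * y)) := by
  obtain ⟨β, v, y, hβ, hodd, hv, hy, hvc, hyc, hne, ho⟩ := hp
  obtain ⟨r, m, hr, hrd, hrm⟩ := exists_prime_pow hβ
  refine ⟨β ^ m, v, y, r, hr, fun e => ?_, hrm, hv, hy, le_cen_pow β m hvc, le_cen_pow β m hyc, hne, ho⟩
  exact Nat.not_odd_iff_even.2 even_two (e ▸ hodd.of_dvd_nat hrd)

theorem false_of_maxSE : False := by
  classical
  haveI : Fact (Nat.Prime 2) := ⟨Nat.prime_two⟩
  haveI := h.rank.simple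
  obtain ⟨β, v, y, r, hr, hr2, hβ, hv, hy, hvc, hyc, hk1, hk⟩ := pair_prime (h.exists_pair)
  haveI := Fact.mk hr
  have hβ1 : β ≠ 1 := ne_one_of_orderOf hr.ne_one hβ
  have hβo : Odd (orderOf β) := hβ ▸ hr.odd_of_ne_two hr2
  set L := cen β
  have hA : ∀ {t : G}, orderOf t = 2 → t ∈ L → β ∈ oddCen t := fun {t} ht htL =>
    (h.toMaxCtx.mem_oddCen ht).2 ⟨mem_symm htL, hβo⟩
  have hCL : ∀ {t : G}, orderOf t = 2 → t ∈ L → cen t ≤ L := fun {t} ht htL =>
    h.toMaxCtx.cen_le_of_mem ht (hA ht htL)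
  have hvy : v * (v * y) * v⁻¹ = (v * y)⁻¹ := by
    rw [mul_inv_rev, Invol.inv_self hv, Invol.inv_self hy, ← mul_assoc v v, Invol.mul_self hv, one_mul]
  -- a real element of prime order `r`
  obtain ⟨q, j, hq, hqd, hqj⟩ := exists_prime_pow hk1
  have hq2 : q ≠ 2 := fun e => Nat.not_odd_iff_even.2 even_two (e ▸ hk.of_dvd_nat hqd)
  set k := (v * y) ^ j
  have hko : Odd (orderOf k) := hqj ▸ hq.odd_of_ne_two hq2
  have hk' : k ≠ 1 := ne_one_of_orderOf hq.ne_one hqj
  have hkinv : v * k * v⁻¹ = k⁻¹ := by rw [← conj_pow, hvy, inv_pow]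
  have hkL : k ∈ L := pow_mem (mul_mem hvc hyc) j
  have hqr : q = r := by
    by_contra hne
    exact h.real_coprime hko hk' hkinv hv (hA hv hvc) hβ1 hkL
      (by rw [hqj, hβ]; exact (Nat.coprime_primes hr hq).2 (Ne.symm hne))
  subst hqr
  have hsame : ∀ {t : G}, orderOf t = 2 → Nat.card (cen t) = Nat.card (cen v) := fun {t} ht => by
    obtain ⟨g, rfl⟩ := isConj_iff.1 (h.conj v t hv ht)
    rw [cen_conj]
    exact Subgroup.card_map_of_injective (MulAut.conj g).injective
  have hCv : cen v ≤ L := hCL hv hvc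
  -- the centraliser of `v` has index a power of `q` in that of `β`
  have hidx : ∀ s : ℕ, s.Prime → s ≠ q → ¬ s ∣ ((cen v).subgroupOf L).index := by
    intro s hs hsq hd
    haveI := Fact.mk hs
    by_cases hs2 : s = 2
    · subst hs2
      exact h.odd_ind v hv (hd.trans (Subgroup.relIndex_dvd_index_of_le hCv))
    obtain ⟨P⟩ : Nonempty (Sylow s L) := inferInstance
    have hcard := ((cen v).subgroupOf L).card_mul_index
    rw [Nat.card_congr (Subgroup.subgroupOfEquivOfLe hCv).toEquiv] at hcard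
    have hsL : s ∣ Nat.card L := hd.trans ⟨_, hcard.symm.trans (mul_comm _ _)⟩
    haveI : Nontrivial P := (Subgroup.nontrivial_iff_ne_bot _).2 (P.ne_bot_of_dvd_card hsL)
    haveI := P.isPGroup'.center_nontrivial
    obtain ⟨c0, hc0⟩ := exists_ne (1 : Subgroup.center (P : Subgroup L))
    set c : G := (((c0 : (P : Subgroup L)) : L) : G)
    have hc1 : c ≠ 1 := fun e => hc0 (Subtype.ext (Subtype.ext (Subtype.ext e)))
    obtain ⟨i, hi⟩ := IsPGroup.iff_orderOf.1 P.isPGroup' (c0 : (P : Subgroup L))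
    have hco : orderOf c = s ^ i := by
      rw [Subgroup.orderOf_coe, Subgroup.orderOf_coe]; exact hi
    have hcL : c ∈ L := ((c0 : (P : Subgroup L)) : L).2
    have hcop : (orderOf β).Coprime (orderOf c) := by
      rw [hβ, hco]
      exact ((Nat.coprime_primes hr hs).2 (Ne.symm hsq)).pow_right i
    set g := β * c
    have hg1 : g ≠ 1 := mul_ne_one_of_coprime hβ1 hcop
    have hdg := (ind_mul_dvd hcL hcop).1
    have hup := h.toMaxCtx.odd_up hv (hA hv hvc) hβ1 hg1 hdg
    have hgodd : ¬ 2 ∣ ind g := by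
      intro h2
      rcases hup with e | e <;> rw [e] at h2
      · exact h.odd_ind v hv (h2.trans (ind_dvd hCv))
      · exact h.odd_ind v hv h2
    have hev : Even (Nat.card (cen g)) := by
      rw [← Nat.not_odd_iff_even]
      intro ho
      have h2G : 2 ∣ Nat.card G := hv ▸ orderOf_dvd_natCard v
      rw [← card_mul_ind g] at h2G
      rcases Nat.prime_two.dvd_mul.1 h2G with h2 | h2
      · exact Nat.not_even_iff_odd.2 ho (even_iff_two_dvd.2 h2)
      · exact hgodd h2
    obtain ⟨t, htg, ht⟩ := Invol.exists_invol hev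
    have hcg := cen_mul hcL hcop
    rw [hcg] at htg
    have hso : Odd (orderOf c) := by rw [hco]; exact (hs.odd_of_ne_two hs2).pow
    have hct : c ∈ oddCen t := (h.toMaxCtx.mem_oddCen ht).2 ⟨mem_symm htg.2, hso⟩
    have hPc : (P : Subgroup L).map L.subtype ≤ cen g := by
      rw [hcg]
      rintro _ ⟨p, hp, rfl⟩
      refine ⟨p.2, mem_cen.2 ?_⟩
      exact congrArg (fun a : (P : Subgroup L) => ((a : L) : G)) (Subgroup.mem_center_iff.1 c0.2 ⟨p, hp⟩)
    rcases hup with e | e
    · -- `c` would centralise the real element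
      have hle := cen_le_of_ind_mul hcL hcop e
      exact h.real_coprime hko hk' hkinv ht hct hc1 (hle hkL)
        (by rw [hco, hqj]; exact ((Nat.coprime_primes hs hq).2 hsq).pow_left i)
    · have h1 := card_mul_ind g
      rw [e, ← card_mul_ind v] at h1
      have hgv : Nat.card (cen g) = Nat.card (cen v) := Nat.eq_of_mul_eq_mul_right (index_pos v) h1
      have hPd : Nat.card P ∣ Nat.card (cen v) := by
        rw [← hgv, ← Subgroup.card_subtype L (P : Subgroup L)]
        exact Subgroup.card_dvd_of_le hPc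
      rw [P.card_eq_multiplicity] at hPd
      refine Nat.pow_succ_factorization_not_dvd (Nat.card_pos (α := L)).ne' hs ?_
      rw [pow_succ]
      exact (Nat.mul_dvd_mul hPd hd).trans hcard.dvd
  haveI : Group.IsNilpotent (cen v) := h.toMaxCtx.nilpotent hv
  haveI hCn : Group.IsNilpotent ((cen v).subgroupOf L) :=
    Group.nilpotent_of_mulEquiv (Subgroup.subgroupOfEquivOfLe hCv).symm
  obtain ⟨R⟩ : Nonempty (Sylow q L) := inferInstance
  haveI hLs : Group.IsSolvable L := by
    refine KegelWielandt.product_solvable hCn R.isPGroup'.isNilpotent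
      (HallSolv.exists_mul_of_coprime_index (Nat.coprime_of_dvd fun s hs h1 h2 => ?_))
    by_cases hsq : s = q
    · subst hsq
      exact R.not_dvd_index h2
    · exact hidx s hs hsq h1
  -- the hypotheses of the core lemma
  have hfour : ∀ {K : Subgroup G}, (∀ {t : G}, orderOf t = 2 → t ∈ K → cen t ≤ K) → ∀ x : K,
      orderOf x = 2 → ∃ y : K, orderOf y = 2 ∧ y ≠ x ∧ y * x = x * y := by
    intro K hK x hx
    have hxo : orderOf (x : G) = 2 := by rwa [Subgroup.orderOf_coe]
    obtain ⟨y, hy, hne, hc⟩ := h.toMaxCtx.four (x := (x : G)) fun a ha => h.conj a x ha hxo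
    exact ⟨⟨y, hK hxo x.2 (mem_cen.2 hc)⟩, by rwa [Subgroup.orderOf_mk],
      fun e => hne (congrArg Subtype.val e), Subtype.ext hc⟩
  have hoddK : ∀ {K : Subgroup G} (x e w : K), orderOf x = 2 → orderOf e = 2 → e * x = x * e →
      Odd (orderOf w) → w * e = e * w → w * x = x * w := by
    intro K x e w hx he hex hw hwe
    refine Subtype.ext (mem_cen.1 (mem_symm (h.toMaxCtx.cen_le (u := (e : G)) ?_ ?_ ?_ ?_) :
      (w : G) ∈ cen (x : G)))
    · rwa [Subgroup.orderOf_coe]
    · exact mem_cen.2 (congrArg Subtype.val hwe)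
    · rwa [Subgroup.orderOf_coe]
    · exact mem_cen.2 (congrArg Subtype.val hex).symm
  -- the centraliser of `β` lies in one strongly embedded subgroup
  set X : Set L := {x | orderOf x = 2}
  haveI : (Subgroup.closure X).Normal := by
    refine ⟨fun n hn g => ?_⟩
    induction hn using Subgroup.closure_induction with
    | mem b hb => exact Subgroup.subset_closure ((Invol.order_conj g b).trans hb : orderOf (g * b * g⁻¹) = 2)
    | one => rw [mul_one, mul_inv_cancel]; exact one_mem _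
    | mul b d _ _ h1 h2 => rw [show g * (b * d) * g⁻¹ = g * b * g⁻¹ * (g * d * g⁻¹) by group]; exact mul_mem h1 h2
    | inv b _ h1 => rw [show g * b⁻¹ * g⁻¹ = (g * b * g⁻¹)⁻¹ by group]; exact inv_mem h1
  obtain ⟨z, -, hzT, hzo⟩ := exists_invol_pCore (Subgroup.closure X) inferInstance X rfl (fun _ hx => hx)
    ⟨⟨v, hvc⟩, show orderOf _ = 2 by rwa [Subgroup.orderOf_mk]⟩ (hfour hCL) hoddK
  have hzG : orderOf (z : G) = 2 := by rwa [Subgroup.orderOf_coe]
  set H := Hn (z : G)
  have hLH : L ≤ H := by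
    intro g hg
    refine h.toMaxCtx.mem_normalizer_of_eq hzG (h.toMaxCtx.oddCen_eq_of_pgroup
      ((FittingCores.pCore_isPGroup (G := L) 2).map L.subtype) ?_ hzG ?_ ⟨z, hzT, rfl⟩)
    · rw [Invol.order_conj, hzG]
    · exact ⟨⟨g, hg⟩ * z * ⟨g, hg⟩⁻¹, (FittingCores.pCore_normal 2).conj_mem z hzT _, rfl⟩
  -- all involutions of `H` centralise `β`
  have hIL : ∀ {t : G}, orderOf t = 2 → t ∈ H → t ∈ L := fun {t} ht htH =>
    mem_symm ((h.toMaxCtx.mem_oddCen ht).1 ((h.same hzG htH ht).symm ▸ hA hzG z.2)).1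
  set Y : Set H := {x | orderOf x = 2}
  haveI : (Subgroup.closure Y).Normal := by
    refine ⟨fun n hn g => ?_⟩
    induction hn using Subgroup.closure_induction with
    | mem b hb => exact Subgroup.subset_closure ((Invol.order_conj g b).trans hb : orderOf (g * b * g⁻¹) = 2)
    | one => rw [mul_one, mul_inv_cancel]; exact one_mem _
    | mul b d _ _ h1 h2 => rw [show g * (b * d) * g⁻¹ = g * b * g⁻¹ * (g * d * g⁻¹) by group]; exact mul_mem h1 h2
    | inv b _ h1 => rw [show g * b⁻¹ * g⁻¹ = (g * b * g⁻¹)⁻¹ by group]; exact inv_mem h1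
  have hYL : Subgroup.closure Y ≤ L.subgroupOf H := (Subgroup.closure_le _).2 fun t ht =>
    hIL ((Subgroup.orderOf_coe t).trans ht : orderOf (t : G) = 2) t.2
  haveI : Group.IsSolvable (L.subgroupOf H) :=
    Group.isSolvable_of_isSolvable_injective (f := (Subgroup.subgroupOfEquivOfLe hLH).toMonoidHom)
      (Subgroup.subgroupOfEquivOfLe hLH).injective
  have hHc : ∀ {t : G}, orderOf t = 2 → t ∈ H → cen t ≤ H := fun {t} ht htH =>
    Invol.se_centralizer_le (h.seH hzG) ht htH
  obtain ⟨z₁, -, hz₁T, hz₁⟩ := exists_invol_pCore (Subgroup.closure Y)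
    (Group.isSolvable_of_isSolvable_injective (f := Subgroup.inclusion hYL) (Subgroup.inclusion_injective _))
    Y rfl (fun _ hx => hx) ⟨⟨v, hLH hvc⟩, show orderOf _ = 2 by rwa [Subgroup.orderOf_mk]⟩
    (hfour hHc) hoddK
  -- all involutions of `H` lie in its `2`-core
  obtain ⟨g₀, hg₀⟩ : ∃ g : G, g ∉ H := by
    by_contra! hcon
    exact (h.seH hzG).1 (eq_top_iff.2 fun x _ => hcon x)
  have hz₁G : orderOf (z₁ : G) = 2 := by rwa [Subgroup.orderOf_coe]
  have hu : orderOf (g₀ * (z : G) * g₀⁻¹) = 2 := by rw [Invol.order_conj, hzG]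
  have huH : g₀ * (z : G) * g₀⁻¹ ∉ H := fun e =>
    hg₀ (Invol.se_mem_of_conj (h.seH hzG) hzG (h.self_mem_Hn hzG) e)
  have hall : ∀ t ∈ L, orderOf t = 2 → t ∈ (Cfsg.pCore 2 H).map H.subtype := by
    intro t htL ht
    obtain ⟨d, hd, rfl⟩ := (S1225.result H (h.seH hzG) _ hu huH (z₁ : G) t hz₁G z₁.2 ht (hLH htL)).1
    exact ⟨⟨d, hd.1⟩ * z₁ * ⟨d, hd.1⟩⁻¹, (FittingCores.pCore_normal 2).conj_mem z₁ hz₁T _, rfl⟩
  obtain ⟨i, hi⟩ := IsPGroup.iff_orderOf.1 ((FittingCores.pCore_isPGroup (G := H) 2).map H.subtype)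
    ⟨v * y, mul_mem (hall v hvc hv) (hall y hyc hy)⟩
  rw [Subgroup.orderOf_mk] at hi
  rw [hi] at hk
  rcases Nat.eq_zero_or_pos i with rfl | hi0
  · exact hk1 (orderOf_eq_one_iff.1 (by rw [hi, pow_zero]))
  · exact Nat.not_odd_iff_even.2 (Nat.even_pow.2 ⟨even_two, hi0.ne'⟩) hk

end MaxSE

/-- If no involution has a minimal class size, all centralisers of involutions are `2`-groups. -/
theorem max_case (h : Rank G) (hup : UpOne G) (hmax : ∀ u : G, orderOf u = 2 → ¬ IsMin G (ind u)) :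
    IsPSLOdd G := by
  classical
  haveI : Fact (Nat.Prime 2) := ⟨Nat.prime_two⟩
  haveI := h.simple
  refine of_list h.nonab h.four (Or.inr ?_)
  have hm : MaxCtx G := ⟨h, hup, hmax⟩
  have h2G : 2 ∣ Nat.card G := by
    by_contra hnd
    obtain ⟨a, b, hab⟩ := h.nonab
    exact hab (IsSimpleGroup.comm_iff_isSolvable.2
      (OddChar.oddSolvable G (Nat.not_even_iff_odd.1 fun he => hnd he.two_dvd)) a b)
  -- an involution of odd class size
  obtain ⟨w, hw1, hwd, i, hwi⟩ := exists_not_dvd h.center Nat.prime_two h2G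
  obtain ⟨p, m, hp, hpd, hpm⟩ := exists_prime_pow hw1
  have hp2 : p = 2 := (Nat.prime_dvd_prime_iff_eq hp Nat.prime_two).1 (hp.dvd_of_dvd_pow (hwi ▸ hpd))
  subst hp2
  have hodd : ¬ 2 ∣ ind (w ^ m) := fun hd => hwd (hd.trans (ind_dvd (le_cen_pow w m)))
  by_cases hA : oddCen (w ^ m) = ⊥
  · exact hm.cit_of_bot hpm hodd hA
  exfalso
  have hse := (hm.se hpm hodd hA).1
  refine MaxSE.false_of_maxSE (G := G) ⟨hm, fun u hu => ?_, fun u hu => ?_,
    fun u v hu hv => Invol.se_isConj hse hu hv⟩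
  · obtain ⟨g, rfl⟩ := isConj_iff.1 (Invol.se_isConj hse hpm hu)
    rwa [ind_conj]
  · obtain ⟨g, rfl⟩ := isConj_iff.1 (Invol.se_isConj hse hpm hu)
    intro e
    refine hA ((Subgroup.eq_bot_iff_forall _).2 fun a ha => ?_)
    have := (hm.conj_oddCen hpm g).2 ha
    rw [e, Subgroup.mem_bot] at this
    exact conj_eq_one_iff.1 this

end Cfsg.Agent.ConjRankFour
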