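import Cfsg.Agent.Lib.ConjRankFour.Free
import Cfsg.Agent.Lib.ConjRankFour.Groups
import Cfsg.Agent.Lib.ConjRankFour.ElemCase
import Cfsg.Agent.Lib.DGroup.Axes
import Cfsg.Agent.Lib.Solvable.Structure
import Cfsg.Agent.Lib.TIInv.Affine
import Cfsg.Agent.S0111

/-!
# An involution of minimal class size
-/

set_option autoImplicit false
set_option linter.style.haveILetI false
set_option linter.unusedSectionVars false

namespace Cfsg.Agent.ConjRankFour

open Cfsg.Agent.ConjRankThree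

universe u

variable {G : Type u} [Group G] [Finite G]

theorem Rank.of_listed (h : Rank G) (hL : Listed G) : IsPSLOdd G :=
  haveI := h.simple
  of_list h.nonab h.four hL

theorem Rank.free_invol (h : Rank G) {v : G} (hv : orderOf v = 2) (hmin : IsMin G (ind v))
    (hmax : IsMax G (ind v)) :
    ((∀ x ∈ cen v, ∀ y ∈ cen v, x * y = y * x) ∧ Listed G) ∨ IsPGroup 2 (cen v) := by
  rcases h.free_cases (ne_one_of_orderOf (by norm_num) hv) hmin hmax with ⟨hc, he⟩ | ⟨r, hr, hp⟩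
  · refine Or.inl ⟨hc, h.listed_of_nilpotent ?_ (hv ▸ Subgroup.orderOf_dvd_natCard _ (self_mem v))
      fun k hk hk1 => (he k hk hk1).le⟩
    letI : CommGroup (cen v) :=
      { (inferInstance : Group (cen v)) with mul_comm := fun x y => Subtype.ext (hc x x.2 y y.2) }
    exact CommGroup.isNilpotent
  · haveI := Fact.mk hr
    obtain ⟨k, hk⟩ := hp ⟨v, self_mem v⟩
    have hr2 : r = 2 := ((Nat.prime_dvd_prime_iff_eq Nat.prime_two hr).1
      (Nat.prime_two.dvd_of_dvd_pow (hv ▸ orderOf_dvd_of_pow_eq_one (congrArg Subtype.val hk)))).symm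
    exact Or.inr (hr2 ▸ hp)

/-- A central involution of minimal size. -/
theorem exists_min_central (h : Rank G) (hup : UpOne G) {v : G} (hv : orderOf v = 2)
    (hmin : IsMin G (ind v)) :
    Listed G ∨ ∃ (t : G) (S : Sylow 2 G), orderOf t = 2 ∧ IsMin G (ind t) ∧ (S : Subgroup G) ≤ cen t := by
  haveI : Fact (Nat.Prime 2) := ⟨Nat.prime_two⟩
  have hv1 := ne_one_of_orderOf (by norm_num) hv
  by_cases ha : 2 ∣ ind v
  swap
  · obtain ⟨P⟩ : Nonempty (Sylow 2 (cen v)) := inferInstance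
    obtain ⟨S, hS⟩ := (P.isPGroup'.map (cen v).subtype).exists_le_sylow
    refine Or.inr ⟨v, S, hv, hmin, (Subgroup.eq_of_le_of_card_ge hS (le_of_eq ?_)).ge.trans
      (Subgroup.map_subtype_le _)⟩
    rw [Subgroup.card_subtype, S.card_eq_multiplicity, P.card_eq_multiplicity, ← card_mul_ind v,
      Nat.factorization_mul Nat.card_pos.ne' (index_pos v).ne', Finsupp.add_apply,
      Nat.factorization_eq_zero_of_not_dvd ha, add_zero]
  obtain ⟨S⟩ : Nonempty (Sylow 2 G) := inferInstance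
  have hGeven : 2 ∣ Nat.card G := hv ▸ orderOf_dvd_natCard v
  haveI : Nontrivial (S : Subgroup G) := (Subgroup.nontrivial_iff_ne_bot _).2 (S.ne_bot_of_dvd_card hGeven)
  haveI := S.isPGroup'.center_nontrivial
  obtain ⟨⟨t0, ht0⟩, ht0o⟩ : ∃ z : Subgroup.center (S : Subgroup G), orderOf z = 2 := by
    refine exists_prime_orderOf_dvd_card' 2 ?_
    obtain ⟨n, hn⟩ := (S.isPGroup'.to_subgroup (Subgroup.center (S : Subgroup G))).exists_card_eq
    rw [hn]
    refine dvd_pow_self 2 fun h0 => ?_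
    rw [h0, pow_zero] at hn
    exact (Finite.one_lt_card (α := Subgroup.center (S : Subgroup G))).ne' hn
  set t : G := (t0 : G)
  have ht : orderOf t = 2 := by
    rw [← ht0o, ← Subgroup.orderOf_coe, ← Subgroup.orderOf_coe]
  have hSt : (S : Subgroup G) ≤ cen t := fun s hs =>
    mem_cen.2 (congrArg Subtype.val (Subgroup.mem_center_iff.1 ht0 ⟨s, hs⟩))
  have ht1 := ne_one_of_orderOf (by norm_num) ht
  by_cases htm : IsMin G (ind t)
  · exact Or.inr ⟨t, S, ht, htm, hSt⟩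
  have hodd : ¬ 2 ∣ ind t := two_not_dvd_ind S hSt
  obtain ⟨z, hzp, hzm, hzt⟩ := h.exists_prime_min ht1
  have hzo : ¬ 2 ∣ ind z := fun e => hodd (e.trans hzt)
  have hne : ind v ≠ ind z := fun e => hzo (e ▸ ha)
  by_cases hfree : IsMax G (ind v)
  · rcases h.free_invol hv hmin hfree with ⟨-, hL⟩ | hp
    · exact Or.inl hL
    exfalso
    obtain ⟨n, hn⟩ := hp.exists_card_eq
    have hd : ind z ∣ Nat.card G := ⟨Nat.card (cen z), by rw [← card_mul_ind z, mul_comm]⟩
    rw [← card_mul_ind v, hn] at hd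
    exact hne (hmin z (ne_one_of_orderOf hzp.ne_one rfl)
      (((Nat.prime_two.coprime_iff_not_dvd.2 hzo).symm.pow_right n).dvd_of_dvd_mul_left hd)).symm
  simp only [IsMax, not_forall] at hfree
  obtain ⟨g, hg, hd, hgv⟩ := hfree
  exfalso
  obtain ⟨-, -, h3, -, -⟩ := h.chains_of_ne hup (hv.symm ▸ Nat.prime_two) hzp hmin hzm hne hg ht1 hd hgv
    hzt (fun e => htm (e ▸ hzm)) fun e => hodd (e ▸ ha.trans hd)
  exact hzo (h3 ▸ hv ▸ Subgroup.orderOf_dvd_natCard _ (self_mem v))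

theorem DType.conj_mem {t : G} {X : Subgroup G} (d : DType t X) {c x : G} (hc : c ∈ cen t) (hx : x ∈ X) :
    c * x * c⁻¹ ∈ X := by
  by_cases hcX : c ∈ X
  · exact mul_mem (mul_mem hcX hx) (inv_mem hcX)
  · rw [(d.out c hc hcX).2 x hx]
    exact inv_mem hx

theorem DType.central {t : G} {X : Subgroup G} (d : DType t X) {x : G} (hx : x ∈ X) (h2 : x * x = 1) :
    x ∈ Zc t := by
  refine mem_Zc.2 ⟨d.le hx, fun g hg => mem_cen.2 ?_⟩
  by_cases hgX : g ∈ X
  · exact d.comm g hgX x hx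
  · have h1 := (d.out g hg hgX).2 x hx
    rw [inv_eq_of_mul_eq_one_right h2] at h1
    exact mul_inv_eq_iff_eq_mul.1 h1

/-- The dihedral type at a central involution. -/
theorem dihedral_case (h : Rank G) {t : G} {b : ℕ} (I : Inv t b) {X : Subgroup G} (d : DType t X)
    (S : Sylow 2 G) (hS : (S : Subgroup G) ≤ cen t) : IsPSLOdd G := by
  haveI : Fact (Nat.Prime 2) := ⟨Nat.prime_two⟩
  haveI := h.simple
  obtain ⟨g, hg, hgX⟩ := d.exists_out
  obtain ⟨s, hsS, hsX⟩ : ∃ s ∈ (S : Subgroup G), s ∉ X := by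
    obtain ⟨c, hc, hcg⟩ := exists_conj_into (S.subtype hS) hg (pel_mul_self (d.out g hg hgX).1)
    rw [Sylow.coe_subtype, Subgroup.map_subgroupOf_eq_of_le hS] at hcg
    refine ⟨_, hcg, fun hm => hgX ?_⟩
    have h1 := d.conj_mem (inv_mem hc) hm
    rwa [show c⁻¹ * (c * g * c⁻¹) * c⁻¹⁻¹ = g by group] at h1
  have hs1 : s ≠ 1 := fun e => hsX (e ▸ one_mem _)
  have hsv := hS hsS
  obtain ⟨hs2, hinv⟩ := d.out s hsv hsX
  have hso : orderOf s = 2 := orderOf_eq_prime (by rw [pow_two, hs2]) hs1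
  set T0 : Subgroup G := (S : Subgroup G) ⊓ X
  have hT0 : T0.relIndex (S : Subgroup G) = 2 := by
    refine Subgroup.index_eq_two_iff.2 ⟨⟨s, hsS⟩, fun x => ?_⟩
    simp only [Subgroup.mem_subgroupOf, Subgroup.coe_mul]
    by_cases hx : (x : G) ∈ T0
    · exact Or.inr ⟨hx, fun h => hsX ((Subgroup.mul_mem_cancel_left _ (Subgroup.mem_inf.1 hx).2).1
        (Subgroup.mem_inf.1 h).2)⟩
    · exact Or.inl ⟨⟨mul_mem x.2 hsS, d.mul_out x (hS x.2) s hsv (fun h => hx ⟨x.2, h⟩) hsX⟩, hx⟩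
  by_cases huniq : ∃ u : G, ∀ x ∈ T0, x * x = 1 → x = 1 ∨ x = u
  · obtain ⟨u, hu⟩ := huniq
    obtain ⟨a, ha, hT⟩ := DGroup.cyclic_of_unique (S.isPGroup'.to_le inf_le_left)
      (fun x hx y hy => d.comm x hx.2 y hy.2) hu
    refine of_cyclic_inverted h.nonab h.four S T0 inf_le_left ?_ (by rw [show T0 = Subgroup.zpowers a from hT]; infer_instance) hsS (fun h => hsX h.2)
      hso fun x hx => hinv x hx.2
    have h1 := card_inf_mul T0 (S : Subgroup G)
    rw [inf_eq_right.2 inf_le_left, hT0] at h1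
    rw [← h1, mul_comm]
  -- at least three involutions in the kernel
  push Not at huniq
  obtain ⟨w1, hw1, hw1s, hw11, -⟩ := huniq 1
  obtain ⟨w2, hw2, hw2s, hw21, hw2ne⟩ := huniq w1
  exfalso
  rcases S0111.result S T0 inf_le_left hT0 s hso hsS (fun h => hsX h.2) with
    ⟨N, hN, hNi, hsN⟩ | ⟨c, hc⟩
  · rcases IsSimpleGroup.eq_bot_or_eq_top_of_normal N hN with e | e
    · rw [e, Subgroup.index_bot] at hNi
      obtain ⟨a, b, hab⟩ := h.nonab
      haveI : IsCyclic G := isCyclic_of_prime_card (p := 2) hNi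
      letI := IsCyclic.commGroup (α := G)
      exact hab (mul_comm a b)
    · exact hsN (e ▸ Subgroup.mem_top s)
  have hcs1 : c * s * c⁻¹ ≠ 1 := fun e => hs1 (conj_eq_one_iff.1 e)
  have hτ := d.central hc.2 (by rw [show c * s * c⁻¹ * (c * s * c⁻¹) = c * (s * s) * c⁻¹ by group, hs2,
    mul_one, mul_inv_cancel])
  have hcτ : cen (c * s * c⁻¹) = cen t := I.cen_eq_of_central hτ hcs1
  have hwM : ∀ x ∈ T0, x * x = 1 → c * x * c⁻¹ ∈ cen t := fun x hx hx2 => by
    rw [← hcτ]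
    exact conj_mem_cen (mem_symm ((mem_Zc.1 (d.central hx.2 hx2)).2 hsv)) c
  obtain ⟨x, hx, hx2, hx1, hxX⟩ : ∃ x ∈ T0, x * x = 1 ∧ x ≠ 1 ∧ c * x * c⁻¹ ∈ X := by
    by_contra hcon
    push Not at hcon
    have hn1 := hcon w1 hw1 hw1s hw11
    have hn2 := hcon w2 hw2 hw2s hw21
    refine hcon (w1 * w2) (mul_mem hw1 hw2) ?_ (fun e => hw2ne ?_) ?_
    · rw [(show Commute w2 w1 from d.comm w2 hw2.2 w1 hw1.2).mul_mul_mul_comm, hw1s, hw2s, mul_one]
    · rw [eq_inv_of_mul_eq_one_right e, inv_eq_of_mul_eq_one_right hw1s]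
    · rw [show c * (w1 * w2) * c⁻¹ = (c * w1 * c⁻¹) * (c * w2 * c⁻¹) by group]
      exact d.mul_out _ (hwM w1 hw1 hw1s) _ (hwM w2 hw2 hw2s) hn1 hn2
  have hcx : cen (c * x * c⁻¹) = cen t := I.cen_eq_of_central
    (d.central hxX (by rw [show c * x * c⁻¹ * (c * x * c⁻¹) = c * (x * x) * c⁻¹ by group, hx2, mul_one,
      mul_inv_cancel])) fun e => hx1 (conj_eq_one_iff.1 e)
  rw [cen_conj, I.cen_eq_of_central (d.central hx.2 hx2) hx1] at hcx
  rw [cen_conj] at hcτ
  have hst : cen s = cen t := Subgroup.map_injective (MulAut.conj c).injective (hcτ.trans hcx.symm)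
  obtain ⟨y, hyX, hyo, hy1⟩ := d.exists_odd
  have h1 := hinv y hyX
  rw [← mem_cen.1 (hst.ge (d.le hyX)), mul_inv_cancel_right] at h1
  exact hy1 (eq_one_of_sq_of_odd hyo (mul_eq_one_iff_eq_inv.2 h1))

theorem exists_decomp (g : G) : ∃ g₂ g' : G, g₂ * g' = g ∧ Commute g₂ g' ∧ g₂ ∈ Subgroup.zpowers g ∧
    g' ∈ Subgroup.zpowers g ∧ ThreeSizes.PEl 2 g₂ ∧ Odd (orderOf g') := by
  haveI : Fact (Nat.Prime 2) := ⟨Nat.prime_two⟩
  obtain ⟨g₂, g', heq, h2m, h'm, ⟨k, hk⟩, hg'⟩ := PBasic.exists_pPart_mul (p := 2) g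
  obtain ⟨i2, hi2⟩ := Subgroup.mem_zpowers_iff.1 h2m
  obtain ⟨i', hi'⟩ := Subgroup.mem_zpowers_iff.1 h'm
  exact ⟨g₂, g', heq, by rw [← hi2, ← hi']; exact Commute.zpow_zpow_self g i2 i', h2m, h'm,
    ⟨k, by rw [← hk, pow_orderOf_eq_one]⟩, Nat.coprime_two_right.1 hg'⟩

theorem Inv.listed_of_prime {t : G} (h : Rank G) (ht : orderOf t = 2) (hnil : Group.IsNilpotent (cen t))
    (hprime : ∀ k ∈ cen t, (orderOf k).Prime → cen k ≤ cen t) : Listed G := by
  refine h.listed_of_nilpotent hnil (ht ▸ Subgroup.orderOf_dvd_natCard _ (self_mem t)) fun k hk hk1 => ?_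
  obtain ⟨p, m, hp, -, hpm⟩ := exists_prime_pow hk1
  exact (le_cen_pow k m).trans (hprime _ ((cen t).pow_mem hk m) (hpm ▸ hp))

/-- The first type with commuting elements of odd order. -/
theorem normal_abelian (h : Rank G) (hup : UpOne G) {t : G} {b : ℕ} (I : Inv t b) {T : Subgroup G}
    (hT : NType t T) (hcomm : ∀ x ∈ cen t, ∀ y ∈ cen t, Odd (orderOf x) → Odd (orderOf y) → x * y = y * x)
    {k0 : G} (hk0 : k0 ∈ cen t) (hk0o : Odd (orderOf k0)) (hk01 : k0 ≠ 1) : Listed G := by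
  have hodd : ∀ k ∈ cen t, Odd (orderOf k) → k ∈ Zc t := fun k hk hko => by
    refine mem_Zc.2 ⟨hk, fun g hg => mem_cen.2 ?_⟩
    obtain ⟨g₂, g', heq, -, h2m, h'm, h2p, ho⟩ := exists_decomp g
    have hz : Subgroup.zpowers g ≤ cen t := Subgroup.zpowers_le.2 hg
    rw [← heq]
    exact ((show Commute g₂ k from hT.comm g₂ (hT.mem g₂ (hz h2m) h2p) k hk hko).mul_left
      (hcomm g' (hz h'm) k hk ho hko)).eq
  have hK : cen k0 = cen t := I.cen_eq_of_central (hodd k0 hk0 hk0o) hk01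
  refine Inv.listed_of_prime h I.ord ?_ fun k hk hkp => ?_
  · exact (nilpotent_of_central (C := cen t) Nat.prime_two fun w hw hco g hg =>
      mem_cen.1 ((mem_Zc.1 (hodd w hw (Nat.coprime_two_right.1 hco))).2 hg)).1
  by_cases hk2 : orderOf k = 2
  swap
  · exact (I.cen_eq_of_central (hodd k hk (hkp.odd_of_ne_two hk2))
      (ne_one_of_orderOf hkp.ne_one rfl)).le
  have hk1 := ne_one_of_orderOf (by norm_num) hk2
  have hk0k : k0 ∈ cen k := mem_symm ((mem_Zc.1 (hodd k0 hk0 hk0o)).2 hk)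
  have htk : t ∈ cen k := mem_symm hk
  rcases h.min_or_max hup hk1 with hm | hm
  swap
  · exact (cen_le_of_isMax hk1 hm hk0k (odd_coprime hk2 hk0o)).trans hK.le
  by_cases hfree : IsMax G (ind k)
  · rcases h.free_invol hk2 hm hfree with ⟨-, hL⟩ | hp
    · -- a commutative centraliser
      rcases h.free_cases hk1 hm hfree with ⟨hc, -⟩ | ⟨r, hr, hp⟩
      · exact fun g hg => mem_cen.2 (hc g hg t htk)
      · exfalso
        obtain ⟨i, hi⟩ := hp ⟨k, self_mem k⟩
        obtain ⟨j, hj⟩ := hp ⟨k0, hk0k⟩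
        haveI := Fact.mk hr
        have hr2 : r = 2 := ((Nat.prime_dvd_prime_iff_eq Nat.prime_two hr).1
          (Nat.prime_two.dvd_of_dvd_pow (hk2 ▸ orderOf_dvd_of_pow_eq_one (congrArg Subtype.val hi)))).symm
        subst hr2
        exact hk01 (ThreeSizes.eq_one_of_coprime ((Nat.coprime_two_right.2 hk0o).pow_right j)
          (pow_orderOf_eq_one k0) (congrArg Subtype.val hj))
    · exfalso
      obtain ⟨j, hj⟩ := hp ⟨k0, hk0k⟩
      exact hk01 (ThreeSizes.eq_one_of_coprime ((Nat.coprime_two_right.2 hk0o).pow_right j)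
        (pow_orderOf_eq_one k0) (congrArg Subtype.val hj))
  simp only [IsMax, not_forall] at hfree
  obtain ⟨g0, hg0, hd, hne⟩ := hfree
  have J := h.inv_mk hup hk2 hm hg0 hd hne
  rcases J.types with ⟨U, hU⟩ | ⟨X, hX⟩ | ⟨U, hU⟩
  · intro g hg
    obtain ⟨g₂, g', heq, -, h2m, h'm, h2p, ho⟩ := exists_decomp g
    have hz : Subgroup.zpowers g ≤ cen k := Subgroup.zpowers_le.2 hg
    rw [← heq]
    refine mul_mem ?_ (mem_cen.2 (hU.comm t (hU.mem t htk (pel_two I.ord)) g' (hz h'm) ho).symm)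
    rw [← hK]
    exact mem_cen.2 (hU.comm g₂ (hU.mem g₂ (hz h2m) h2p) k0 hk0k hk0o)
  · by_cases htX : t ∈ X
    · exact (mem_Zc.1 (hX.central htX (Invol.mul_self I.ord))).2
    · exfalso
      have h1 := (hX.out t htk htX).2 k0 (hX.odd_mem hk0k hk0o)
      rw [← mem_cen.1 hk0, mul_inv_cancel_right] at h1
      exact hk01 (eq_one_of_sq_of_odd hk0o (mul_eq_one_iff_eq_inv.2 h1))
  · have hUt : ∀ s ∈ U, k0 * s = s * k0 := fun s hs => by
      have h1 := hU.sq _ (mul_mem (hU.mem t htk (pel_two I.ord)) hs)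
      rw [mul_eq_one_iff_eq_inv, mul_inv_rev, inv_eq_of_mul_eq_one_right (hU.sq s hs),
        inv_eq_of_mul_eq_one_right (Invol.mul_self I.ord)] at h1
      exact (mem_cen.1 (hK.ge (mem_cen.2 h1.symm : s ∈ cen t))).symm
    exact (mem_Zc.1 (hU.cenS k0 hk0k hk0o hUt)).2.trans hK.le

/-- The first type with noncommuting elements of odd order. -/
theorem normal_nonabelian (h : Rank G) (hup : UpOne G) {t : G} {b : ℕ} (I : Inv t b) (S : Sylow 2 G)
    (hS : (S : Subgroup G) ≤ cen t) {T : Subgroup G} (hT : NType t T) {x0 y0 : G} (hx0 : x0 ∈ cen t)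
    (hy0 : y0 ∈ cen t) (hx0o : Odd (orderOf x0)) (hy0o : Odd (orderOf y0)) (hne : x0 * y0 ≠ y0 * x0) :
    Listed G := by
  haveI : Fact (Nat.Prime 2) := ⟨Nat.prime_two⟩
  have hy0z : y0 ∉ Zc t := fun hz => hne (mem_cen.1 ((mem_Zc.1 hz).2 hx0))
  have hSsub : (S : Subgroup G) ≤ T := fun s hs =>
    hT.mem s (hS hs) (ThreeSizes.PEl.of_isPGroup S.isPGroup' hs)
  have hST : T = (S : Subgroup G) := S.is_maximal' hT.isP hSsub
  have hTc : ∀ y ∈ cen t, Odd (orderOf y) → T ≤ cen y := fun y hy hyo s hs =>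
    mem_cen.2 (hT.comm s hs y hy hyo)
  have hbodd : ¬ 2 ∣ b := by
    rw [← I.ind_mul_v hy0 hy0o hy0z]
    refine two_not_dvd_ind S ?_
    rw [I.cen_mul_v hy0 hy0o]
    exact le_inf hS (hSsub.trans (hTc y0 hy0 hy0o))
  have haodd : ¬ 2 ∣ ind t := two_not_dvd_ind S hS
  -- the `2`-elements are central
  have hTz : T ≤ Zc t := by
    have hsq : ∀ s ∈ T, s ∉ Zc t → s * s = 1 := by
      have hnb : ∀ s ∈ T, s ∉ Zc t → ind s ≠ b := fun s hs hsz hb => hne (mem_cen.1
        (I.odd_central (fun e => hsz (by rw [e]; exact one_mem _)) (ThreeSizes.PEl.of_isPGroup hT.isP hs) hb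
          (mem_cen.2 (hT.comm s hs y0 hy0 hy0o).symm) hy0o (mem_cen.2 (hT.comm s hs x0 hx0 hx0o).symm)))
      intro s hs hsz
      have htT : t ∈ T := hT.mem t (self_mem t) (pel_two I.ord)
      exact I.sq_eq_one (hT.le hs) hsz (hnb s hs hsz) (hnb _ (mul_mem hs htT) fun h => hsz (by
        simpa using mul_mem h (inv_mem (self_mem_Zc t))))
    intro s hs
    by_contra hsz
    obtain ⟨s', hs', hns⟩ : ∃ s' ∈ T, s' * s ≠ s * s' := by
      by_contra hc
      push Not at hc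
      refine hsz (mem_Zc.2 ⟨hT.le hs, fun g hg => mem_cen.2 ?_⟩)
      obtain ⟨g₂, g', heq, -, h2m, h'm, h2p, ho⟩ := exists_decomp g
      have hz : Subgroup.zpowers g ≤ cen t := Subgroup.zpowers_le.2 hg
      rw [← heq]
      exact ((show Commute g₂ s from hc g₂ (hT.mem g₂ (hz h2m) h2p)).mul_left
        (show Commute g' s from (hT.comm s hs g' (hz h'm) ho).symm)).eq
    have hs'z : s' ∉ Zc t := fun hz => hns (mem_cen.1 ((mem_Zc.1 hz).2 (hT.le hs))).symm
    have hssz : s' * s ∉ Zc t := fun hz => hns (by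
      have h1 : Commute s (s' * s) := mem_cen.1 ((mem_Zc.1 hz).2 (hT.le hs))
      have h2 : Commute s s' := by simpa using h1.mul_right (Commute.refl s).inv_right
      exact h2.eq.symm)
    have e := hsq _ (mul_mem hs' hs) hssz
    rw [mul_eq_one_iff_eq_inv, mul_inv_rev, inv_eq_of_mul_eq_one_right (hsq s hs hsz),
      inv_eq_of_mul_eq_one_right (hsq s' hs' hs'z)] at e
    exact hns e
  -- the odd part
  have hey : (cen (⟨y0, hy0⟩ : cen t)).index = b / ind t := by
    rw [← I.ind_mul_v hy0 hy0o hy0z, ← I.index_subtype hy0 hy0o, Nat.mul_div_cancel _ (index_pos t)]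
  have he1 : b / ind t ≠ 1 := fun h1 => I.ne (by rw [← Nat.div_mul_cancel I.ab, h1, one_mul])
  have heodd : ¬ 2 ∣ b / ind t := fun h1 => hbodd (h1.trans (Nat.div_dvd_of_dvd I.ab))
  obtain ⟨q, hq, hq2, hcen⟩ : ∃ q : ℕ, q.Prime ∧ q ≠ 2 ∧
      ∀ y ∈ cen t, Odd (orderOf y) → (orderOf y).Coprime q → y ∈ Zc t := by
    rcases reg_two he1 I.local_sizes ⟨⟨y0, hy0⟩, by rwa [Subgroup.orderOf_mk], hey⟩ with
      ⟨H, hH, hHodd, i, hi⟩ | ⟨q, hq, P, Q, A, hq2, hA, hcard, -, -, hjoin⟩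
    · exfalso
      suffices hd : b / ind t ∣ 2 ^ i from
        he1 (Nat.eq_one_of_dvd_coprimes ((Nat.prime_two.coprime_iff_not_dvd.2 heodd).symm.pow_right i)
          dvd_rfl hd)
      by_cases hc : ∀ x ∈ H, x ∈ Subgroup.center (cen t)
      · rw [← hey, ← hi]
        exact Subgroup.index_dvd_of_le fun x hx =>
          mem_cen.2 (Subgroup.mem_center_iff.1 (hc x hx) _).symm
      · push Not at hc
        obtain ⟨x, hx, hxc⟩ := hc
        have hle : H ≤ cen x := fun z hz => mem_cen.2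
          (congrArg Subtype.val (hH.is_comm.comm (⟨z, hz⟩ : H) ⟨_, hx⟩))
        have hxi : (cen x).index ≠ 1 := fun h1 => hxc (Subgroup.mem_center_iff.2 fun z =>
          mem_cen.1 ((Subgroup.index_eq_one.1 h1).symm ▸ Subgroup.mem_top z))
        have hxodd : Odd (orderOf x) := Nat.not_even_iff_odd.1 fun h1 =>
          hHodd (h1.two_dvd.trans (Subgroup.orderOf_dvd_natCard _ hx))
        rw [← (I.local_sizes x hxodd).resolve_left hxi, ← hi]
        exact Subgroup.index_dvd_of_le hle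
    · refine ⟨q, hq.out, hq2, fun y hy hyo hyq => ?_⟩
      haveI := hq
      haveI : A.Normal := ⟨fun a ha g => by
        rw [Subgroup.mem_center_iff.1 (hA ha) g, mul_inv_cancel_right]; exact ha⟩
      have hAi : A.index ∣ Nat.card P * Nat.card Q := by
        rw [← hcard, ← Subgroup.relIndex_top_right, ← hjoin, Subgroup.relIndex_sup_right]
        exact Subgroup.index_dvd_card _
      have hyA : (⟨y, hy⟩ : cen t) ∈ A := by
        rw [← QuotientGroup.eq_one_iff, ← orderOf_eq_one_iff]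
        refine Nat.eq_one_of_dvd_coprimes ?_ (orderOf_map_dvd (QuotientGroup.mk' A) ⟨y, hy⟩)
          ((orderOf_dvd_natCard _).trans hAi)
        rw [Subgroup.orderOf_mk, P.card_eq_multiplicity, Q.card_eq_multiplicity]
        exact ((Nat.coprime_two_right.2 hyo).pow_right _).mul_right (hyq.pow_right _)
      exact mem_Zc.2 ⟨hy, fun g hg => mem_cen.2
        (congrArg Subtype.val (Subgroup.mem_center_iff.1 (hA hyA) ⟨g, hg⟩))⟩
  haveI := Fact.mk hq
  have hcop : ∀ y ∈ cen t, (orderOf y).Coprime q → y ∈ Zc t := by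
    intro y hy hyq
    obtain ⟨g₂, g', heq, -, h2m, h'm, h2p, ho⟩ := exists_decomp y
    have hz : Subgroup.zpowers y ≤ cen t := Subgroup.zpowers_le.2 hy
    rw [← heq]
    exact mul_mem (hTz (hT.mem g₂ (hz h2m) h2p)) (hcen g' (hz h'm) ho
      (Nat.Coprime.coprime_dvd_left (orderOf_dvd_of_mem_zpowers h'm) hyq))
  obtain ⟨hnil, R, hRp, hRle, hRmem⟩ := nilpotent_of_central (C := cen t) hq fun w hw hco g hg =>
    mem_cen.1 ((mem_Zc.1 (hcop w hw hco)).2 hg)
  have hR1 : ∃ r ∈ R, r ≠ 1 := by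
    obtain ⟨l, n, hl, hp, hn⟩ := ThreeSizes.exists_primary_not_mem hy0z
    by_cases hlq : l = q
    · subst hlq
      exact ⟨_, hRmem _ ((cen t).pow_mem hy0 n) hp, fun e => hn (e ▸ one_mem _)⟩
    · exact absurd (hcop _ ((cen t).pow_mem hy0 n) (orderOf_coprime_of_pel hl hq hlq hp)) hn
  -- a `q`-element normalising this subgroup lies in it
  have hnormR : ∀ y : G, ThreeSizes.PEl q y → y ∈ Subgroup.normalizer (R : Set G) → y ∈ R := by
    intro y hy hyn
    have hz : IsPGroup q (Subgroup.zpowers y) := by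
      obtain ⟨k, hk⟩ := hy
      obtain ⟨i, -, hi⟩ := (Nat.dvd_prime_pow hq).1 (orderOf_dvd_of_pow_eq_one hk)
      exact IsPGroup.of_card (n := i) (by rw [Nat.card_zpowers, hi])
    set P : Subgroup G := Subgroup.zpowers y ⊔ R
    have hP : IsPGroup q P := hz.to_sup_of_normal_right' hRp (Subgroup.zpowers_le.2 hyn)
    haveI : Group.IsNilpotent P := hP.isNilpotent
    haveI : (R.subgroupOf P).Normal := (Subgroup.normal_subgroupOf_iff_le_normalizer le_sup_right).2
      (sup_le (Subgroup.zpowers_le.2 hyn) Subgroup.le_normalizer)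
    obtain ⟨r, hr, hr1⟩ := hR1
    have hne' : R.subgroupOf P ≠ ⊥ := fun e => by
      have h1 : (⟨r, Subgroup.mem_sup_right hr⟩ : P) ∈ R.subgroupOf P := Subgroup.mem_subgroupOf.2 hr
      rw [e, Subgroup.mem_bot] at h1
      exact hr1 (congrArg Subtype.val h1)
    have hne2 : R.subgroupOf P ⊓ Subgroup.center P ≠ ⊥ := SolvStruct.inf_center_ne_bot hne'
    obtain ⟨⟨⟨z, hzP⟩, hzc⟩, hz1⟩ := Subgroup.ne_bot_iff_exists_ne_one.1 hne2
    have hzR : z ∈ R := hzc.1
    have hzz : z ∈ Zc t := by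
      refine mem_Zc.2 ⟨hRle hzR, fun g hg => ?_⟩
      by_contra hgz
      obtain ⟨l, n, hl, hp, hn⟩ := ThreeSizes.exists_primary_not_mem hgz
      by_cases hlq : l = q
      · subst hlq
        exact hn (mem_cen.2 (congrArg Subtype.val (Subgroup.mem_center_iff.1 hzc.2
          ⟨_, Subgroup.mem_sup_right (hRmem _ ((cen t).pow_mem hg n) hp)⟩)))
      · exact hn (mem_symm ((mem_Zc.1 (hcop _ ((cen t).pow_mem hg n)
          (orderOf_coprime_of_pel hl hq hlq hp))).2 (hRle hzR)))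
    have hzne : z ≠ 1 := fun e => hz1 (Subtype.ext (Subtype.ext e))
    refine hRmem y ?_ hy
    rw [← I.cen_eq_of_central hzz hzne]
    exact mem_cen.2 (congrArg Subtype.val (Subgroup.mem_center_iff.1 hzc.2
      ⟨y, Subgroup.mem_sup_left (Subgroup.mem_zpowers y)⟩))
  obtain ⟨P, hP⟩ := hRp.exists_le_sylow
  have hPR : (P : Subgroup G) ≤ R := by
    by_contra hc
    have hlt : R.subgroupOf (P : Subgroup G) < ⊤ := by
      rw [lt_top_iff_ne_top, Ne, Subgroup.subgroupOf_eq_top]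
      exact hc
    haveI : Group.IsNilpotent (P : Subgroup G) := P.isPGroup'.isNilpotent
    obtain ⟨⟨y, hyP⟩, hyN, hyR⟩ := SetLike.exists_of_lt
      (Group.normalizerCondition_of_isNilpotent (G := (P : Subgroup G)) _ hlt)
    refine hyR (Subgroup.mem_subgroupOf.2 (hnormR y (ThreeSizes.PEl.of_isPGroup P.isPGroup' hyP) ?_))
    rw [Subgroup.mem_normalizer_iff]
    intro z
    constructor
    · intro hz
      have h1 := (Subgroup.mem_normalizer_iff.1 hyN ⟨z, hP hz⟩).1 (Subgroup.mem_subgroupOf.2 hz)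
      simpa [Subgroup.mem_subgroupOf] using h1
    · intro hz
      have hzP : z ∈ (P : Subgroup G) := by
        have h1 := mul_mem (mul_mem (inv_mem hyP) (hP hz)) hyP
        rwa [show y⁻¹ * (y * z * y⁻¹) * y = z by group] at h1
      have h1 := (Subgroup.mem_normalizer_iff.1 hyN ⟨z, hzP⟩).2 (by
        simpa [Subgroup.mem_subgroupOf] using hz)
      simpa [Subgroup.mem_subgroupOf] using h1
  -- sizes of elements of `q`-power order are odd
  have hqodd : ∀ x : G, ThreeSizes.PEl q x → ¬ 2 ∣ ind x := by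
    intro x hx
    by_cases hx1 : x = 1
    · subst hx1
      intro hd
      rw [ind, show cen (1 : G) = ⊤ from eq_top_iff.2 fun y _ => mem_cen.2 (by simp),
        Subgroup.index_top] at hd
      omega
    obtain ⟨k, hk⟩ := hx
    obtain ⟨i, -, hi⟩ := (Nat.dvd_prime_pow hq).1 (orderOf_dvd_of_pow_eq_one hk)
    obtain ⟨P', hP'⟩ := (IsPGroup.of_card (n := i) (by rw [Nat.card_zpowers, hi]) :
      IsPGroup q (Subgroup.zpowers x)).exists_le_sylow
    obtain ⟨c, hc⟩ := MulAction.exists_smul_eq G P' P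
    have hcx : c * x * c⁻¹ ∈ R := hPR (by
      rw [← hc, Sylow.coe_subgroup_smul]; exact ⟨x, hP' (Subgroup.mem_zpowers x), rfl⟩)
    have hco : Odd (orderOf (c * x * c⁻¹)) := odd_of_pel hq hq2 ((ThreeSizes.PEl.of_isPGroup hRp hcx))
    rw [← ind_conj x c]
    by_cases hz : c * x * c⁻¹ ∈ Zc t
    · rw [ind, I.cen_eq_of_central hz fun e => hx1 (conj_eq_one_iff.1 e)]
      exact haodd
    · intro hd
      have h1 := (ind_mul_dvd (hRle hcx) (odd_coprime I.ord hco)).2
      rw [I.ind_mul_v (hRle hcx) hco hz] at h1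
      exact hbodd (hd.trans h1)
  have hTcen : ∀ u ∈ T, u ≠ 1 → cen u = cen t := fun u hu hu1 => I.cen_eq_of_central (hTz hu) hu1
  refine Inv.listed_of_prime h I.ord hnil fun k hk hkp => ?_
  have hk1 := ne_one_of_orderOf hkp.ne_one rfl
  by_cases hkz : k ∈ Zc t
  · exact (I.cen_eq_of_central hkz hk1).le
  have hk2 : orderOf k ≠ 2 := fun e => hkz (hTz (hT.mem k hk (pel_two e)))
  have hko : Odd (orderOf k) := hkp.odd_of_ne_two hk2
  have hkq : orderOf k = q := by
    by_contra hc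
    exact hkz (hcen k hk hko ((Nat.coprime_primes hkp hq).2 hc))
  have hkb := I.ind_mul_v hk hko hkz
  obtain ⟨-, hdb⟩ := ind_mul_dvd hk (odd_coprime I.ord hko)
  by_cases hkmax : ind k = b
  · have h1 := eq_of_le_of_ind ((I.cen_mul_v hk hko).le.trans inf_le_right) (hkb.trans hkmax.symm)
    rw [← h1, I.cen_mul_v hk hko]
    exact inf_le_left
  have hkmin : IsMin G (ind k) := (I.gen k hk hk1).resolve_left hkmax
  have htk1 : t * k ≠ 1 := mul_ne_one_of_coprime I.v_ne (odd_coprime I.ord hko)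
  -- the multiples of this size are odd
  have hmult : ∀ g : G, g ≠ 1 → ind k ∣ ind g → ¬ 2 ∣ ind g := fun g hg hd => by
    by_cases e : ind g = ind k
    · rw [e]
      exact fun h2 => hbodd ((h2.trans hdb).trans hkb.dvd)
    · rw [hup k g (t * k) hk1 hg htk1 hkmin hd hdb e (fun e' => hkmax (e'.symm.trans hkb)), hkb]
      exact hbodd
  have hprim : ∀ (l : ℕ), l.Prime → l ≠ 2 → ∀ x ∈ cen k, ThreeSizes.PEl l x → ¬ 2 ∣ ind x := by
    intro l hl hl2 x hx hxp
    by_cases hlq : l = q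
    · subst hlq; exact hqodd x hxp
    have hco : (orderOf k).Coprime (orderOf x) :=
      (hkq ▸ orderOf_coprime_of_pel hl hq hlq hxp : (orderOf x).Coprime (orderOf k)).symm
    obtain ⟨h1, h2⟩ := ind_mul_dvd hx hco
    exact fun hd => hmult _ (mul_ne_one_of_coprime hk1 hco) h1 (hd.trans h2)
  -- involutions in the centraliser commute
  have hTk : t ∈ cen k := mem_symm hk
  have hinvol : ∀ u ∈ cen k, orderOf u = 2 → cen u = cen t := by
    intro u hu hu2
    have hut : ∃ j, orderOf (t * u) = 2 ^ j := by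
      refine ⟨_, Nat.eq_prime_pow_of_unique_prime_dvd (orderOf_pos _).ne' fun {p} hp hpd => ?_⟩
      by_contra hp2
      obtain ⟨c, hc⟩ : p ∣ orderOf (t * u) := hpd
      set x := (t * u) ^ c
      have hxo : orderOf x = p := by
        rw [orderOf_pow_of_dvd (fun h0 => by rw [h0, mul_zero] at hc; exact (orderOf_pos (t * u)).ne' hc)
          ⟨p, by rw [hc, mul_comm]⟩, hc, Nat.mul_div_cancel _ (Nat.pos_of_ne_zero fun h0 => by
            rw [h0, mul_zero] at hc; exact (orderOf_pos (t * u)).ne' hc)]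
      have hxp : ThreeSizes.PEl p x := pel_of_orderOf hxo
      refine hprim p hp hp2 x ((cen k).pow_mem (mul_mem hTk hu) c) hxp
        (two_dvd_ind_of_real (g := t) (odd_of_prime hp hp2 hxo) (ne_one_of_orderOf hp.ne_one hxo) ?_)
      rw [← conj_pow]
      rw [show t * (t * u) * t⁻¹ = (t * t) * u * t⁻¹ by group, Invol.mul_self I.ord, one_mul, ← inv_pow,
        mul_inv_rev, Invol.inv_self hu2]
    obtain ⟨j, hj⟩ := hut
    obtain ⟨P', hP'⟩ := (TIInv.isPGroup_closure_pair I.ord hu2 hj).exists_le_sylow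
    obtain ⟨c, hc⟩ := MulAction.exists_smul_eq G P' S
    have hcS : ∀ z ∈ Subgroup.zpowers t ⊔ Subgroup.zpowers u, c * z * c⁻¹ ∈ (S : Subgroup G) := fun z hz => by
      rw [← hc, Sylow.coe_subgroup_smul]; exact ⟨z, hP' hz, rfl⟩
    have e := mem_cen.1 ((mem_Zc.1 (hTz (hSsub (hcS t (Subgroup.mem_sup_left (Subgroup.mem_zpowers t)))))).2
      (hT.le (hSsub (hcS u (Subgroup.mem_sup_right (Subgroup.mem_zpowers u))))))
    rw [show c * u * c⁻¹ * (c * t * c⁻¹) = c * (u * t) * c⁻¹ by group,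
      show c * t * c⁻¹ * (c * u * c⁻¹) = c * (t * u) * c⁻¹ by group] at e
    exact hTcen u (hT.mem u (mem_cen.2 (mul_left_cancel (mul_right_cancel e))) (pel_two hu2))
      (ne_one_of_orderOf (by norm_num) hu2)
  intro g hg
  by_contra hgt
  obtain ⟨l, n, hl, hp, hn⟩ := ThreeSizes.exists_primary_not_mem hgt
  refine hn ?_
  set x := g ^ n
  have hx : x ∈ cen k := (cen k).pow_mem hg n
  -- the centraliser normalises
  have hxM : ∀ y : G, y ∈ cen t ↔ x * y * x⁻¹ ∈ cen t := by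
    have e := hinvol _ (mul_mem (mul_mem hx hTk) (inv_mem hx)) (by rw [Invol.order_conj, I.ord])
    rw [cen_conj] at e
    intro y
    nth_rw 2 [← e]
    exact ⟨fun hy => ⟨y, hy, rfl⟩, fun ⟨y', hy', he⟩ => (MulAut.conj x).injective he ▸ hy'⟩
  by_cases hl2 : l = 2
  · subst hl2
    have hxT : x ∈ Subgroup.normalizer (T : Set G) := Subgroup.mem_normalizer_iff.2 fun z =>
      ⟨fun hz => hT.mem _ ((hxM z).1 (hT.le hz)) ((ThreeSizes.PEl.of_isPGroup hT.isP hz).conj x),
       fun hz => hT.mem z ((hxM z).2 (hT.le hz)) (by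
        have := (ThreeSizes.PEl.of_isPGroup hT.isP hz).conj x⁻¹
        rwa [show x⁻¹ * (x * z * x⁻¹) * x⁻¹⁻¹ = z by group] at this)⟩
    refine hT.le (absorb (C := (⊤ : Subgroup G)) hT.isP le_top (le_of_eq ?_) trivial hp hxT)
    rw [Subgroup.card_top, hST]
    exact S.card_eq_multiplicity.symm
  by_cases hlq : l = q
  · subst hlq
    refine hRle (hnormR x hp (Subgroup.mem_normalizer_iff.2 fun z =>
      ⟨fun hz => hRmem _ ((hxM z).1 (hRle hz)) ((ThreeSizes.PEl.of_isPGroup hRp hz).conj x),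
       fun hz => hRmem z ((hxM z).2 (hRle hz)) (by
        have := (ThreeSizes.PEl.of_isPGroup hRp hz).conj x⁻¹
        rwa [show x⁻¹ * (x * z * x⁻¹) * x⁻¹⁻¹ = z by group] at this)⟩))
  have hco : (orderOf k).Coprime (orderOf x) :=
    (hkq ▸ orderOf_coprime_of_pel hl hq hlq hp : (orderOf x).Coprime (orderOf k)).symm
  have h2C : 2 ∣ Nat.card (cen (k * x)) := by
    have h1 := card_mul_ind (k * x)
    have h2G : 2 ∣ Nat.card G := I.ord ▸ orderOf_dvd_natCard t
    rw [← h1] at h2G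
    exact (Nat.prime_two.dvd_mul.1 h2G).resolve_right
      (hmult _ (mul_ne_one_of_coprime hk1 hco) (ind_mul_dvd hx hco).1)
  obtain ⟨⟨u, hu⟩, hu2⟩ := exists_prime_orderOf_dvd_card' (G := cen (k * x)) 2 h2C
  rw [Subgroup.orderOf_mk] at hu2
  rw [cen_mul hx hco] at hu
  rw [← hinvol u hu.1 hu2]
  exact mem_symm hu.2

/-- The first type at a central involution. -/
theorem normal_case (h : Rank G) (hup : UpOne G) {t : G} {b : ℕ} (I : Inv t b) (S : Sylow 2 G)
    (hS : (S : Subgroup G) ≤ cen t) {T : Subgroup G} (hT : NType t T) : Listed G := by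
  by_cases hp : IsPGroup 2 (cen t)
  · exact Or.inr (cit_of_two h hup I.ord I.min S hS hp)
  obtain ⟨k0, hk0, hk01, hk0o⟩ := exists_odd_of_not_two hp
  by_cases hc : ∀ x ∈ cen t, ∀ y ∈ cen t, Odd (orderOf x) → Odd (orderOf y) → x * y = y * x
  · exact normal_abelian h hup I hT hc hk0 hk0o hk01
  push Not at hc
  obtain ⟨x, hx, y, hy, hxo, hyo, hne⟩ := hc
  exact normal_nonabelian h hup I S hS hT hx hy hxo hyo hne

/-- Centralisers of involutions when a Sylow subgroup is elementary. -/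
theorem elem_normal (h : Rank G) (hup : UpOne G) (S : Sylow 2 G)
    (hsq : ∀ s ∈ (S : Subgroup G), s * s = 1) {v : G} (hv : orderOf v = 2)
    (hvS : v ∈ (S : Subgroup G)) :
    IsPSLOdd G ∨ ((S : Subgroup G) ≤ cen v ∧ cen v ≤ Subgroup.normalizer ((S : Subgroup G) : Set G)) := by
  haveI : Fact (Nat.Prime 2) := ⟨Nat.prime_two⟩
  have hv1 := ne_one_of_orderOf (by norm_num) hv
  have hle : (S : Subgroup G) ≤ cen v := fun x hx => mem_cen.2 (by
    have h1 := hsq _ (mul_mem hx hvS)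
    rw [mul_eq_one_iff_eq_inv, mul_inv_rev, inv_eq_of_mul_eq_one_right (hsq x hx),
      inv_eq_of_mul_eq_one_right (hsq v hvS)] at h1
    exact h1)
  have key : ∀ R : Subgroup G, IsPGroup 2 R → (∀ s ∈ cen v, ThreeSizes.PEl 2 s → s ∈ R) →
      cen v ≤ Subgroup.normalizer ((S : Subgroup G) : Set G) := by
    intro R hR hmem
    have e : R = (S : Subgroup G) :=
      S.is_maximal' hR fun x hx => hmem x (hle hx) (ThreeSizes.PEl.of_isPGroup S.isPGroup' hx)
    refine Subgroup.le_normalizer_iff.2 fun g hg x hx => e ▸ hmem _ ?_ ?_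
    · exact mul_mem (mul_mem hg (hle hx)) (inv_mem hg)
    · exact (ThreeSizes.PEl.of_isPGroup S.isPGroup' hx).conj g
  rcases h.min_or_max hup hv1 with hm | hm
  · by_cases hfree : IsMax G (ind v)
    · rcases h.free_invol hv hm hfree with ⟨-, hL⟩ | hp
      · exact Or.inl (h.of_listed hL)
      · exact Or.inr ⟨hle, key _ hp fun s hs _ => hs⟩
    · simp only [IsMax, not_forall] at hfree
      obtain ⟨g, hg, hd, hne⟩ := hfree
      have J := h.inv_mk hup hv hm hg hd hne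
      rcases J.types with ⟨U, hU⟩ | ⟨X, hX⟩ | ⟨U, hU⟩
      · exact Or.inr ⟨hle, key U hU.isP hU.mem⟩
      · exact Or.inl (dihedral_case h J hX S hle)
      · exact Or.inr ⟨hle, key U hU.isP hU.mem⟩
  · refine Or.inr ⟨hle, ?_⟩
    obtain ⟨-, R, hR, -, hmem⟩ := nilpotent_of_central (C := cen v) Nat.prime_two fun w hw hco g hg =>
      mem_cen.1 (cen_le_of_isMax hv1 hm hw (odd_coprime hv (Nat.coprime_two_right.1 hco)) hg)
    exact key R hR fun s hs ⟨k, hk⟩ => hmem s hs ⟨k, hk⟩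

/-- Some involution has a minimal class size. -/
theorem min_case (h : Rank G) (hup : UpOne G) {v : G} (hv : orderOf v = 2) (hmin : IsMin G (ind v)) :
    IsPSLOdd G := by
  haveI : Fact (Nat.Prime 2) := ⟨Nat.prime_two⟩
  rcases exists_min_central h hup hv hmin with hL | ⟨t, S, ht, htm, hS⟩
  · exact h.of_listed hL
  have ht1 := ne_one_of_orderOf (by norm_num) ht
  by_cases hfree : IsMax G (ind t)
  · rcases h.free_invol ht htm hfree with ⟨-, hL⟩ | hp
    · exact h.of_listed hL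
    · exact h.of_listed (Or.inr (cit_of_two h hup ht htm S hS hp))
  simp only [IsMax, not_forall] at hfree
  obtain ⟨g, hg, hd, hne⟩ := hfree
  have I := h.inv_mk hup ht htm hg hd hne
  by_cases hw : ∃ w ∈ cen t, Odd (orderOf w) ∧ 2 ∣ ind (t * w)
  swap
  · push Not at hw
    obtain ⟨T, hT⟩ := I.nType fun y hy hyo hyz hdv => hw y hy hyo (by
      rw [I.ind_mul_v hy hyo hyz]; exact (dvd_mul_right 2 _).trans hdv)
    exact h.of_listed (normal_case h hup I S hS hT)
  obtain ⟨w, hwc, hwo, hwd⟩ := hw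
  rcases I.types with ⟨T, hT⟩ | ⟨X, hX⟩ | ⟨T, hT⟩
  · exact h.of_listed (normal_case h hup I S hS hT)
  · exact dihedral_case h I hX S hS
  by_cases hP : IsPSLOdd G
  · exact hP
  exfalso
  have hsq : ∀ s ∈ (S : Subgroup G), s * s = 1 := fun s hs =>
    hT.sq s (hT.mem s (hS hs) (ThreeSizes.PEl.of_isPGroup S.isPGroup' hs))
  refine elem_false h hup S hsq (fun u hu => ?_) ht htm hwc hwo hwd
  obtain ⟨P', hP'⟩ := (IsPGroup.of_card (n := 1) (by rw [Nat.card_zpowers, hu, pow_one]) :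
    IsPGroup 2 (Subgroup.zpowers u)).exists_le_sylow
  have hsq' : ∀ s ∈ (P' : Subgroup G), s * s = 1 := by
    obtain ⟨c, hc⟩ := MulAction.exists_smul_eq G P' S
    intro s hs
    have h1 := hsq (c * s * c⁻¹) (by rw [← hc, Sylow.coe_subgroup_smul]; exact ⟨s, hs, rfl⟩)
    rw [show c * s * c⁻¹ * (c * s * c⁻¹) = c * (s * s) * c⁻¹ by group] at h1
    exact conj_eq_one_iff.1 h1
  exact ⟨P', (elem_normal h hup P' hsq' hu (hP' (Subgroup.mem_zpowers u))).resolve_left hP⟩

end Cfsg.Agent.ConjRankFour
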