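import Cfsg.Agent.Lib.ConjRankFour.UpOne
import Cfsg.Agent.Lib.ConjRankFour.MinCase
import Cfsg.Agent.Lib.ConjRankFour.MaxCase
import Cfsg.Agent.Lib.ConjRankFour.Converse

/-!
# Simple groups with four class sizes are `PSL(2, q)` with `q` odd
-/

set_option autoImplicit false

namespace Cfsg.Agent.ConjRankFour

open Cfsg.Agent.ConjRankThree

universe u

variable {G : Type u} [Group G] [Finite G]

theorem Rank.isPSLOdd (h : Rank G) : IsPSLOdd G := by
  by_cases hL : Listed G
  · exact h.of_listed hL
  have hup := h.upOne hL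
  by_cases hc : ∃ v : G, orderOf v = 2 ∧ IsMin G (ind v)
  · obtain ⟨v, hv, hmin⟩ := hc
    exact min_case h hup hv hmin
  · push Not at hc
    exact max_case h hup hc

end Cfsg.Agent.ConjRankFour
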