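import Cfsg.Agent.Lib.ConjRankFour.Basic

/-!
# The partially ordered set of the four class sizes
-/

set_option autoImplicit false
set_option linter.style.haveILetI false
set_option linter.unusedSectionVars false

namespace Cfsg.Agent.ConjRankFour

open Cfsg.Agent.ConjRankThree

universe u

variable {G : Type u} [Group G] [Finite G]

/-- A minimal size has at most one proper multiple. -/
def UpOne (G : Type u) [Group G] : Prop :=
  ∀ x g k : G, x ≠ 1 → g ≠ 1 → k ≠ 1 → IsMin G (ind x) → ind x ∣ ind g → ind x ∣ ind k →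
    ind g ≠ ind x → ind k ≠ ind x → ind g = ind k

theorem coprime_orderOf {g w : G} {p q : ℕ} (hp : p.Prime) (hq : q.Prime) (hg : orderOf g = p)
    (hw : orderOf w = q) (hne : p ≠ q) : (orderOf g).Coprime (orderOf w) := by
  rw [hg, hw]
  exact (Nat.coprime_primes hp hq).2 hne

/-- An `l`-element has a conjugate in a centraliser of size prime to `l`. -/
theorem exists_conj_mem {u v : G} {l k : ℕ} (hl : l.Prime) (hv : v ^ l ^ k = 1) (hnd : ¬ l ∣ ind u) :
    ∃ w : G, w * v * w⁻¹ ∈ cen u := by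
  haveI := Fact.mk hl
  obtain ⟨i, -, hi⟩ := (Nat.dvd_prime_pow hl).1 (orderOf_dvd_of_pow_eq_one hv)
  obtain ⟨P⟩ : Nonempty (Sylow l (cen u)) := inferInstance
  obtain ⟨Q, hQ⟩ := (IsPGroup.of_card (n := i) (by rw [Nat.card_zpowers, hi]) :
    IsPGroup l (Subgroup.zpowers v)).exists_le_sylow
  obtain ⟨S, hS⟩ := (P.isPGroup'.map (cen u).subtype).exists_le_sylow
  have hSu : (S : Subgroup G) = (P : Subgroup (cen u)).map (cen u).subtype := by
    refine (Subgroup.eq_of_le_of_card_ge hS (le_of_eq ?_)).symm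
    rw [Subgroup.card_subtype, S.card_eq_multiplicity, P.card_eq_multiplicity, ← card_mul_ind u,
      Nat.factorization_mul Nat.card_pos.ne' (index_pos u).ne', Finsupp.add_apply,
      Nat.factorization_eq_zero_of_not_dvd hnd, add_zero]
  obtain ⟨w, hw⟩ := MulAction.exists_smul_eq G Q S
  refine ⟨w, Subgroup.map_subtype_le (P : Subgroup (cen u)) (hSu ▸ ?_)⟩
  rw [← hw, Sylow.coe_subgroup_smul]
  exact ⟨v, hQ (Subgroup.mem_zpowers v), rfl⟩

namespace Rank

variable (h : Rank G)
include h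

/-- The prime order of an element of a size coprime to the other divides that other size. -/
theorem prime_dvd {x z : G} {s : ℕ} (hx : x ≠ 1) (hs : s.Prime) (hzs : orderOf z = s)
    (hco : (ind x).Coprime (ind z)) : s ∣ ind x := by
  by_contra hnd
  have hz := ne_one_of_orderOf hs.ne_one hzs
  obtain ⟨w, hw⟩ := exists_conj_mem (k := 1) hs (by rw [pow_one, ← hzs, pow_orderOf_eq_one]) hnd
  exact h.not_comm_of_coprime (fun e => hz (conj_eq_one_iff.1 e)) hx
    (by rw [ind_conj]; exact hco.symm) hw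

/-- Centralisers of coprime minimal sizes meet trivially if the other sizes are multiples of the first. -/
theorem meet_of_multiples {x z : G} {s : ℕ} (hx : x ≠ 1) (hs : s.Prime) (hzs : orderOf z = s)
    (hco : (ind x).Coprime (ind z))
    (hall : ∀ y ∈ cen x ⊓ cen z, y ≠ 1 → ind x ∣ ind y) : cen x ⊓ cen z = ⊥ := by
  by_contra hne
  haveI := Fact.mk hs
  have hz := ne_one_of_orderOf hs.ne_one hzs
  set D := cen x ⊓ cen z
  have hDi : D.index = ind x * ind z := le_antisymm Subgroup.index_inf_le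
    (Nat.le_of_dvd (Nat.pos_of_ne_zero Subgroup.index_ne_zero_of_finite)
      (hco.mul_dvd_of_dvd_of_dvd (Subgroup.index_dvd_of_le inf_le_left)
        (Subgroup.index_dvd_of_le inf_le_right)))
  obtain ⟨P⟩ : Nonempty (Sylow s D) := inferInstance
  set R : Subgroup G := (P : Subgroup D).map D.subtype
  obtain ⟨w, hwD, hw1, hwR⟩ : ∃ w ∈ D, w ≠ 1 ∧ R ≤ cen w := by
    by_cases hR : (P : Subgroup D) = ⊥
    · obtain ⟨⟨w, hw⟩, hw1⟩ := Subgroup.ne_bot_iff_exists_ne_one.1 hne
      refine ⟨w, hw, fun e => hw1 (Subtype.ext e), ?_⟩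
      simp [R, hR]
    · haveI : Nontrivial P := (Subgroup.nontrivial_iff_ne_bot _).2 hR
      haveI := P.isPGroup'.center_nontrivial
      obtain ⟨⟨w, hwc⟩, hw1⟩ := exists_ne (1 : Subgroup.center (P : Subgroup D))
      refine ⟨((w : D) : G), (w : D).2, fun e => hw1 (Subtype.ext (Subtype.ext (Subtype.ext e))), ?_⟩
      rintro _ ⟨y, hy, rfl⟩
      exact mem_cen.2 (congrArg (fun t : P => ((t : D) : G)) (Subgroup.mem_center_iff.1 hwc ⟨y, hy⟩))
  have hzR : Subgroup.zpowers z ≤ Subgroup.centralizer (R : Set G) := by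
    rw [Subgroup.zpowers_le, Subgroup.mem_centralizer_iff]
    exact fun y hy => mem_cen.1 (Subgroup.map_subtype_le (P : Subgroup D) hy).2
  have hzp : IsPGroup s (Subgroup.zpowers z) :=
    IsPGroup.of_card (n := 1) (by rw [Nat.card_zpowers, hzs, pow_one])
  have hL := hzp.to_sup_of_normal_right' (P.isPGroup'.map D.subtype)
    (hzR.trans (Subgroup.centralizer_le_normalizer _))
  obtain ⟨j, hj⟩ := hL.exists_card_eq
  have hLw : Subgroup.zpowers z ⊔ R ≤ cen w := sup_le (Subgroup.zpowers_le.2 (mem_symm hwD.2)) hwR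
  have h1 : s ^ j * ind x ∣ Nat.card D * (ind x * ind z) := by
    rw [← hDi, D.card_mul_index, ← card_mul_ind w, ← hj]
    exact Nat.mul_dvd_mul (Subgroup.card_dvd_of_le hLw) (hall w hwD hw1)
  have hsc : ¬ s ∣ ind z := fun hd => hs.ne_one
    (Nat.eq_one_of_dvd_coprimes hco (h.prime_dvd hx hs hzs hco) hd)
  have h2 : s ^ j ∣ Nat.card D := by
    refine Nat.Coprime.dvd_of_dvd_mul_right ((hs.coprime_iff_not_dvd.2 hsc).pow_left j) ?_
    refine Nat.dvd_of_mul_dvd_mul_right (index_pos x) ?_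
    rwa [show Nat.card D * ind z * ind x = Nat.card D * (ind x * ind z) by ring]
  have hjle := (hs.pow_dvd_iff_le_factorization Nat.card_pos.ne').1 h2
  have hRc : Nat.card R = s ^ (Nat.card D).factorization s := by
    rw [Subgroup.card_map_of_injective D.subtype_injective, P.card_eq_multiplicity]
  have heq := Subgroup.eq_of_le_of_card_ge (le_sup_right : R ≤ Subgroup.zpowers z ⊔ R)
    (by rw [hj, hRc]; exact Nat.pow_le_pow_right hs.pos hjle)
  have hzD : z ∈ D := Subgroup.map_subtype_le _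
    (heq ▸ Subgroup.mem_sup_left (Subgroup.mem_zpowers z) : z ∈ R)
  exact h.not_comm_of_coprime hz hx hco.symm hzD.1

/-- Two chains of class sizes. -/
theorem two_chains {x z g k : G} (hxp : (orderOf x).Prime) (hzp : (orderOf z).Prime)
    (hmx : IsMin G (ind x)) (hmz : IsMin G (ind z)) (hne : ind x ≠ ind z) (hg : g ≠ 1) (hk : k ≠ 1)
    (hxg : ind x ∣ ind g) (hgx : ind g ≠ ind x) (hzk : ind z ∣ ind k) (hkz : ind k ≠ ind z)
    (hzg : ¬ ind z ∣ ind g) (hxk : ¬ ind x ∣ ind k) :
    (ind x).Coprime (ind z) ∧ Nat.card G = ind x * ind z ∧ Nat.card (cen x) = ind z ∧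
      Nat.card (cen z) = ind x ∧
      ∀ y : G, y ≠ 1 → ind y = ind x ∨ ind y = ind g ∨ ind y = ind z ∨ ind y = ind k := by
  have hx := ne_one_of_orderOf hxp.ne_one rfl
  have hz := ne_one_of_orderOf hzp.ne_one rfl
  have hgz : ind g ≠ ind z := fun e => hzg (e ▸ dvd_rfl)
  have hkx : ind k ≠ ind x := fun e => hxk (e ▸ dvd_rfl)
  have hgk : ind g ≠ ind k := fun e => hxk (e ▸ hxg)
  have hcases : ∀ y : G, y ≠ 1 → ind y = ind x ∨ ind y = ind g ∨ ind y = ind z ∨ ind y = ind k :=
    fun y hy => h.cases (h.mem_sizes hx) (h.mem_sizes hg) (h.mem_sizes hz) (h.mem_sizes hk)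
      (Ne.symm hgx) hne (Ne.symm hkx) hgz hgk (Ne.symm hkz) hy
  have hco : (ind x).Coprime (ind z) := by
    refine h.coprime_of_cover ⟨z, hz, rfl⟩ fun y hy => ?_
    rcases hcases y hy with e | e | e | e <;> rw [e]
    exacts [Or.inl dvd_rfl, Or.inl hxg, Or.inr dvd_rfl, Or.inr hzk]
  have hnone : ∀ y : G, y ≠ 1 → ind x ∣ ind y → ind z ∣ ind y → False := by
    intro y hy h1 h2
    rcases hcases y hy with e | e | e | e <;> rw [e] at h1 h2
    exacts [hne (hmx z hz h2).symm, hzg h2, hne (hmz x hx h1), hxk h1]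
  have hrs : orderOf x ≠ orderOf z := fun e => hzp.ne_one (Nat.eq_one_of_dvd_coprimes hco
    (h.prime_dvd hx hzp rfl hco) (e ▸ h.prime_dvd hz hxp rfl hco.symm))
  have key : ∀ {x z g : G}, (orderOf x).Prime → (orderOf z).Prime → (ind x).Coprime (ind z) →
      orderOf x ≠ orderOf z → g ≠ 1 → ind x ∣ ind g →
      (∀ y : G, y ≠ 1 → ind x ∣ ind y → ind z ∣ ind y → False) →
      (∀ y : G, y ≠ 1 → ind x ∣ ind y → ind y = ind x ∨ ind y = ind g) →
      ∀ y : G, y ∈ cen x → y ∈ cen z → (orderOf y).Prime → ind y ≠ ind g := by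
    intro x z g hxp hzp hco hrs hg hxg hnone hup y hyx hyz hyp he
    have hy := ne_one_of_orderOf hyp.ne_one rfl
    have hx := ne_one_of_orderOf hxp.ne_one rfl
    have hz := ne_one_of_orderOf hzp.ne_one rfl
    by_cases hq : orderOf y = orderOf z
    · have hc : (orderOf y).Coprime (orderOf x) := by
        rw [Nat.coprime_primes hyp hxp, hq]; exact Ne.symm hrs
      have hd := (ind_mul_dvd (mem_symm hyx) hc).1
      rcases hup _ (mul_ne_one_of_coprime hy hc) ((hxg.trans he.symm.dvd).trans hd) with e | e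
      · exact h.not_comm_of_coprime hy hz
          (Nat.Coprime.coprime_dvd_left (hd.trans e.dvd) hco) hyz
      · exact h.not_comm_of_coprime hx hz hco (mem_symm
          (cen_le_of_ind_mul (mem_symm hyx) hc (e.trans he.symm) (mem_symm hyz)))
    · have hc : (orderOf y).Coprime (orderOf z) := (Nat.coprime_primes hyp hzp).2 hq
      obtain ⟨h1, h2⟩ := ind_mul_dvd (mem_symm hyz) hc
      exact hnone _ (mul_ne_one_of_coprime hy hc) ((hxg.trans he.symm.dvd).trans h1) h2
  have hupx : ∀ y : G, y ≠ 1 → ind x ∣ ind y → ind y = ind x ∨ ind y = ind g := fun y hy hd => by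
    rcases hcases y hy with e | e | e | e <;> rw [e] at hd
    exacts [Or.inl e, Or.inr e, absurd (hmz x hx hd) hne, absurd hd hxk]
  have hupz : ∀ y : G, y ≠ 1 → ind z ∣ ind y → ind y = ind z ∨ ind y = ind k := fun y hy hd => by
    rcases hcases y hy with e | e | e | e <;> rw [e] at hd
    exacts [absurd (hmx z hz hd).symm hne, absurd hd hzg, Or.inl e, Or.inr e]
  have hD : cen x ⊓ cen z = ⊥ := by
    rw [Subgroup.eq_bot_iff_forall]
    intro w hw
    by_contra hw1
    obtain ⟨q, m, hq, -, hqm⟩ := exists_prime_pow hw1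
    have hy := ne_one_of_orderOf hq.ne_one hqm
    have hyx := (cen x).pow_mem hw.1 m
    have hyz := (cen z).pow_mem hw.2 m
    rcases hcases _ hy with e | e | e | e
    · exact h.not_comm_of_coprime hy hz (e ▸ hco) hyz
    · exact key hxp hzp hco hrs hg hxg hnone hupx _ hyx hyz (hqm ▸ hq) e
    · exact h.not_comm_of_coprime hy hx (e ▸ hco.symm) hyx
    · exact key hzp hxp hco.symm (Ne.symm hrs) hk hzk (fun y hy a b => hnone y hy b a) hupz _ hyz hyx
        (hqm ▸ hq) e
  obtain ⟨h1, h2, h3⟩ := h.card_of_trivial_meet hco hD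
  exact ⟨hco, h1, h2, h3, hcases⟩

variable (hup : UpOne G)
include hup

/-- Every size is minimal or maximal. -/
theorem min_or_max {g : G} (hg : g ≠ 1) : IsMin G (ind g) ∨ IsMax G (ind g) := by
  by_cases hmin : IsMin G (ind g)
  · exact Or.inl hmin
  refine Or.inr fun k hk hd => ?_
  obtain ⟨x, hxp, hxm, hxg⟩ := h.exists_prime_min hg
  have hne : ind g ≠ ind x := fun e => hmin (e ▸ hxm)
  refine (hup x g k (ne_one_of_orderOf hxp.ne_one rfl) hg hk hxm hxg (hxg.trans hd) hne fun e => ?_).symm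
  exact hne (Nat.dvd_antisymm (e ▸ hd) hxg)

/-- Two maximal sizes over different minimal sizes give two chains. -/
theorem chains_of_ne {x z g k : G} (hxp : (orderOf x).Prime) (hzp : (orderOf z).Prime)
    (hmx : IsMin G (ind x)) (hmz : IsMin G (ind z)) (hne : ind x ≠ ind z) (hg : g ≠ 1) (hk : k ≠ 1)
    (hxg : ind x ∣ ind g) (hgx : ind g ≠ ind x) (hzk : ind z ∣ ind k) (hkz : ind k ≠ ind z)
    (hgk : ind g ≠ ind k) :
    (ind x).Coprime (ind z) ∧ Nat.card G = ind x * ind z ∧ Nat.card (cen x) = ind z ∧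
      Nat.card (cen z) = ind x ∧
      ∀ y : G, y ≠ 1 → ind y = ind x ∨ ind y = ind g ∨ ind y = ind z ∨ ind y = ind k := by
  have hx := ne_one_of_orderOf hxp.ne_one rfl
  have hz := ne_one_of_orderOf hzp.ne_one rfl
  refine h.two_chains hxp hzp hmx hmz hne hg hk hxg hgx hzk hkz (fun hd => ?_) fun hd => ?_
  · refine hgk (hup z g k hz hg hk hmz hd hzk (fun e => hne ?_) hkz)
    exact hmz x hx (e ▸ hxg)
  · refine hgk (hup x g k hx hg hk hmx hxg hd hgx fun e => hne ?_)
    exact (hmx z hz (e ▸ hzk)).symm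

end Rank

end Cfsg.Agent.ConjRankFour
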