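import Cfsg.Agent.Lib.ConjRankFour.Poset
import Cfsg.Agent.Lib.ConjRankFour.Local

/-!
# The centraliser of an involution of minimal class size
-/

set_option autoImplicit false
set_option linter.style.haveILetI false
set_option linter.unusedSectionVars false

namespace Cfsg.Agent.ConjRankFour

open Cfsg.Agent.ConjRankThree

universe u

variable {G : Type u} [Group G] [Finite G]

/-- An involution `v` of minimal class size with the proper multiple `b`. -/
structure Inv (v : G) (b : ℕ) : Prop where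
  rank : Rank G
  ord : orderOf v = 2
  min : IsMin G (ind v)
  bmem : ∃ g : G, g ≠ 1 ∧ ind g = b
  ab : ind v ∣ b
  ne : b ≠ ind v
  up : ∀ g : G, g ≠ 1 → ind v ∣ ind g → ind g = ind v ∨ ind g = b
  gen : ∀ g ∈ cen v, g ≠ 1 → ind g = b ∨ IsMin G (ind g)

/-- The centre of the centraliser. -/
abbrev Zc (v : G) : Subgroup G := cen v ⊓ Subgroup.centralizer (cen v : Set G)

theorem mem_Zc {v g : G} : g ∈ Zc v ↔ g ∈ cen v ∧ cen v ≤ cen g := by
  refine Subgroup.mem_inf.trans (and_congr_right fun _ => ?_)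
  rw [Subgroup.mem_centralizer_iff]
  exact ⟨fun h y hy => mem_cen.2 (h y hy), fun h y hy => mem_cen.1 (h hy)⟩

theorem self_mem_Zc (v : G) : v ∈ Zc v := mem_Zc.2 ⟨self_mem v, le_rfl⟩

theorem Rank.inv_mk (h : Rank G) (hup : UpOne G) {v : G} (hv : orderOf v = 2) (hmin : IsMin G (ind v))
    {g₀ : G} (hg₀ : g₀ ≠ 1) (hd : ind v ∣ ind g₀) (hne : ind g₀ ≠ ind v) : Inv v (ind g₀) := by
  have hv1 := ne_one_of_orderOf (by norm_num) hv
  refine ⟨h, hv, hmin, ⟨g₀, hg₀, rfl⟩, hd, hne, fun g hg hdg => ?_, fun g hgv hg => ?_⟩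
  · by_cases he : ind g = ind v
    · exact Or.inl he
    · exact Or.inr (hup v g g₀ hv1 hg hg₀ hmin hdg hd he hne)
  · by_contra hc
    push Not at hc
    obtain ⟨hgb, hgm⟩ := hc
    obtain ⟨z, hzp, hzm, hzg⟩ := h.exists_prime_min hg
    have hz := ne_one_of_orderOf hzp.ne_one rfl
    have hgz : ind g ≠ ind z := fun e => hgm (e ▸ hzm)
    have hvz : ind v ≠ ind z := fun e => hgb (hup v g g₀ hv1 hg hg₀ hmin (e ▸ hzg) hd (e ▸ hgz) hne)
    obtain ⟨hco, hcard, hcv, -, -⟩ := h.chains_of_ne hup (hv.symm ▸ Nat.prime_two) hzp hmin hzm hvz hg₀ hg hd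
      hne hzg hgz (Ne.symm hgb)
    -- both sizes would be even
    have h2z : 2 ∣ ind z := hcv ▸ hv ▸ Subgroup.orderOf_dvd_natCard _ (self_mem v)
    obtain ⟨k, hk⟩ := hzg
    have h2g : 2 ∣ Nat.card (cen g) := hv ▸ Subgroup.orderOf_dvd_natCard _ (mem_symm hgv)
    have h3 := card_mul_ind g
    rw [hcard, hk, show Nat.card (cen g) * (ind z * k) = Nat.card (cen g) * k * ind z by ring] at h3
    have h4 := Nat.eq_of_mul_eq_mul_right (index_pos z) h3
    exact Nat.prime_two.ne_one (Nat.eq_one_of_dvd_coprimes hco (h4 ▸ h2g.mul_right k) h2z)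

theorem card_eq_of_ind {g k : G} (e : ind g = ind k) : Nat.card (cen g) = Nat.card (cen k) := by
  have h1 := card_mul_ind g
  have h2 := card_mul_ind k
  rw [e] at h1
  exact Nat.eq_of_mul_eq_mul_right (index_pos k) (h1.trans h2.symm)

theorem odd_coprime {v w : G} (hv : orderOf v = 2) (hw : Odd (orderOf w)) :
    (orderOf v).Coprime (orderOf w) := by
  rw [hv]
  exact Nat.coprime_two_left.2 hw

theorem pel_coprime {g w : G} (hg : ThreeSizes.PEl 2 g) (hw : Odd (orderOf w)) :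
    (orderOf g).Coprime (orderOf w) := by
  obtain ⟨k, hk⟩ := hg
  exact Nat.Coprime.coprime_dvd_left (orderOf_dvd_of_pow_eq_one hk)
    ((Nat.coprime_two_left.2 hw).pow_left k)

theorem pel_two {v : G} (hv : orderOf v = 2) : ThreeSizes.PEl 2 v :=
  ⟨1, by rw [pow_one, ← hv, pow_orderOf_eq_one]⟩

theorem odd_of_pel {l : ℕ} (hl : l.Prime) (hl2 : l ≠ 2) {w : G} (hw : ThreeSizes.PEl l w) :
    Odd (orderOf w) :=
  Nat.coprime_two_right.1 (orderOf_coprime_of_pel hl Nat.prime_two hl2 hw)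

/-- A `p`-group inside a subgroup is no larger than a Sylow subgroup of it. -/
theorem card_le_sylow {p : ℕ} [Fact p.Prime] {L C : Subgroup G} (hL : IsPGroup p L) (hLC : L ≤ C)
    (P : Sylow p C) : Nat.card L ≤ Nat.card P := by
  obtain ⟨n, hn⟩ := hL.exists_card_eq
  rw [hn, P.card_eq_multiplicity]
  refine Nat.pow_le_pow_right (Fact.out : p.Prime).pos ?_
  exact ((Fact.out : p.Prime).pow_dvd_iff_le_factorization Nat.card_pos.ne').1
    (hn ▸ Subgroup.card_dvd_of_le hLC)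

namespace Inv

variable {v : G} {b : ℕ} (w : Inv v b)
include w

theorem v_ne : v ≠ 1 := ne_one_of_orderOf (by norm_num) w.ord

theorem not_b_dvd : ¬ b ∣ ind v := fun h => by
  obtain ⟨g, hg, rfl⟩ := w.bmem
  exact w.ne (w.min g hg h)

theorem isMax {g : G} (hg : ind g = b) : IsMax G (ind g) := fun k hk hd => by
  rw [hg] at hd ⊢
  rcases w.up k hk (w.ab.trans hd) with e | e
  · exact absurd (e ▸ hd) w.not_b_dvd
  · exact e

theorem cen_eq_of_central {g : G} (hg : g ∈ Zc v) (hg1 : g ≠ 1) : cen g = cen v :=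
  (w.min.cen_eq hg1 (mem_Zc.1 hg).2).symm

theorem central_of_cen_eq {g : G} (h : cen g = cen v) : g ∈ Zc v :=
  mem_Zc.2 ⟨h ▸ self_mem g, h.ge⟩

theorem ind_mul_v {y : G} (hy : y ∈ cen v) (hodd : Odd (orderOf y)) (hne : y ∉ Zc v) :
    ind (v * y) = b := by
  have hco := odd_coprime w.ord hodd
  rcases w.up _ (mul_ne_one_of_coprime w.v_ne hco) (ind_mul_dvd hy hco).1 with e | e
  · exact absurd (mem_Zc.2 ⟨hy, cen_le_of_ind_mul hy hco e⟩) hne
  · exact e

theorem cen_mul_v {y : G} (hy : y ∈ cen v) (hodd : Odd (orderOf y)) :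
    cen (v * y) = cen v ⊓ cen y := cen_mul hy (odd_coprime w.ord hodd)

theorem card_cv {y g : G} (hy : y ∈ cen v) (hodd : Odd (orderOf y)) (hne : y ∉ Zc v) (hg : ind g = b) :
    Nat.card ↥(cen v ⊓ cen y) = Nat.card (cen g) := by
  rw [← w.cen_mul_v hy hodd]
  exact card_eq_of_ind ((w.ind_mul_v hy hodd hne).trans hg.symm)

/-- A noncentral element of `cen v` whose size is not `b`. -/
theorem top_min {g : G} (hg : g ∈ cen v) (hne : g ∉ Zc v) (hb : ind g ≠ b) : IsMin G (ind g) :=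
  (w.gen g hg fun e => hne (e ▸ one_mem _)).resolve_left hb

theorem top_pow {g : G} (hg : g ∈ cen v) (hne : g ∉ Zc v) (hb : ind g ≠ b) {j : ℕ} (hj : g ^ j ≠ 1) :
    g ^ j ∉ Zc v ∧ cen g = cen (g ^ j) := by
  have he := cen_pow_eq (w.top_min hg hne hb) j hj
  exact ⟨fun hz => hne (w.central_of_cen_eq (he.trans (w.cen_eq_of_central hz hj))), he⟩

/-- The doubling trick: such an element is an involution if its product with `v` is another. -/
theorem sq_eq_one {g : G} (hg : g ∈ cen v) (hne : g ∉ Zc v) (hb : ind g ≠ b) (hb' : ind (g * v) ≠ b) :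
    g * g = 1 := by
  by_contra h2
  rw [← pow_two] at h2
  have hvz := self_mem_Zc v
  have hgv : g * v ∈ cen v := mul_mem hg (self_mem v)
  have hgvz : g * v ∉ Zc v := fun h => hne (by
    have := mul_mem h (inv_mem hvz)
    rwa [mul_inv_cancel_right] at this)
  have hc : (g * v) ^ 2 = g ^ 2 := by
    rw [(show Commute g v from mem_cen.1 hg).mul_pow,
      show v ^ 2 = 1 by rw [← w.ord]; exact pow_orderOf_eq_one v, mul_one]
  obtain ⟨-, e1⟩ := w.top_pow hg hne hb h2
  obtain ⟨-, e2⟩ := w.top_pow hgv hgvz hb' (hc ▸ h2)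
  rw [hc, ← e1] at e2
  have hle : cen g ≤ cen v := fun y hy => by
    have h1 : Commute y g := mem_cen.1 hy
    have h3 : Commute y (g * v) := mem_cen.1 (e2.symm ▸ hy)
    exact mem_cen.2 (by simpa using (h1.inv_right.mul_right h3).eq)
  exact hne (w.central_of_cen_eq ((w.top_min hg hne hb).cen_eq w.v_ne hle))

/-- In the centraliser of a `2`-element of size `b` the odd elements are central. -/
theorem odd_central {g y : G} (hg : g ≠ 1) (h2 : ThreeSizes.PEl 2 g) (hb : ind g = b) (hy : y ∈ cen g)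
    (hodd : Odd (orderOf y)) : cen g ≤ cen y :=
  cen_le_of_isMax hg (w.isMax hb) hy (pel_coprime h2 hodd)

/-- A Sylow subgroup of the centraliser of an element of size `b` is not central in `cen v`. -/
theorem sylow_not_central {g y : G} (hg : ind g = b) {l : ℕ} [Fact l.Prime] (hl : l ≠ 2)
    (R : Sylow l (cen g)) (hy : y ∈ cen v) (hyl : ThreeSizes.PEl l y) (hne : y ∉ Zc v) :
    ¬ (R : Subgroup (cen g)).map (cen g).subtype ≤ Zc v := by
  intro hle
  have hlp : l.Prime := Fact.out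
  obtain ⟨Z0⟩ : Nonempty (Sylow l (Zc v)) := inferInstance
  set Zl : Subgroup G := (Z0 : Subgroup (Zc v)).map (Zc v).subtype
  have hyodd := odd_of_pel hlp hl hyl
  obtain ⟨k, hk⟩ := hyl
  obtain ⟨i, -, hi⟩ := (Nat.dvd_prime_pow hlp).1 (orderOf_dvd_of_pow_eq_one hk)
  have hyp : IsPGroup l (Subgroup.zpowers y) := IsPGroup.of_card (n := i) (by rw [Nat.card_zpowers, hi])
  have hnorm : Subgroup.zpowers y ≤ Subgroup.normalizer (Zl : Set G) := by
    refine le_trans ?_ (Subgroup.centralizer_le_normalizer _)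
    rw [Subgroup.zpowers_le, Subgroup.mem_centralizer_iff]
    exact fun z hz => (mem_cen.1 ((mem_Zc.1 (Subgroup.map_subtype_le _ hz)).2 hy)).symm
  have hL := hyp.to_sup_of_normal_right' (Z0.isPGroup'.map (Zc v).subtype) hnorm
  have hLle : Subgroup.zpowers y ⊔ Zl ≤ cen (v * y) := by
    rw [w.cen_mul_v hy hyodd]
    refine sup_le ?_ fun z hz => ?_
    · rw [Subgroup.zpowers_le]; exact ⟨hy, self_mem y⟩
    · have hz' := mem_Zc.1 (Subgroup.map_subtype_le (Z0 : Subgroup (Zc v)) hz)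
      exact ⟨hz'.1, mem_symm (hz'.2 hy)⟩
  obtain ⟨P⟩ : Nonempty (Sylow l (cen (v * y))) := inferInstance
  have h1 : Nat.card ↥(Subgroup.zpowers y ⊔ Zl) ≤ Nat.card P := card_le_sylow hL hLle P
  have h2 : Nat.card P = Nat.card R := by
    rw [P.card_eq_multiplicity, R.card_eq_multiplicity,
      card_eq_of_ind ((w.ind_mul_v hy hyodd hne).trans hg.symm)]
  have h3 := card_le_sylow (R.isPGroup'.map (cen g).subtype) hle Z0
  rw [Subgroup.card_subtype] at h3
  have heq := Subgroup.eq_of_le_of_card_ge (le_sup_right : Zl ≤ Subgroup.zpowers y ⊔ Zl)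
    (by rw [Subgroup.card_subtype]; omega)
  exact hne (Subgroup.map_subtype_le (Z0 : Subgroup (Zc v))
    (heq.ge (Subgroup.mem_sup_left (Subgroup.mem_zpowers y))))

theorem exists_primary {y : G} (hy : y ∈ cen v) (hodd : Odd (orderOf y)) (hne : y ∉ Zc v) :
    ∃ (l : ℕ) (x : G), l.Prime ∧ l ≠ 2 ∧ x ∈ cen v ∧ ThreeSizes.PEl l x ∧ x ∉ Zc v := by
  obtain ⟨l, n, hl, hp, hn⟩ := ThreeSizes.exists_primary_not_mem hne
  refine ⟨l, y ^ n, hl, fun e => hn ?_, (cen v).pow_mem hy n, hp, hn⟩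
  obtain ⟨k, hk⟩ := hp
  have h1 : (y ^ n) = 1 := ThreeSizes.eq_one_of_coprime
    ((Nat.coprime_two_left.2 (hodd.of_dvd_nat (orderOf_pow_dvd n))).pow_left k) (e ▸ hk)
    (pow_orderOf_eq_one _)
  rw [h1]
  exact one_mem _

theorem index_subtype {y : G} (hy : y ∈ cen v) (hodd : Odd (orderOf y)) :
    (cen (⟨y, hy⟩ : cen v)).index * ind v = ind (v * y) :=
  index_cen_mul hy (odd_coprime w.ord hodd)

end Inv

/-- The centraliser has a normal Sylow `2`-subgroup centralised by all odd elements. -/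
structure NType (v : G) (S : Subgroup G) : Prop where
  isP : IsPGroup 2 S
  le : S ≤ cen v
  mem : ∀ s ∈ cen v, ThreeSizes.PEl 2 s → s ∈ S
  comm : ∀ s ∈ S, ∀ y ∈ cen v, Odd (orderOf y) → s * y = y * s

/-- A group in which elements of odd order have odd class sizes. -/
theorem sylow_central_of_odd_sizes {C : Type u} [Group C] [Finite C]
    (hC : ∀ y : C, Odd (orderOf y) → ¬ 2 ∣ ind y) :
    ∃ S : Subgroup C, IsPGroup 2 S ∧ (∀ s : C, ThreeSizes.PEl 2 s → s ∈ S) ∧
      ∀ s ∈ S, ∀ y : C, Odd (orderOf y) → s * y = y * s := by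
  haveI : Fact (Nat.Prime 2) := ⟨Nat.prime_two⟩
  obtain ⟨S⟩ : Nonempty (Sylow 2 C) := inferInstance
  have key : ∀ g : C, Odd (orderOf g) → ∀ P : Subgroup C, IsPGroup 2 P → P ≤ cen g →
      ∃ T : Sylow 2 C, P ≤ T ∧ (T : Subgroup C) ≤ cen g := by
    intro g hg P hP hPg
    obtain ⟨R, hR⟩ := (hP.comap_subtype (K := cen g)).exists_le_sylow
    obtain ⟨T, hT⟩ := (R.isPGroup'.map (cen g).subtype).exists_le_sylow
    have hTR : (T : Subgroup C) = (R : Subgroup (cen g)).map (cen g).subtype := by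
      refine (Subgroup.eq_of_le_of_card_ge hT (le_of_eq ?_)).symm
      rw [Subgroup.card_subtype, T.card_eq_multiplicity, R.card_eq_multiplicity, ← card_mul_ind g,
        Nat.factorization_mul Nat.card_pos.ne' (index_pos g).ne', Finsupp.add_apply,
        Nat.factorization_eq_zero_of_not_dvd (hC g hg), add_zero]
    exact ⟨T, fun p hp => hTR ▸ ⟨⟨p, hPg hp⟩, hR hp, rfl⟩, hTR ▸ Subgroup.map_subtype_le _⟩
  have htop : (S : Subgroup C) ⊔ Subgroup.centralizer ((S : Subgroup C) : Set C) = ⊤ := by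
    refine Counting.eq_top_of_conj_cover _ fun g => ?_
    obtain ⟨g₂, g', he, h2m, h'm, ⟨k, hk⟩, hg'⟩ := PBasic.exists_pPart_mul (p := 2) g
    obtain ⟨i2, hi2⟩ := Subgroup.mem_zpowers_iff.1 h2m
    obtain ⟨i', hi'⟩ := Subgroup.mem_zpowers_iff.1 h'm
    have hc : Commute g₂ g' := by rw [← hi2, ← hi']; exact Commute.zpow_zpow_self g i2 i'
    have hP : IsPGroup 2 (Subgroup.zpowers g₂) := IsPGroup.of_card (by rw [Nat.card_zpowers, hk])
    obtain ⟨T, hPT, hTg⟩ := key g' (Nat.coprime_two_right.1 hg') _ hP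
      (by rw [Subgroup.zpowers_le, mem_cen]; exact hc.eq)
    obtain ⟨c, hc'⟩ := MulAction.exists_smul_eq C S T
    refine ⟨c, ?_⟩
    have h1 : ∀ s : C, s ∈ (S : Subgroup C) → c * s * c⁻¹ ∈ (T : Subgroup C) := fun s hs => by
      rw [← hc', Sylow.coe_subgroup_smul]
      exact ⟨s, hs, rfl⟩
    have h2 : c⁻¹ * g₂ * c ∈ (S : Subgroup C) := by
      have := hPT (Subgroup.mem_zpowers g₂)
      rw [← hc', Sylow.coe_subgroup_smul] at this
      obtain ⟨s, hs, e⟩ := this
      rw [← e]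
      show c⁻¹ * (c * s * c⁻¹) * c ∈ (S : Subgroup C)
      rw [show c⁻¹ * (c * s * c⁻¹) * c = s by group]
      exact hs
    have h3 : c⁻¹ * g' * c ∈ Subgroup.centralizer ((S : Subgroup C) : Set C) := by
      refine Subgroup.mem_centralizer_iff.2 fun s hs => ?_
      have := mem_cen.1 (hTg (h1 s hs))
      calc s * (c⁻¹ * g' * c) = c⁻¹ * (c * s * c⁻¹ * g') * c := by group
        _ = c⁻¹ * (g' * (c * s * c⁻¹)) * c := by rw [this]
        _ = c⁻¹ * g' * c * s := by group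
    rw [← he, show c⁻¹ * (g₂ * g') * c = (c⁻¹ * g₂ * c) * (c⁻¹ * g' * c) by group]
    exact mul_mem (Subgroup.mem_sup_left h2) (Subgroup.mem_sup_right h3)
  haveI : (S : Subgroup C).Normal := Subgroup.normalizer_eq_top_iff.1 (top_le_iff.1 (htop ▸
    sup_le Subgroup.le_normalizer (Subgroup.centralizer_le_normalizer _)))
  haveI := S.unique_of_normal inferInstance
  refine ⟨S, S.isPGroup', fun s ⟨k, hk⟩ => ?_, fun s hs y hy => ?_⟩
  · obtain ⟨i, -, hi⟩ := (Nat.dvd_prime_pow Nat.prime_two).1 (orderOf_dvd_of_pow_eq_one hk)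
    obtain ⟨T, hT⟩ := (IsPGroup.of_card (n := i) (by rw [Nat.card_zpowers, hi]) :
      IsPGroup 2 (Subgroup.zpowers s)).exists_le_sylow
    exact Subsingleton.elim T S ▸ hT (Subgroup.mem_zpowers s)
  · obtain ⟨T, -, hT⟩ := key y hy ⊥ (IsPGroup.of_bot) bot_le
    exact mem_cen.1 (hT (Subsingleton.elim T S ▸ hs))

/-- The first type. -/
theorem Inv.nType {v : G} {b : ℕ} (w : Inv v b)
    (hodd : ∀ y ∈ cen v, Odd (orderOf y) → y ∉ Zc v → ¬ 2 * ind v ∣ b) : ∃ S, NType v S := by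
  obtain ⟨S, hS, hmem, hcomm⟩ := sylow_central_of_odd_sizes (C := cen v) (by
    rintro ⟨y, hy⟩ hyo hd
    rw [Subgroup.orderOf_mk] at hyo
    by_cases hz : y ∈ Zc v
    · have h1 : cen (⟨y, hy⟩ : cen v) = ⊤ := eq_top_iff.2 fun t _ =>
        mem_cen.2 (Subtype.ext (mem_cen.1 ((mem_Zc.1 hz).2 t.2)))
      rw [ind, h1, Subgroup.index_top] at hd
      omega
    · refine hodd y hy hyo hz ?_
      rw [← w.ind_mul_v hy hyo hz, ← w.index_subtype hy hyo]
      exact Nat.mul_dvd_mul_right hd _)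
  refine ⟨S.map (cen v).subtype, hS.map _, Subgroup.map_subtype_le _, fun s hs h => ?_, ?_⟩
  · exact ⟨⟨s, hs⟩, hmem _ h.restrict, rfl⟩
  · rintro _ ⟨s, hs, rfl⟩ y hy hyo
    exact congrArg Subtype.val (hcomm s hs ⟨y, hy⟩ (by rwa [Subgroup.orderOf_mk]))

end Cfsg.Agent.ConjRankFour
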