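import Cfsg.Agent.Lib.ConjRankFour.Wide

/-!
# Minimal sizes have at most one proper multiple
-/

set_option autoImplicit false
set_option linter.style.haveILetI false
set_option linter.unusedSectionVars false

namespace Cfsg.Agent.ConjRankFour

open Cfsg.Agent.ConjRankThree

universe u

variable {G : Type u} [Group G] [Finite G]

theorem Rank.upOne (h : Rank G) (hL : ¬ Listed G) : UpOne G := by
  intro x₁ g k hx₁ hg hk hmin hxg hxk hgx hkx
  by_contra hnm
  obtain ⟨x, hxp, hxm, hxd⟩ := h.exists_prime_min hx₁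
  have hx := ne_one_of_orderOf hxp.ne_one rfl
  have hxa : ind x = ind x₁ := hmin x hx hxd
  rw [← hxa] at hxg hxk hgx hkx hmin
  obtain ⟨y, hy, hya, hyn, hym⟩ := h.exists_fourth (ind x) (ind g) (ind k)
  have hcases : ∀ w : G, w ≠ 1 → ind w = ind x ∨ ind w = ind g ∨ ind w = ind k ∨ ind w = ind y :=
    fun w hw => h.cases (h.mem_sizes hx) (h.mem_sizes hg) (h.mem_sizes hk) (h.mem_sizes hy)
      (Ne.symm hgx) (Ne.symm hkx) (Ne.symm hya) hnm (Ne.symm hyn) (Ne.symm hym) hw
  have hay : ¬ ind x ∣ ind y := by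
    intro hd
    have : (ind x).Coprime (ind x) := h.coprime_of_cover ⟨x, hx, rfl⟩ fun w hw => Or.inl (by
      rcases hcases w hw with e | e | e | e
      exacts [dvd_of_eq e.symm, e.symm ▸ hxg, e.symm ▸ hxk, e.symm ▸ hd])
    exact (h.one_lt hx).ne' ((Nat.coprime_self (ind x)).1 this)
  obtain ⟨z, hzp, hzm, hzd⟩ := h.exists_prime_min hy
  have hz := ne_one_of_orderOf hzp.ne_one rfl
  have hzy : ind z = ind y := by
    rcases hcases z hz with e | e | e | e
    exacts [absurd (e ▸ hzd) hay, absurd (hxg.trans (e ▸ hzd)) hay, absurd (hxk.trans (e ▸ hzd)) hay, e]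
  rw [← hzy] at hya hyn hym hay hcases
  have hco : (ind x).Coprime (ind z) := by
    refine h.coprime_of_cover ⟨z, hz, rfl⟩ fun w hw => ?_
    rcases hcases w hw with e | e | e | e <;> rw [e]
    exacts [Or.inl dvd_rfl, Or.inl hxg, Or.inl hxk, Or.inr dvd_rfl]
  have hD : cen x ⊓ cen z = ⊥ := by
    refine h.meet_of_multiples hx hzp rfl hco fun w hw hw1 => ?_
    rcases hcases w hw1 with e | e | e | e
    · exact (h.not_comm_of_coprime hw1 hz (e ▸ hco) hw.2).elim
    · exact e ▸ hxg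
    · exact e ▸ hxk
    · exact (h.not_comm_of_coprime hw1 hx (e ▸ hco.symm) hw.1).elim
  obtain ⟨hcard, hcx, hcz⟩ := h.card_of_trivial_meet hco hD
  have hnot : ∀ w : G, w ≠ 1 → ind x ∣ ind w → ¬ ind z ∣ ind w := by
    intro w hw h1 h2
    have h3 := hco.mul_dvd_of_dvd_of_dvd h1 h2
    rw [← hcard, ← card_mul_ind w] at h3
    have h4 : Nat.card (cen w) = 1 := Nat.eq_one_of_dvd_one
      (Nat.dvd_of_mul_dvd_mul_right (index_pos w) (by rwa [one_mul]))
    exact hw (Subgroup.mem_bot.1 (Subgroup.eq_bot_of_card_eq _ h4 ▸ self_mem w))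
  have hfree : IsMax G (ind z) := fun w hw hd => by
    rcases hcases w hw with e | e | e | e
    exacts [absurd hd (hnot w hw (e ▸ dvd_rfl)), absurd hd (hnot w hw (e ▸ hxg)),
      absurd hd (hnot w hw (e ▸ hxk)), e]
  rcases h.free_cases hz hzm hfree with ⟨hcomm, hcc⟩ | ⟨r, hr, hp⟩
  · by_cases h2 : 2 ∣ Nat.card (cen z)
    · haveI : IsMulCommutative (cen z) := ⟨⟨fun a b => Subtype.ext (hcomm a a.2 b b.2)⟩⟩
      letI : CommGroup (cen z) := { (inferInstance : Group (cen z)) with mul_comm := mul_comm' }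
      exact hL (h.listed_of_nilpotent CommGroup.isNilpotent h2 fun v hv hv1 => (hcc v hv hv1).le)
    · exact Wd.false ⟨h, hxp, hmin, hz, hnm, hxg, hxk, hgx, hkx, ⟨g, hg, rfl⟩, ⟨k, hk, rfl⟩, hco,
        hcard, hcx, hcz, hcc, hcomm, hcases, hnot g hg hxg, hnot k hk hxk,
        Nat.not_even_iff_odd.1 fun he => h2 (hcz ▸ he.two_dvd)⟩
  · haveI := Fact.mk hr
    obtain ⟨i, hi⟩ := hp.exists_card_eq
    exact h.not_prime_pow hx hr (hcz ▸ hi)

end Cfsg.Agent.ConjRankFour
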