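import Cfsg.Agent.Lib.ConjRankFour.Poset
import Cfsg.Agent.Lib.ConjRankFour.Local
import Cfsg.Agent.Lib.ConjRankFour.Isolated
import Cfsg.Agent.Lib.Involutions.SwapCount
import Cfsg.Agent.S0205

/-!
# A minimal size with two proper multiples
-/

set_option autoImplicit false
set_option linter.style.haveILetI false
set_option linter.unusedSectionVars false

namespace Cfsg.Agent.ConjRankFour

open Cfsg.Agent.ConjRankThree

universe u

variable {G : Type u} [Group G] [Finite G]

/-- The configuration: `x` has minimal size with the multiples `n` and `m`, and `z` has the free size. -/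
structure Wd (x z : G) (n m : ℕ) : Prop where
  rank : Rank G
  xp : (orderOf x).Prime
  xmin : IsMin G (ind x)
  hz : z ≠ 1
  nm : n ≠ m
  an : ind x ∣ n
  am : ind x ∣ m
  nne : n ≠ ind x
  mne : m ≠ ind x
  exn : ∃ g : G, g ≠ 1 ∧ ind g = n
  exm : ∃ g : G, g ≠ 1 ∧ ind g = m
  cop : (ind x).Coprime (ind z)
  card : Nat.card G = ind x * ind z
  cardx : Nat.card (cen x) = ind z
  cardz : Nat.card (cen z) = ind x
  cc : ∀ k ∈ cen z, k ≠ 1 → cen k = cen z
  comm : ∀ u ∈ cen z, ∀ v ∈ cen z, u * v = v * u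
  vals : ∀ g : G, g ≠ 1 → ind g = ind x ∨ ind g = n ∨ ind g = m ∨ ind g = ind z
  zn : ¬ ind z ∣ n
  zm : ¬ ind z ∣ m
  odd_a : Odd (ind x)

namespace Wd

variable {x z : G} {n m : ℕ} (w : Wd x z n m)
include w

theorem x_ne : x ≠ 1 := ne_one_of_orderOf w.xp.ne_one rfl

theorem hvals (g : G) (hg : g ≠ 1) : ind g = ind z ∨ (ind x ∣ ind g ∧ ¬ ind z ∣ ind g) := by
  have hz1 : ¬ ind z ∣ ind x := fun h =>
    (w.rank.one_lt w.hz).ne' (Nat.eq_one_of_dvd_coprimes w.cop h dvd_rfl)
  rcases w.vals g hg with e | e | e | e <;> rw [e]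
  exacts [Or.inr ⟨dvd_rfl, hz1⟩, Or.inr ⟨w.an, w.zn⟩, Or.inr ⟨w.am, w.zm⟩, Or.inl rfl]

theorem iso (g : G) (hg : g * x * g⁻¹ ∈ cen x) : g * x * g⁻¹ = x :=
  haveI := w.rank.simple
  isolated w.rank.center w.xp rfl rfl w.hz rfl w.cop w.card w.cc w.comm w.hvals g hg

theorem mem_of_conj {g : G} (hg : g * x * g⁻¹ ∈ cen x) : g ∈ cen x :=
  mem_cen.2 (by rw [← mul_inv_eq_iff_eq_mul]; exact w.iso g hg)

theorem invol_ind {u : G} (hu : orderOf u = 2) : ind u = n ∨ ind u = m := by
  have hu1 := ne_one_of_orderOf (by norm_num) hu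
  rcases w.vals u hu1 with e | e | e | e
  · exfalso
    haveI := w.rank.simple
    exact isolated_false w.rank.center hu e w.hz rfl w.cop w.card w.cc w.comm w.hvals
  · exact Or.inl e
  · exact Or.inr e
  · exfalso
    have h1 : 2 ∣ Nat.card (cen u) := hu ▸ Subgroup.orderOf_dvd_natCard _ (self_mem u)
    have h2 := card_mul_ind u
    rw [e, w.card] at h2
    rw [Nat.eq_of_mul_eq_mul_right (index_pos z) h2] at h1
    exact Nat.not_even_iff_odd.2 w.odd_a (even_iff_two_dvd.2 h1)

theorem r_odd : orderOf x ≠ 2 := fun h => by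
  rcases w.invol_ind h with e | e
  exacts [w.nne e.symm, w.mne e.symm]

theorem coprime_two {u : G} (hu : orderOf u = 2) : (orderOf u).Coprime (orderOf x) := by
  rw [hu]
  exact (Nat.coprime_primes Nat.prime_two w.xp).2 (Ne.symm w.r_odd)

/-- An `r`-subgroup containing `x` centralises it. -/
theorem le_cen {R : Subgroup G} (hR : IsPGroup (orderOf x) R) (hx : x ∈ R) : R ≤ cen x := by
  haveI := Fact.mk w.xp
  haveI : Group.IsNilpotent R := hR.isNilpotent
  by_contra hle
  have hlt : (cen x).subgroupOf R < ⊤ := by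
    rw [lt_top_iff_ne_top, Ne, Subgroup.subgroupOf_eq_top]
    exact hle
  obtain ⟨⟨g, hgR⟩, hgN, hgW⟩ := SetLike.exists_of_lt
    (Group.normalizerCondition_of_isNilpotent (G := R) _ hlt)
  have h1 := (Subgroup.mem_normalizer_iff.1 hgN ⟨x, hx⟩).1 (Subgroup.mem_subgroupOf.2 (self_mem x))
  exact hgW (Subgroup.mem_subgroupOf.2 (w.mem_of_conj (Subgroup.mem_subgroupOf.1 h1)))

theorem eq_of_pgroup {R : Subgroup G} (hR : IsPGroup (orderOf x) R) (hx : x ∈ R) {g : G}
    (hg : g * x * g⁻¹ ∈ R) : g * x * g⁻¹ = x :=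
  w.iso g (w.le_cen hR hx hg)

theorem mult {g : G} (hg : g ≠ 1) (hd : ind x ∣ ind g) (hne : ind g ≠ ind x) : ind g = n ∨ ind g = m := by
  rcases w.vals g hg with e | e | e | e
  · exact absurd e hne
  · exact Or.inl e
  · exact Or.inr e
  · exact absurd (Nat.eq_one_of_dvd_coprimes w.cop dvd_rfl (e ▸ hd)) (w.rank.one_lt w.x_ne).ne'

theorem exists_sylow {u : G} (hu : orderOf u = 2) (hux : u ∈ cen x) :
    ∃ S : Sylow 2 G, u ∈ (S : Subgroup G) ∧ (S : Subgroup G) ≤ cen x := by
  obtain ⟨P, hP⟩ := (IsPGroup.of_card (n := 1) (by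
    rw [Nat.card_zpowers, ← Subgroup.orderOf_coe, pow_one]; exact hu) :
    IsPGroup 2 (Subgroup.zpowers (⟨u, hux⟩ : cen x))).exists_le_sylow
  haveI : Fact (Nat.Prime 2) := ⟨Nat.prime_two⟩
  obtain ⟨S, hS⟩ := (P.isPGroup'.map (cen x).subtype).exists_le_sylow
  have hSP : (S : Subgroup G) = (P : Subgroup (cen x)).map (cen x).subtype := by
    refine (Subgroup.eq_of_le_of_card_ge hS (le_of_eq ?_)).symm
    rw [Subgroup.card_subtype, S.card_eq_multiplicity, P.card_eq_multiplicity, ← card_mul_ind x,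
      Nat.factorization_mul Nat.card_pos.ne' (index_pos x).ne', Finsupp.add_apply,
      Nat.factorization_eq_zero_of_not_dvd w.odd_a.not_two_dvd_nat, add_zero]
  exact ⟨S, hSP ▸ ⟨_, hP (Subgroup.mem_zpowers _), rfl⟩, hSP ▸ Subgroup.map_subtype_le _⟩

/-- The centraliser of a middle involution. -/
theorem middle {u : G} (hu : orderOf u = 2) (hux : u ∈ cen x) (hne : ¬ cen u ≤ cen x) :
    ∃ H : Subgroup (cen u), Odd (Nat.card H) ∧ (∃ k : ℕ, H.index = 2 ^ k) ∧
      (⟨x, mem_symm hux⟩ : cen u) ∈ H ∧ (∀ y ∈ H, y * (⟨x, mem_symm hux⟩ : cen u) = ⟨x, mem_symm hux⟩ * y) ∧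
      Group.IsSolvable (cen u) ∧ ∃ k : ℕ, ind (u * x) = 2 ^ k * ind u := by
  haveI : Fact (Nat.Prime 2) := ⟨Nat.prime_two⟩
  have hu1 := ne_one_of_orderOf (by norm_num) hu
  have hxu : x ∈ cen u := mem_symm hux
  have hco := w.coprime_two hu
  obtain ⟨hd1, hd2⟩ := ind_mul_dvd hxu hco
  have hne1 : ind (u * x) ≠ ind u := fun e => hne (cen_le_of_ind_mul hxu hco e)
  have hxa : ind (u * x) ≠ ind x := fun e => by
    rcases w.invol_ind hu with e' | e'
    exacts [w.nne (e' ▸ w.xmin u hu1 (e ▸ hd1)), w.mne (e' ▸ w.xmin u hu1 (e ▸ hd1))]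
  have hM := w.mult (mul_ne_one_of_coprime hu1 hco) hd2 hxa
  have hN := w.invol_ind hu
  set e := (cen (⟨x, hxu⟩ : cen u)).index with he
  have hee : e * ind u = ind (u * x) := index_cen_mul hxu hco
  have he1 : e ≠ 1 := fun h => hne1 (by rw [← hee, h, one_mul])
  have h1 : ∀ y : cen u, Odd (orderOf y) → (cen y).index = 1 ∨ (cen y).index = e := by
    rintro ⟨y, hy⟩ hodd
    rw [Subgroup.orderOf_mk] at hodd
    have hcy : (orderOf u).Coprime (orderOf y) := by rw [hu]; exact Nat.coprime_two_left.2 hodd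
    have hi := index_cen_mul hy hcy
    obtain ⟨hy1, -⟩ := ind_mul_dvd hy hcy
    have hau : ind x ∣ ind u := by
      rcases hN with e' | e' <;> rw [e']
      exacts [w.an, w.am]
    have hneq : ind (u * y) ≠ ind x := fun h => by
      have := w.xmin u hu1 (h ▸ hy1)
      rcases hN with e' | e'
      exacts [w.nne (e' ▸ this), w.mne (e' ▸ this)]
    have hY := w.mult (mul_ne_one_of_coprime hu1 hcy) (hau.trans hy1) hneq
    by_cases hyu : ind (u * y) = ind u
    · left
      rw [hyu] at hi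
      exact Nat.eq_of_mul_eq_mul_right (index_pos u) (hi.trans (one_mul _).symm)
    · right
      have : ind (u * y) = ind (u * x) := by omega
      rw [this, ← hee] at hi
      exact Nat.eq_of_mul_eq_mul_right (index_pos u) hi
  have hxodd : Odd (orderOf (⟨x, hxu⟩ : cen u)) := by
    rw [Subgroup.orderOf_mk]; exact w.xp.odd_of_ne_two w.r_odd
  have hxr : orderOf (⟨x, hxu⟩ : cen u) = orderOf x := Subgroup.orderOf_mk _ _
  haveI := Fact.mk w.xp
  -- a Sylow subgroup containing `x`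
  obtain ⟨R, hR⟩ := (IsPGroup.of_card (n := 1) (by rw [Nat.card_zpowers, hxr, pow_one]) :
    IsPGroup (orderOf x) (Subgroup.zpowers (⟨x, hxu⟩ : cen u))).exists_le_sylow
  have hxR : (⟨x, hxu⟩ : cen u) ∈ (R : Subgroup (cen u)) := hR (Subgroup.mem_zpowers _)
  have hRc : ∀ y ∈ (R : Subgroup (cen u)), y * (⟨x, hxu⟩ : cen u) = ⟨x, hxu⟩ * y := fun y hy =>
    Subtype.ext (mem_cen.1 (w.le_cen (R.isPGroup'.map (cen u).subtype) ⟨_, hxR, rfl⟩ ⟨y, hy, rfl⟩))
  have hH : ∃ H : Subgroup (cen u), Odd (Nat.card H) ∧ (∃ k : ℕ, H.index = 2 ^ k) ∧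
      (⟨x, hxu⟩ : cen u) ∈ H ∧ ∀ y ∈ H, y * (⟨x, hxu⟩ : cen u) = ⟨x, hxu⟩ * y := by
    rcases reg_two he1 h1 ⟨_, hxodd, rfl⟩ with ⟨H, hHc, hH2, k, hk⟩ | ⟨q, _, P, Q, A, hq2, hA, hPQ, hn, hinf, hsup⟩
    · have hrk : ¬ orderOf x ∣ 2 ^ k := fun h => w.r_odd
        ((Nat.prime_dvd_prime_iff_eq w.xp Nat.prime_two).1 (w.xp.dvd_of_dvd_pow h))
      obtain ⟨P0⟩ : Nonempty (Sylow (orderOf x) H) := inferInstance
      obtain ⟨T, hT⟩ := (P0.isPGroup'.map H.subtype).exists_le_sylow
      have hTP : (T : Subgroup (cen u)) = (P0 : Subgroup H).map H.subtype := by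
        refine (Subgroup.eq_of_le_of_card_ge hT (le_of_eq ?_)).symm
        rw [Subgroup.card_subtype, T.card_eq_multiplicity, P0.card_eq_multiplicity, ← H.card_mul_index,
          hk, Nat.factorization_mul Nat.card_pos.ne' (by positivity), Finsupp.add_apply,
          Nat.factorization_eq_zero_of_not_dvd hrk, add_zero]
      obtain ⟨g, hg⟩ := MulAction.exists_smul_eq (cen u) T R
      refine ⟨H.map (MulAut.conj g).toMonoidHom, ?_, ⟨k, ?_⟩, ?_, ?_⟩
      · rw [Subgroup.card_map_of_injective (MulAut.conj g).injective, ← Nat.not_even_iff_odd, even_iff_two_dvd]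
        exact hH2
      · rw [← hk]
        exact Subgroup.index_map_equiv H (MulAut.conj g)
      · rw [← hg, Sylow.coe_subgroup_smul] at hxR
        obtain ⟨y, hy, hyx⟩ := hxR
        exact ⟨y, Subgroup.map_subtype_le _ (hTP ▸ hy), hyx⟩
      · have hx' : (⟨x, hxu⟩ : cen u) ∈ H.map (MulAut.conj g).toMonoidHom := by
          rw [← hg, Sylow.coe_subgroup_smul] at hxR
          obtain ⟨y, hy, hyx⟩ := hxR
          exact ⟨y, Subgroup.map_subtype_le _ (hTP ▸ hy), hyx⟩
        rintro _ ⟨y, hy, rfl⟩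
        obtain ⟨y', hy', e'⟩ := hx'
        rw [← e', ← map_mul, ← map_mul,
          show y * y' = y' * y from congrArg Subtype.val (hHc.is_comm.comm (⟨y, hy⟩ : H) ⟨y', hy'⟩)]
    · have hcardC : Nat.card (cen u) = Nat.card P * Nat.card Q * Nat.card A := by
        haveI := hn
        have hc : Subgroup.IsComplement' ((P : Subgroup (cen u)) ⊔ (Q : Subgroup (cen u))) A :=
          Subgroup.isComplement'_of_disjoint_and_mul_eq_univ (disjoint_iff.2 hinf)
            (by rw [← Subgroup.normal_mul, hsup, Subgroup.coe_top])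
        rw [← hc.card_mul, hPQ]
      haveI : A.Normal := ⟨fun y hy g => by
        rw [Subgroup.mem_center_iff.1 (hA hy) g, mul_inv_cancel_right]; exact hy⟩
      by_cases hrq : orderOf x = q
      · have hRQ : Nat.card R = Nat.card Q := by
          rw [R.card_eq_multiplicity, Q.card_eq_multiplicity, hrq]
        have hAodd : (Nat.card A).Coprime 2 := by
          rw [Nat.coprime_comm, Nat.prime_two.coprime_iff_not_dvd]
          intro hd
          refine Nat.pow_succ_factorization_not_dvd (Nat.card_pos (α := cen u)).ne' Nat.prime_two ?_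
          have h3 : Nat.card P * 2 ∣ Nat.card (cen u) := by
            rw [hcardC, mul_assoc]
            exact Nat.mul_dvd_mul_left _ (Dvd.dvd.mul_left hd _)
          rwa [P.card_eq_multiplicity, ← pow_succ] at h3
        have hRodd : (Nat.card R).Coprime 2 := by
          rw [R.card_eq_multiplicity]
          exact ((Nat.coprime_primes w.xp Nat.prime_two).2 w.r_odd).pow_left _
        have hcopRA : (Nat.card R).Coprime (Nat.card A) := by
          rw [R.card_eq_multiplicity]
          refine (w.xp.coprime_iff_not_dvd.2 fun hd => ?_).pow_left _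
          refine Nat.pow_succ_factorization_not_dvd (Nat.card_pos (α := cen u)).ne' w.xp ?_
          have h3 : Nat.card R * orderOf x ∣ Nat.card (cen u) := by
            rw [hcardC, ← hRQ, mul_comm (Nat.card P), mul_assoc]
            exact Nat.mul_dvd_mul_left _ (Dvd.dvd.mul_left hd _)
          rwa [R.card_eq_multiplicity, ← pow_succ] at h3
        refine ⟨(R : Subgroup (cen u)) ⊔ A, ?_, ?_, Subgroup.mem_sup_left hxR, ?_⟩
        · exact Nat.coprime_two_right.1 (PBasic.coprime_card_sup_of_normal _ _ hRodd hAodd)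
        · have h4 : Nat.card R * Nat.card A ∣ Nat.card ↥((R : Subgroup (cen u)) ⊔ A) :=
            hcopRA.mul_dvd_of_dvd_of_dvd (Subgroup.card_dvd_of_le le_sup_left)
              (Subgroup.card_dvd_of_le le_sup_right)
          have h5 : ((R : Subgroup (cen u)) ⊔ A).index ∣ Nat.card P := by
            obtain ⟨c, hc⟩ := h4
            have h6 := ((R : Subgroup (cen u)) ⊔ A).card_mul_index
            rw [hc, hcardC, ← hRQ] at h6
            refine ⟨c, Nat.eq_of_mul_eq_mul_left
              (Nat.mul_pos (Nat.card_pos (α := R)) (Nat.card_pos (α := A))) ?_⟩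
            calc Nat.card R * Nat.card A * Nat.card P = Nat.card P * Nat.card R * Nat.card A := by ring
              _ = Nat.card R * Nat.card A * c * _ := h6.symm
              _ = _ := by ring
          obtain ⟨j, hj⟩ := P.isPGroup'.exists_card_eq
          obtain ⟨i, -, hi⟩ := (Nat.dvd_prime_pow Nat.prime_two).1 (hj ▸ h5)
          exact ⟨i, hi⟩
        · intro y hy
          have hle : (R : Subgroup (cen u)) ⊔ A ≤ cen (⟨x, hxu⟩ : cen u) := sup_le
            (fun y hy => mem_cen.2 (hRc y hy))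
            fun y hy => mem_cen.2 (Subgroup.mem_center_iff.1 (hA hy) _).symm
          exact mem_cen.1 (hle hy)
      · -- `x` would be central
        exfalso
        haveI := hn
        refine he1 (Subgroup.index_eq_one.2 (eq_top_iff.2 fun y _ => mem_cen.2 ?_))
        have hx0 : (⟨x, hxu⟩ : cen u) ∈ A := by
          have hmem : (⟨x, hxu⟩ : cen u) ∈ ((P : Subgroup (cen u)) ⊔ (Q : Subgroup (cen u))) ⊔ A := by
            rw [hsup]; exact Subgroup.mem_top _
          obtain ⟨p, hp, b, hb, hpb⟩ := Subgroup.mem_sup_of_normal_right.1 hmem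
          set N := Nat.card ↥((P : Subgroup (cen u)) ⊔ (Q : Subgroup (cen u)))
          have hpN : p ^ N = 1 := orderOf_dvd_iff_pow_eq_one.1 (Subgroup.orderOf_dvd_natCard _ hp)
          have hcb : Commute p b := (Subgroup.mem_center_iff.1 (hA hb) p)
          have hxN : (⟨x, hxu⟩ : cen u) ^ N ∈ A := by
            rw [← hpb, hcb.mul_pow, hpN, one_mul]; exact A.pow_mem hb _
          have hcN : (orderOf (⟨x, hxu⟩ : cen u)).Coprime N := by
            rw [hxr]
            simp only [N, hPQ, P.card_eq_multiplicity, Q.card_eq_multiplicity]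
            exact Nat.Coprime.mul_right (((Nat.coprime_primes w.xp Nat.prime_two).2 w.r_odd).pow_right _)
              (((Nat.coprime_primes w.xp (Fact.out : q.Prime)).2 hrq).pow_right _)
          obtain ⟨i, hi⟩ := exists_pow_eq_self_of_coprime hcN.symm
          rw [← hi]
          exact A.pow_mem hxN i
        exact Subgroup.mem_center_iff.1 (hA hx0) y
  obtain ⟨H, hH1, ⟨k, hk⟩, hH3, hH4⟩ := hH
  obtain ⟨i, -, hi⟩ := (Nat.dvd_prime_pow Nat.prime_two).1 (hk ▸ Subgroup.index_dvd_of_le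
    (fun y hy => mem_cen.2 (hH4 y hy) : H ≤ cen (⟨x, hxu⟩ : cen u)))
  exact ⟨H, hH1, ⟨k, hk⟩, hH3, hH4, solvable_of_sizes Nat.prime_two h1
    (fun p hp hd => Or.inl ((Nat.prime_dvd_prime_iff_eq hp Nat.prime_two).1 (hp.dvd_of_dvd_pow (show p ∣ 2 ^ i from hi ▸ (he ▸ hd))))),
    i, by rw [← hee, he, hi]⟩

theorem cen_z_le {u : G} (hu : orderOf u = 2) {S : Sylow 2 G} (hS : (S : Subgroup G) ≤ cen x)
    (huS : (S : Subgroup G) ≤ cen u) : cen u ≤ cen x := by
  by_contra hne
  haveI : Fact (Nat.Prime 2) := ⟨Nat.prime_two⟩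
  obtain ⟨P, hP⟩ := (IsPGroup.of_card (n := 1) (by rw [Nat.card_zpowers, hu, pow_one]) :
    IsPGroup 2 (Subgroup.zpowers u)).exists_le_sylow
  have hux : u ∈ cen x := by
    have h1 : (S : Subgroup G) ⊔ Subgroup.zpowers u = (S : Subgroup G) := by
      refine S.is_maximal' ?_ le_sup_left
      refine S.isPGroup'.to_sup_of_normal_left' (IsPGroup.of_card (n := 1) (by
        rw [Nat.card_zpowers, hu, pow_one])) (le_trans ?_ (Subgroup.centralizer_le_normalizer _))
      rw [Subgroup.zpowers_le, Subgroup.mem_centralizer_iff]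
      exact fun y hy => mem_cen.1 (huS hy)
    exact hS (h1 ▸ Subgroup.mem_sup_right (Subgroup.mem_zpowers u))
  obtain ⟨-, -, -, -, -, -, i, hi⟩ := w.middle hu hux hne
  have hodd : ¬ 2 ∣ ind (u * x) := fun h => S.not_dvd_index (h.trans (Subgroup.index_dvd_of_le (by
    exact (le_inf huS hS).trans (cen_mul (mem_symm hux) (w.coprime_two hu)).ge)))
  rcases Nat.eq_zero_or_pos i with rfl | hi0
  · exact hne (cen_le_of_ind_mul (mem_symm hux) (w.coprime_two hu) (by rw [hi, pow_zero, one_mul]))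
  · exact hodd (hi ▸ Dvd.dvd.mul_right (dvd_pow_self 2 hi0.ne') _)

/-- Centralisers of the involutions of `cen x` lie in it. -/
theorem cen_le {u : G} (hu : orderOf u = 2) (hux : u ∈ cen x) : cen u ≤ cen x := by
  by_contra hne
  haveI : Fact (Nat.Prime 2) := ⟨Nat.prime_two⟩
  obtain ⟨S, huS, hSx⟩ := w.exists_sylow hu hux
  haveI : Nontrivial (S : Subgroup G) :=
    (Subgroup.nontrivial_iff_ne_bot _).2 fun e => ne_one_of_orderOf (by norm_num) hu
      (Subgroup.mem_bot.1 (e ▸ huS))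
  haveI := S.isPGroup'.center_nontrivial
  obtain ⟨⟨t, htc⟩, ht⟩ := exists_prime_orderOf_dvd_card' (G := Subgroup.center (S : Subgroup G)) 2 (by
    obtain ⟨k, hk⟩ := (S.isPGroup'.to_subgroup (Subgroup.center (S : Subgroup G))).exists_card_eq
    rw [hk]
    exact dvd_pow_self 2 fun h => (Finite.one_lt_card (α := Subgroup.center (S : Subgroup G))).ne'
      (by rw [hk, h, pow_zero]))
  rw [Subgroup.orderOf_mk, ← Subgroup.orderOf_coe] at ht
  have hSt : (S : Subgroup G) ≤ cen (t : G) := fun y hy => mem_cen.2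
    (congrArg Subtype.val (Subgroup.mem_center_iff.1 htc ⟨y, hy⟩))
  have htx := w.cen_z_le ht hSx hSt
  have htu : (t : G) ∈ cen u := mem_symm (hSt huS)
  obtain ⟨H, hH1, ⟨k, hk⟩, hxH, hHc, hsol, i, hi⟩ := w.middle hu hux hne
  haveI := hsol
  set xx : cen u := ⟨x, mem_symm hux⟩ with hxx
  have hxo : orderOf xx = orderOf x := Subgroup.orderOf_mk _ _
  have hxc : (orderOf xx).Coprime 2 := by
    rw [hxo]; exact (Nat.coprime_primes w.xp Nat.prime_two).2 w.r_odd
  haveI hUn : (Cfsg.pCore 2 (cen u)).Normal := Subgroup.sSup_normal _ fun _ h => h.1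
  haveI hOn : (Cfsg.pPrimeCore 2 (cen u)).Normal := Subgroup.sSup_normal _ fun _ h => h.1
  have htz : IsPGroup 2 (Subgroup.zpowers (⟨t, htu⟩ : cen u)) :=
    IsPGroup.of_card (n := 1) (by rw [Nat.card_zpowers, Subgroup.orderOf_mk, ht, pow_one])
  have hU := CharP.pxq (R := Cfsg.pCore 2 (cen u)) (U := Subgroup.zpowers (⟨t, htu⟩ : cen u)) (x := xx)
    (PBasic.pCore_isPGroup 2 _) htz (by rw [Subgroup.normalizer_eq_top]; exact le_top) hxc
    (by rw [Subgroup.normalizer_eq_top]; exact Subgroup.mem_top _) (by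
      intro y hy
      obtain ⟨j, rfl⟩ := Subgroup.mem_zpowers_iff.1 hy
      exact (Commute.zpow_right (show Commute xx ⟨t, htu⟩ from
        Subtype.ext (mem_cen.1 (hSx (t : (S : Subgroup G)).2)).symm) j).eq) (by
      intro r _ hr
      refine Subtype.ext (mem_cen.1 (htx (mem_cen.2 ?_))).symm
      exact congrArg Subtype.val (hr _ (Subgroup.mem_zpowers _)))
  have hOH : Cfsg.pPrimeCore 2 (cen u) ≤ H := by
    have h1 := PBasic.coprime_card_sup_of_normal (p := 2) H (Cfsg.pPrimeCore 2 (cen u))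
      (Nat.coprime_two_right.2 hH1) (PBasic.pPrimeCore_coprime 2 _)
    have h2 : Nat.card ↥(H ⊔ Cfsg.pPrimeCore 2 (cen u)) ∣ Nat.card H := by
      refine (h1.pow_right k).dvd_of_dvd_mul_right ?_
      rw [← hk, H.card_mul_index]
      exact Subgroup.card_subgroup_dvd_card _
    exact le_sup_right.trans
      (Subgroup.eq_of_le_of_card_ge le_sup_left (Nat.le_of_dvd Nat.card_pos h2)).ge
  have hxO : xx ∈ Cfsg.pPrimeCore 2 (cen u) := mem_oddCore (C := cen u) w.xp w.r_odd (pel_of_orderOf hxo)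
    hU fun y hy => (hHc y (hOH hy)).symm
  refine hne fun g hg => ?_
  have h3 := hOn.conj_mem xx hxO ⟨g, hg⟩
  exact w.mem_of_conj (mem_cen.2 (congrArg Subtype.val (hHc _ (hOH h3))))

theorem false : False := by
  classical
  haveI : Fact (Nat.Prime 2) := ⟨Nat.prime_two⟩
  haveI := w.rank.simple
  have hMne : cen x ≠ ⊤ := fun h =>
    (w.rank.one_lt w.x_ne).ne' (show (cen x).index = 1 by rw [h, Subgroup.index_top])
  have hGeven : 2 ∣ Nat.card G := by
    by_contra hodd
    haveI : Group.IsSolvable G := S0205.result (Nat.odd_iff.2 (by omega))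
    obtain ⟨a, b, hab⟩ := w.rank.nonab
    exact hab (IsSimpleGroup.comm_iff_isSolvable.2 inferInstance a b)
  have hMeven : Even (Nat.card (cen x)) := by
    rw [w.card] at hGeven
    rw [w.cardx, even_iff_two_dvd]
    exact (Nat.prime_two.dvd_mul.1 hGeven).resolve_left w.odd_a.not_two_dvd_nat
  obtain ⟨t0, ht0x, ht0⟩ := Invol.exists_invol hMeven
  have hSE : Cfsg.IsStronglyEmbedded (cen x) := by
    obtain ⟨T⟩ : Nonempty (Sylow 2 (cen x)) := inferInstance
    refine Invol.se_of_centralizers hMne T hMeven (fun g hg => ?_) fun t htx ht => w.cen_le ht htx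
    obtain ⟨P, hP⟩ := (IsPGroup.of_card (n := 1) (by
      rw [Nat.card_zpowers, ← Subgroup.orderOf_coe, pow_one]; exact ht0) :
      IsPGroup 2 (Subgroup.zpowers (⟨t0, ht0x⟩ : cen x))).exists_le_sylow
    obtain ⟨⟨s, hs⟩, hso⟩ := exists_prime_orderOf_dvd_card' (G := (T : Subgroup (cen x))) 2
      (T.dvd_card_of_dvd_card hMeven.two_dvd)
    rw [Subgroup.orderOf_mk, ← Subgroup.orderOf_coe] at hso
    have hsT : (s : G) ∈ (T : Subgroup (cen x)).map (cen x).subtype := ⟨s, hs, rfl⟩
    refine w.mem_of_conj (w.cen_le hso s.2 (mem_cen.2 ?_))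
    have h1 : g⁻¹ * (s : G) * g ∈ (T : Subgroup (cen x)).map (cen x).subtype := by
      have := (Subgroup.mem_normalizer_iff.1 (inv_mem hg) (s : G)).1 hsT
      rwa [inv_inv] at this
    have h2 := mem_cen.1 (Subgroup.map_subtype_le _ h1)
    calc g * x * g⁻¹ * s = g * (x * (g⁻¹ * s * g)) * g⁻¹ := by group
      _ = g * (g⁻¹ * s * g * x) * g⁻¹ := by rw [h2]
      _ = s * (g * x * g⁻¹) := by group
  -- a second involution
  obtain ⟨t1, ht1x, ht1, ht01⟩ : ∃ t1 ∈ cen x, orderOf t1 = 2 ∧ t1 ≠ t0 := by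
    by_contra! hc
    have hcen : cen x ≤ cen t0 := fun g hg => by
      have h1 : g * t0 * g⁻¹ = t0 := hc _ (mul_mem (mul_mem hg ht0x) (inv_mem hg))
        (by rw [Invol.order_conj, ht0])
      exact mem_cen.2 (mul_inv_eq_iff_eq_mul.1 h1)
    have h1 := w.xmin t0 (ne_one_of_orderOf (by norm_num) ht0) (ind_dvd hcen)
    rcases w.invol_ind ht0 with e | e
    exacts [w.nne (e ▸ h1), w.mne (e ▸ h1)]
  obtain ⟨g, hg⟩ : ∃ g, g ∉ cen x := by
    by_contra! hc
    exact hMne (eq_top_iff.2 fun g _ => hc g)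
  set p0 : G ⧸ cen x := ((1 : G) : G ⧸ cen x) with hp0
  set p1 : G ⧸ cen x := (g : G ⧸ cen x) with hp1
  have hp01 : p0 ≠ p1 := by
    rw [hp0, hp1, Ne, QuotientGroup.eq, inv_one, one_mul]; exact hg
  have hfix : ∀ {t : G}, t ∈ cen x → t • p0 = p0 := fun {t} ht => by
    rw [hp0, MulAction.Quotient.smul_mk, QuotientGroup.eq, smul_eq_mul, mul_one, mul_one]
    exact inv_mem ht
  set u := g * t0 * g⁻¹ with hu
  have huo : orderOf u = 2 := by rw [hu, Invol.order_conj, ht0]
  have hufix : u • p1 = p1 := by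
    rw [hp1, MulAction.Quotient.smul_mk, QuotientGroup.eq, smul_eq_mul, hu,
      show (g * t0 * g⁻¹ * g)⁻¹ * g = t0⁻¹ by group]
    exact inv_mem ht0x
  obtain ⟨w0, hw0, hw0x, hw0c⟩ := Invol.se_swap hSE ht0 huo (hfix ht0x) hufix hp01
  obtain ⟨w1, hw1, hw1x, hw1c⟩ := Invol.se_swap hSE ht1 huo (hfix ht1x) hufix hp01
  have hne : w0 ≠ w1 := fun h => ht01 (by
    rw [h] at hw0c
    exact mul_left_cancel (mul_right_cancel (hw1c.trans hw0c.symm)))
  have hback : ∀ {v : G}, orderOf v = 2 → v • p0 = p1 → v • p1 = p0 := fun {v} hv hvx => by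
    rw [← hvx, ← mul_smul, Invol.mul_self hv, one_smul]
  set d := w0 * w1 with hd
  have hd0 : d • p0 = p0 := by rw [hd, mul_smul, hw1x, hback hw0 hw0x]
  have hd1' : d • p1 = p1 := by rw [hd, mul_smul, hback hw1 hw1x, hw0x]
  have hd1 : d ≠ 1 := fun h => hne (by
    rw [← Invol.inv_self hw1]
    exact eq_inv_of_mul_eq_one_left h)
  have hw0M : w0 ∉ cen x := fun h => hp01 ((hfix h).symm.trans hw0x)
  have hdM : d ∈ cen x := by
    have := hd0
    rw [hp0, MulAction.Quotient.smul_mk, QuotientGroup.eq, smul_eq_mul, mul_one, mul_one] at this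
    exact inv_mem_iff.1 this
  have hdM1 : w0 * d * w0⁻¹ ∈ cen x := by
    have h1 : (w0 * d * w0⁻¹) • p0 = p0 := by
      rw [mul_smul, mul_smul, Invol.inv_self hw0, hw0x, hd1', hback hw0 hw0x]
    rw [hp0, MulAction.Quotient.smul_mk, QuotientGroup.eq, smul_eq_mul, mul_one, mul_one] at h1
    exact inv_mem_iff.1 h1
  have hodd : Odd (orderOf d) := by
    refine (hSE.2.2 w0 hw0M).of_dvd_nat (Subgroup.orderOf_dvd_natCard _ ⟨hdM, Invol.mem_conj_map.2 ?_⟩)
    rw [Invol.inv_self hw0] at hdM1 ⊢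
    exact hdM1
  obtain ⟨q, j, hq, hqd, hj⟩ := exists_prime_pow hd1
  set k := d ^ j with hk
  have hk1 := ne_one_of_orderOf hq.ne_one hj
  have hkodd : Odd (orderOf k) := hj ▸ hodd.of_dvd_nat hqd
  have hinv : w0 * k * w0⁻¹ = k⁻¹ := by
    rw [hk, ← conj_pow, ← inv_pow]
    congr 1
    rw [hd, mul_inv_rev, Invol.inv_self hw0, Invol.inv_self hw1,
      show w0 * (w0 * w1) * w0 = (w0 * w0) * w1 * w0 by group, Invol.mul_self hw0, one_mul]
  have h2 := two_dvd_ind_of_real hkodd hk1 hinv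
  have hkx : k ∈ cen x := hk ▸ (cen x).pow_mem hdM j
  set x' := w0 * x * w0⁻¹ with hx'
  have hkx' : x' ∈ cen k := by
    have h1 := conj_mem_cen (mem_symm hkx) w0
    rw [hinv, cen_inv] at h1
    exact h1
  have hx'x : x' ≠ x := fun e => hw0M (mem_cen.2 (mul_inv_eq_iff_eq_mul.1 e))
  have hcases : ind k = n ∨ ind k = m := by
    rcases w.vals k hk1 with e | e | e | e
    · exact absurd (e ▸ h2) w.odd_a.not_two_dvd_nat
    · exact Or.inl e
    · exact Or.inr e
    · exfalso
      have hcop : (ind x).Coprime (ind k) := e ▸ w.cop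
      exact w.rank.not_comm_of_coprime w.x_ne hk1 hcop (mem_symm hkx)
  have hmax : IsMax G (ind k) := by
    intro g' hg' hdd
    have hax : ind x ∣ ind g' := by
      refine dvd_trans ?_ hdd
      rcases hcases with e | e <;> rw [e]
      exacts [w.an, w.am]
    have hne' : ind g' ≠ ind x := fun e => w.odd_a.not_two_dvd_nat (e ▸ h2.trans hdd)
    by_contra hneq
    obtain ⟨T, htT, hTx⟩ := w.exists_sylow ht0 ht0x
    obtain ⟨y, hy, hy1, hyk⟩ := exists_not_dvd w.rank.center Nat.prime_two hGeven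
    obtain ⟨i, hi⟩ := hyk
    have hbad : ∀ g : G, g ≠ 1 → ¬ 2 ∣ ind g → ind g = n ∨ ind g = m → False := by
      intro g hg hodd' hcg
      rcases hcases with e1 | e1 <;> rcases w.mult hg' hax hne' with e2 | e2 <;>
        rcases hcg with e3 | e3 <;>
          first
          | exact hneq (e2.trans e1.symm)
          | exact hodd' (by rw [e3, ← e1]; exact h2)
          | exact hodd' (by rw [e3, ← e2]; exact h2.trans hdd)
    -- an involution central in a Sylow subgroup
    obtain ⟨P, hP⟩ := (IsPGroup.of_card (n := i) (by rw [Nat.card_zpowers, hi]) :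
      IsPGroup 2 (Subgroup.zpowers y)).exists_le_sylow
    have hi0 : i ≠ 0 := fun h => hy (orderOf_eq_one_iff.1 (by rw [hi, h, pow_zero]))
    have ho : orderOf (y ^ 2 ^ (i - 1)) = 2 := by
      rw [orderOf_pow_of_dvd (pow_ne_zero _ two_ne_zero) (hi ▸ pow_dvd_pow 2 (Nat.sub_le i 1)), hi,
        Nat.pow_div (Nat.sub_le i 1) (by norm_num), show i - (i - 1) = 1 by omega, pow_one]
    exact hbad _ (ne_one_of_orderOf (by norm_num) ho)
      (fun h => hy1 (h.trans (ind_dvd (le_cen_pow y _)))) (w.invol_ind ho)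
  by_cases hqr : q = orderOf x
  · obtain ⟨-, R, hR, -, hmem⟩ := nilpotent_of_central (C := cen k) hq fun v hv hco y hy =>
      mem_cen.1 (cen_le_of_isMax hk1 hmax hv (hj ▸ hco.symm) hy)
    rw [hqr] at hR hmem
    have hpx : ∀ y : G, orderOf y = orderOf x → ∃ i : ℕ, y ^ orderOf x ^ i = 1 := fun y hy =>
      ⟨1, by rw [pow_one, ← hy, pow_orderOf_eq_one]⟩
    exact hx'x (w.eq_of_pgroup hR (hmem x (mem_symm hkx) (hpx x rfl))
      (hmem x' hkx' (hpx x' (by rw [hx', Invol.order_conj]))))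
  · have hle := cen_le_of_isMax hk1 hmax (mem_symm hkx) (by
      rw [hj]; exact (Nat.coprime_primes hq w.xp).2 hqr)
    exact hx'x (w.iso w0 (hle hkx'))

end Wd

end Cfsg.Agent.ConjRankFour
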